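import Groth.Agent.ProjRecLib.Sections
import Groth.Agent.ProjRecLib.Push
import Groth.Agent.ProjBunLib.Exists
import Groth.Agent.CycPBLib.ProjBC
import Groth.Agent.PicPnLib.BaseChange
import Groth.Agent.KFlatLib.PerfectPull
import Groth.Prelude.Def_KRR

/-!
# Projective bundles are locally projective spaces, together with their tautological modules
-/

set_option autoImplicit false
set_option linter.style.haveILetI false
set_option linter.unusedSectionVars false
set_option backward.isDefEq.respectTransparency false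
set_option backward.isDefEq.respectTransparency.types false
set_option maxHeartbeats 1000000

universe u

open CategoryTheory CategoryTheory.Limits AlgebraicGeometry TopologicalSpace
open KFlatLib (pb)
open ProjRecLib (univPt eq_of_rel)
open ProjBunLib

noncomputable section

namespace ProjKLib

open Groth.Agent

/-- Two projective bundles of the same module are isomorphic with their tautological modules. -/
theorem exists_unique_bundle {X P P' : Scheme.{u}} {E : X.Modules} {π : P ⟶ X} {π' : P' ⟶ X}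
    {O1 : P.Modules} {O1' : P'.Modules} {q : pb π E ⟶ O1} {q' : pb π' E ⟶ O1'}
    (hP : KRR.IsProjBundle π E O1 q) (hP' : KRR.IsProjBundle π' E O1' q') :
    ∃ h : P' ≅ P, h.hom ≫ π = π' ∧ Nonempty (pb h.hom O1 ≅ O1') := by
  obtain ⟨h, hh, -⟩ := hP.univ P' π' O1' hP'.invertible q' hP'.epi
  obtain ⟨k, hk, -⟩ := hP'.univ P π O1 hP.invertible q hP.epi
  have rh : ((univPt hP).map h).Rel (univPt hP') := (Pt.rel_map_iff h (univPt hP) (univPt hP')).2 hh
  have rk : ((univPt hP').map k).Rel (univPt hP) := (Pt.rel_map_iff k (univPt hP') (univPt hP)).2 hk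
  have e1 : h ≫ k = 𝟙 P' := eq_of_rel hP'
    ((((Pt.map_comp_rel h k (univPt hP')).symm.trans (Pt.map_rel h rk)).trans rh).trans (Pt.map_id_rel (univPt hP')).symm)
  have e2 : k ≫ h = 𝟙 P := eq_of_rel hP
    ((((Pt.map_comp_rel k h (univPt hP)).symm.trans (Pt.map_rel k rh)).trans rk).trans (Pt.map_id_rel (univPt hP)).symm)
  obtain ⟨hg, e, -⟩ := hh
  exact ⟨⟨h, k, e1, e2⟩, hg, ⟨e⟩⟩

/-- A chart: an affine open of the base over which the bundle is projective space. -/
structure Chart {T P : Scheme.{u}} (π : P ⟶ T) (O1 : P.Modules) (n : ℕ) where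
  R : CommRingCat.{u}
  i : Spec R ⟶ T
  open_i : IsOpenImmersion i
  j : KRR.PY n (Spec R) ⟶ P
  sq : IsPullback j (KRR.pr n (Spec R)) π i
  tw : pb j O1 ≅ Twist.twistOver n (Spec R) 1

instance {T P : Scheme.{u}} {π : P ⟶ T} {O1 : P.Modules} {n : ℕ} (c : Chart π O1 n) : IsOpenImmersion c.i := c.open_i

instance {T P : Scheme.{u}} {π : P ⟶ T} {O1 : P.Modules} {n : ℕ} (c : Chart π O1 n) : IsOpenImmersion c.j :=
  MorphismProperty.of_isPullback c.sq.flip c.open_i

/-- Projective space over an affine base is the projective bundle of the free module. -/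
theorem isProjBundle_free (n : ℕ) (R : CommRingCat.{u}) :
    ∃ (O : (KRR.PY n (Spec R)).Modules) (q : pb (KRR.pr n (Spec R)) (FlatMod.freeMod (Spec R) (n + 1)) ⟶ O),
      O = Twist.twistOver n (Spec R) 1 ∧ KRR.IsProjBundle (KRR.pr n (Spec R)) (FlatMod.freeMod (Spec R) (n + 1)) O q := by
  let S := Spec R
  let p := KRR.pr n S
  let L := Twist.twistOver n S 1
  haveI : IsProper p := ChowLib.isProper_toBase n S
  have hL : PicF.IsInvertible L := PicPnLib.twistOver_inv n S 1
  obtain ⟨j, hj, hd⟩ := PicPnLib.exists_square (n := n) (R := (R : Type u)) (𝟙 S)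
  let e : pullback p (𝟙 S) ≅ CohB1.ProjSpace n R := hj.isoPullback.symm
  have he : e.hom ≫ CohB1.ProjSpace.toSpec n R = pullback.snd p (𝟙 S) := hj.isoPullback_inv_snd
  obtain ⟨τ⟩ := hd 1
  have τ' : pb e.hom (Twist.twistProjSpace n R 1) ≅ pb (pullback.fst p (𝟙 S)) L :=
    (Scheme.Modules.pullback e.hom).mapIso τ.symm ≪≫ (Scheme.Modules.pullbackComp e.hom j).app L ≪≫
      (Scheme.Modules.pullbackCongr (hj.isoPullback_inv_fst)).app L
  obtain ⟨φ, -, -⟩ := ProjRecLib.exists_univOn_of_chart hL (𝟙 S) e he τ'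
  obtain ⟨hE, hP⟩ := ProjRecLib.isProjBundle_push (f := p) hL (n := n) fun b =>
    ⟨R, inferInstance, 𝟙 S, inferInstance, ⟨b, rfl⟩, e, he, ⟨τ'⟩⟩
  let O := (𝟙 S : S ⟶ S).opensRange
  have hO : O = ⊤ := Scheme.Hom.opensRange_of_isIso _
  let E' := (Scheme.Modules.pushforward p).obj L
  haveI : IsIso O.ι := by
    haveI : Surjective O.ι := ⟨fun x => ⟨⟨x, hO.ge trivial⟩, rfl⟩⟩
    exact (isIso_iff_isOpenImmersion_and_surjective _).2 ⟨inferInstance, inferInstance⟩
  let eE : E' ≅ FlatMod.freeMod S (n + 1) :=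
    ((Scheme.Modules.pullbackId S).app E').symm ≪≫
      (Scheme.Modules.pullbackCongr (IsIso.inv_hom_id O.ι).symm).app E' ≪≫
      ((Scheme.Modules.pullbackComp (inv O.ι) O.ι).app E').symm ≪≫
      (Scheme.Modules.pullback (inv O.ι)).mapIso
        (((Scheme.Modules.restrictFunctorIsoPullback O.ι).app E').symm ≪≫ φ) ≪≫
      KFlatLib.pullFreeIso (inv O.ι) (n + 1)
  exact ⟨L, _, rfl, ProjRecLib.isProjBundle_source hP eE.symm⟩

variable {T P : Scheme.{u}} {π : P ⟶ T} {E : T.Modules} {O1 : P.Modules} {q : pb π E ⟶ O1} {n : ℕ}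

/-- Over an affine open trivialising the module there is a chart. -/
theorem exists_chart_of_triv (hP : KRR.IsProjBundle π E O1 q) {R : CommRingCat.{u}} (i : Spec R ⟶ T)
    [IsOpenImmersion i] (φ : pb i E ≅ FlatMod.freeMod (Spec R) (n + 1)) :
    ∃ c : Chart π O1 n, c.i.opensRange = i.opensRange := by
  obtain ⟨O, q₀, rfl, h₀⟩ := isProjBundle_free n R
  have hbc := CycPBLib.isProjBundle_bc q hP (IsPullback.of_hasPullback π i)
  obtain ⟨h, hh, ⟨e⟩⟩ := exists_unique_bundle (ProjRecLib.isProjBundle_source hbc φ.symm) h₀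
  refine ⟨⟨R, i, inferInstance, h.hom ≫ pullback.fst π i, ?_, ?_⟩, rfl⟩
  · exact IsPullback.of_iso (IsPullback.of_hasPullback π i) h.symm (Iso.refl _) (Iso.refl _) (Iso.refl _)
      (by simp) (by simp [← hh]) (by simp) (by simp)
  · exact ((Scheme.Modules.pullbackComp h.hom (pullback.fst π i)).app O1).symm ≪≫ e

/-- There are charts over all small affine opens. -/
theorem exists_chart (hP : KRR.IsProjBundle π E O1 q) (hE : FlatMod.IsFinLocFreeOfRank (n + 1) E) (x : T) :
    ∃ U : T.Opens, x ∈ U ∧ ∀ V : T.Opens, IsAffineOpen V → V ≤ U → ∃ c : Chart π O1 n, c.i.opensRange = V := by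
  haveI : Coh.IsQCoh E := FinLFAnn.isQCoh_of_isFinLocFree fun y => by
    obtain ⟨U, hyU, hU⟩ := hE y
    exact ⟨U, n + 1, hyU, hU⟩
  obtain ⟨U, hx, ⟨φ₀⟩⟩ := hE x
  refine ⟨U, hx, fun V hV hVU => ?_⟩
  obtain ⟨b⟩ := FittLib.nonempty_basis_of_iso E φ₀ (V := V) hVU
  obtain ⟨φ⟩ := OmegaAffLib.nonempty_restrict_iso_freeMod hV E b
  let s := hV.isoSpec.inv
  have hs : s ≫ V.ι = hV.fromSpec := hV.isoSpec_inv_ι
  obtain ⟨c, hc⟩ := exists_chart_of_triv hP (n := n) hV.fromSpec
    (((Scheme.Modules.pullbackCongr hs).app E).symm ≪≫ ((Scheme.Modules.pullbackComp s V.ι).app E).symm ≪≫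
      (Scheme.Modules.pullback s).mapIso (((Scheme.Modules.restrictFunctorIsoPullback V.ι).app E).symm ≪≫ φ) ≪≫
      KFlatLib.pullFreeIso s (n + 1))
  exact ⟨c, hc.trans hV.opensRange_fromSpec⟩

end ProjKLib

end
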