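import Groth.Agent.ProjKLib.Props
import Groth.Agent.KRRRegLib.Push
import Groth.Agent.KRRRegLib.Bound
import Groth.Agent.KRRRegLib.PullLow
import Groth.Agent.KiehlLib.PushFree
import Groth.Agent.CohGenLib.Pro
import Groth.Agent.ResPropLib.VB
import Groth.Agent.VBResLib.GGen
import Groth.Agent.MiscFlat6.FreeStalks
import Groth.Agent.AmpleDevLib.Pull
import Groth.Agent.FormalCohLib.ProjAmple

/-!
# Regularity on a projective bundle, Serre vanishing, and direct images of acyclic bundles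
-/

set_option autoImplicit false
set_option linter.style.haveILetI false
set_option linter.unusedSectionVars false
set_option backward.isDefEq.respectTransparency false
set_option backward.isDefEq.respectTransparency.types false
set_option maxHeartbeats 1000000

universe u

open CategoryTheory CategoryTheory.Limits AlgebraicGeometry TopologicalSpace
open KFlatLib (pb)
open KRRRegLib (V twFun)

noncomputable section

namespace ProjKLib

open Groth.Agent

/-- Tensor products of bundles are bundles. -/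
theorem vb_tens {X : Scheme.{u}} {A B : X.Modules} (hA : FlatMod.IsFinLocFree A) (hB : FlatMod.IsFinLocFree B) :
    FlatMod.IsFinLocFree (CohB1.tensorMod A B) := by
  intro x
  obtain ⟨U₁, a, h₁, ⟨e₁⟩⟩ := hA x
  obtain ⟨U₂, b, h₂, ⟨e₂⟩⟩ := hB x
  let U := U₁ ⊓ U₂
  let φ := fun N : X.Modules => (Scheme.Modules.restrictFunctorIsoPullback U.ι).app N
  have key : ∀ {n : ℕ} {E : X.Modules} (W : X.Opens) (hUW : U ≤ W)
      (e : E.restrict W.ι ≅ FlatMod.freeMod (W : Scheme.{u}) n),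
      Nonempty ((Scheme.Modules.pullback U.ι).obj E ≅ FlatMod.freeMod (U : Scheme.{u}) n) := fun {n E} W hUW e =>
    ⟨(Scheme.Modules.pullbackCongr (X.homOfLE_ι hUW).symm).app E ≪≫
      ((Scheme.Modules.pullbackComp (X.homOfLE hUW) W.ι).app E).symm ≪≫
      (Scheme.Modules.pullback (X.homOfLE hUW)).mapIso
        (((Scheme.Modules.restrictFunctorIsoPullback W.ι).app E).symm ≪≫ e) ≪≫ KFlatLib.pullFreeIso _ n⟩
  obtain ⟨fA⟩ := key U₁ inf_le_left e₁
  obtain ⟨fB⟩ := key U₂ inf_le_right e₂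
  let F := FlatMod.freeMod (U : Scheme.{u}) a
  let T : (U : Scheme.{u}).Modules ⥤ (U : Scheme.{u}).Modules := (DCoh.tensorBi (X := (U : Scheme.{u}))).obj F
  haveI : T.Additive := inferInstanceAs ((DCoh.tensorBi (X := (U : Scheme.{u}))).obj F).Additive
  haveI : PreservesFiniteCoproducts T := inferInstance
  let w : T.obj (FlatMod.freeMod (U : Scheme.{u}) b) ≅ FlatMod.freeMod (U : Scheme.{u}) (a * b) :=
    PreservesCoproduct.iso T _ ≪≫
      Sigma.mapIso (fun _ : Fin b => (KFlatLib.tensSwap (Coh.structureModule _) F) ≪≫ KFlatLib.tensUnitIso F) ≪≫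
      sigmaSigmaIso (fun _ : Fin b => Fin a) (fun _ _ => Coh.structureModule (U : Scheme.{u})) ≪≫
      Sigma.whiskerEquiv (f := fun _ : (_ : Fin b) × Fin a => Coh.structureModule (U : Scheme.{u}))
        (g := fun _ : Fin (a * b) => Coh.structureModule (U : Scheme.{u})) ((Equiv.sigmaEquivProd (Fin b) (Fin a)).trans
        ((Equiv.prodComm (Fin b) (Fin a)).trans finProdFinEquiv)) (fun _ => Iso.refl _)
  exact ⟨U, a * b, ⟨h₁, h₂⟩, ⟨φ _ ≪≫ @asIso _ _ _ _ (KFlatLib.pullθ U.ι A B) (KFlatLib.isIso_pullθ _ _ _) ≪≫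
    ((DCoh.tensorBi (X := (U : Scheme.{u}))).mapIso fA).app _ ≪≫ T.mapIso fB ≪≫ w⟩⟩

/-- Finite free modules are bundles. -/
theorem vb_free (X : Scheme.{u}) (m : ℕ) : FlatMod.IsFinLocFree (FlatMod.freeMod X m) := fun x =>
  let ⟨U, hU, e⟩ := VBResLib.rank_freeMod m x; ⟨U, m, hU, e⟩

/-- Invertible modules are bundles. -/
theorem vb_inv {X : Scheme.{u}} {L : X.Modules} (h : PicF.IsInvertible L) : FlatMod.IsFinLocFree L :=
  AmpleDevLib.isFinLocFree_of_isInvertible h

section PnAffine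

open KRRRegLib

variable {n : ℕ} {R : CommRingCat.{u}}

theorem compactSpace_PY (n : ℕ) (R : CommRingCat.{u}) : CompactSpace (KRR.PY n (Spec R)) := by
  haveI : IsProper (KRR.pr n (Spec R)) := ChowLib.isProper_toBase n _
  exact QuasiCompact.compactSpace_of_compactSpace (KRR.pr n (Spec R))

theorem isAmple_O1 (n : ℕ) (R : CommRingCat.{u}) : CohB1.IsAmple (O1 n (Spec R)) := by
  obtain ⟨j, hj, hd⟩ := PicPnLib.exists_square (n := n) (R := (R : Type u)) (𝟙 (Spec R))
  haveI : IsIso j := hj.isIso_fst_of_isIso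
  refine AmpleDevLib.isAmple_of_iso (HilbPolyLib.isInvertible_of_iso ?_
    (AmpleDevLib.isInvertible_pb (f := inv j) (PicPnLib.twist_inv n R 1))) (KRRRegLib.isInvertible_O1 n (Spec R)) ?_
    (AmpleDevLib.isAmple_pb (f := inv j) (PicPnLib.twist_inv n R 1) (FormalCohLib.isAmple_twistProjSpace n R))
  · exact Iso.refl _
  · exact (Scheme.Modules.pullback (inv j)).mapIso (hd 1).some.symm ≪≫
      (Scheme.Modules.pullbackComp (inv j) j).app _ ≪≫
      (Scheme.Modules.pullbackCongr (IsIso.inv_hom_id j)).app _ ≪≫ (Scheme.Modules.pullbackId _).app _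

/-- A bundle on projective space over an affine base is a quotient of copies of a twist. -/
theorem exists_epi_twist_free (G : (KRR.PY n (Spec R)).Modules) (hG : FlatMod.IsFinLocFree G) :
    ∃ (N m : ℕ) (p : KRR.twF n (Spec R) (-(N : ℤ)) (FlatMod.freeMod _ m) ⟶ G), Epi p := by
  haveI := compactSpace_PY n R
  obtain ⟨N, hN⟩ := MiscFlat6.eventually_gg_of_isAmple (isAmple_O1 n R) G (LocSuppLib.isCoh_of_isFinLocFree hG)
  have hvb : FlatMod.IsFinLocFree (CohB1.tensorMod G (CohB1.tensorPow (O1 n (Spec R)) N)) :=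
    vb_tens hG (vb_inv (AmpleThLib.tensorPow_isInvertible (KRRRegLib.isInvertible_O1 n _) N))
  obtain ⟨m, p, hp⟩ := VBResLib.exists_epi_free_of_gg (LocSuppLib.isCoh_of_isFinLocFree hvb) (hN N le_rfl)
  obtain ⟨e⟩ := nonempty_pow_O1 n (Spec R) N
  obtain ⟨e'⟩ := nonempty_twF_add n (Spec R) (-(N : ℤ)) (N : ℤ) G
  obtain ⟨e0⟩ := nonempty_twF_zero (n := n) (T := Spec R) G
  haveI := isEquivalence_twFun n (Spec R) (-(N : ℤ))
  let a : CohB1.tensorMod G (CohB1.tensorPow (O1 n (Spec R)) N) ≅ KRR.twF n (Spec R) (N : ℤ) G :=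
    HilbPolyLib.congrRight G e ≪≫ HilbPolyLib.swapIso G _
  refine ⟨N, m, (twFun n (Spec R) (-(N : ℤ))).map (p ≫ a.hom) ≫
    (e' ≪≫ eqToIso (congrArg (fun d => KRR.twF n (Spec R) d G) (neg_add_cancel _)) ≪≫ e0).hom, ?_⟩
  haveI := hp
  haveI : Epi ((twFun n (Spec R) (-(N : ℤ))).map (p ≫ a.hom)) := inferInstance
  infer_instance

theorem V_twist_structure (i : ℕ) (hi : 1 ≤ i) (d : ℤ) (hd : -(n : ℤ) ≤ d) :
    V i d (Coh.structureModule (KRR.PY n (Spec R))) := by
  haveI : Coh.IsQCoh (Coh.structureModule (Spec R)) :=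
    (LocSuppLib.isCoh_of_isFinLocFree (vb_inv (CubeConsLib.isInvertible_one _))).1
  refine (V_pullback (Coh.structureModule (Spec R)) i d fun A _ k hk =>
    PnCohLib.subsingleton_HH_twist d k (fun h => by omega) (fun h => by omega)).of_iso ?_
  exact (KFlatLib.pullUnitIso _).symm

theorem V_twist_free (i : ℕ) (hi : 1 ≤ i) (d : ℤ) (hd : -(n : ℤ) ≤ d) :
    ∀ m : ℕ, V i d (FlatMod.freeMod (KRR.PY n (Spec R)) m)
  | 0 => V.of_isZero i d ((IsZero.iff_id_eq_zero _).2 (Sigma.hom_ext _ _ fun j => j.elim0))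
  | m + 1 => (V.biprod (V_twist_structure i hi d hd) (V_twist_free i hi d hd m)).of_iso (CurvLib.freeModSucc _ m)

/-- Serre vanishing for bundles on projective space over an affine base. -/
theorem exists_vanishing (k : ℕ) : ∀ (i : ℕ), 1 ≤ i → n + 1 ≤ i + k →
    ∀ G : (KRR.PY n (Spec R)).Modules, FlatMod.IsFinLocFree G →
      ∃ d₀ : ℕ, ∀ d : ℤ, (d₀ : ℤ) ≤ d → V i d G := by
  induction k with
  | zero =>
    intro i hi hk G hG
    haveI := (LocSuppLib.isCoh_of_isFinLocFree hG).1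
    exact ⟨0, fun d _ => V_big G i (by omega) d⟩
  | succ k ih =>
    intro i hi hk G hG
    obtain ⟨N, m, p, hp⟩ := exists_epi_twist_free G hG
    haveI := hp
    have hX : FlatMod.IsFinLocFree (KRR.twF n (Spec R) (-(N : ℤ)) (FlatMod.freeMod _ m)) :=
      vb_tens (vb_inv (PicPnLib.twistOver_inv n _ _)) (vb_free _ m)
    obtain ⟨d₁, hd₁⟩ := ih (i + 1) (by omega) (by omega) _ (ResPropLib.isFinLocFree_kernel p hX hG)
    refine ⟨d₁ + N, fun d hd => ?_⟩
    have hS : (ShortComplex.mk (kernel.ι p) p (kernel.condition p)).ShortExact :=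
      ShortComplex.ShortExact.mk (ShortComplex.exact_kernel p)
    refine RDerLib.isZero_X₃ (F := Coh.pushAb (KRR.pr n (Spec R))) (shortExact_ab n (Spec R) d hS) i
      (hd₁ d (by omega)) ?_
    exact (V_twF_iff i d (-(N : ℤ)) _).2 (V_twist_free i hi _ (by omega) m)

/-- High twists of a bundle are regular. -/
theorem exists_regular_shift (G : (KRR.PY n (Spec R)).Modules) (hG : FlatMod.IsFinLocFree G) :
    ∃ N : ℕ, ∀ m : ℤ, (N : ℤ) ≤ m → ∀ i : ℕ, 1 ≤ i → V i (m - i) G := by
  haveI := (LocSuppLib.isCoh_of_isFinLocFree hG).1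
  choose d₀ hd₀ using fun i : Fin n => exists_vanishing n (i + 1) (by omega) (by omega) G hG
  refine ⟨Finset.univ.sum d₀ + n, fun m hm i hi => ?_⟩
  rcases Nat.lt_or_ge n i with h | h
  · exact V_big G i h _
  · obtain ⟨j, rfl⟩ : ∃ j, i = j + 1 := ⟨i - 1, by omega⟩
    refine hd₀ ⟨j, by omega⟩ _ ?_
    have h1 : ((d₀ ⟨j, by omega⟩ : ℕ) : ℤ) ≤ ((Finset.univ.sum d₀ : ℕ) : ℤ) := Nat.cast_le.2
      (Finset.single_le_sum (f := d₀) (fun _ _ => Nat.zero_le _) (Finset.mem_univ (⟨j, by omega⟩ : Fin n)))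
    rw [Nat.cast_add] at hm
    omega

end PnAffine

variable {T P : Scheme.{u}} (π : P ⟶ T) (O1 : P.Modules) (n : ℕ)

/-- The module is `m`-regular on every chart. -/
def RG (m : ℤ) (F : P.Modules) : Prop := ∀ c : Chart π O1 n, ∀ i : ℕ, 1 ≤ i → V i (m - i) (pb c.j F)

/-- All nonnegative twists are acyclic on every chart. -/
def QP (F : P.Modules) : Prop := ∀ c : Chart π O1 n, ∀ d q : ℕ, 1 ≤ q → V q (d : ℤ) (pb c.j F)

variable {π O1 n}

theorem RG.of_iso {m : ℤ} {F G : P.Modules} (h : RG π O1 n m F) (e : G ≅ F) : RG π O1 n m G :=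
  fun c i hi => (h c i hi).of_iso ((Scheme.Modules.pullback c.j).mapIso e)

theorem QP.of_iso {F G : P.Modules} (h : QP π O1 n F) (e : G ≅ F) : QP π O1 n G :=
  fun c d q hq => (h c d q hq).of_iso ((Scheme.Modules.pullback c.j).mapIso e)

theorem V_pb_tw_iff (hL : PicF.IsInvertible O1) (c : Chart π O1 n) (i : ℕ) (d a : ℤ) (F : P.Modules) :
    V i d (pb c.j (tw hL a F)) ↔ V i (d + a) (pb c.j F) := by
  obtain ⟨t⟩ := nonempty_pb_tw hL c a F
  refine ⟨fun h => (KRRRegLib.V_twF_iff i d a _).1 (h.of_iso t.symm),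
    fun h => ((KRRRegLib.V_twF_iff i d a _).2 h).of_iso t⟩

theorem RG_tw_iff (hL : PicF.IsInvertible O1) (m a : ℤ) (F : P.Modules) :
    RG π O1 n m (tw hL a F) ↔ RG π O1 n (m + a) F :=
  forall_congr' fun c => forall_congr' fun i => forall_congr' fun _ => by
    rw [V_pb_tw_iff, sub_add_eq_add_sub]

theorem RG.mono {m m' : ℤ} {F : P.Modules} (h : RG π O1 n m F) (hm : m ≤ m') : RG π O1 n m' F := by
  obtain ⟨k, rfl⟩ : ∃ k : ℕ, m' = m + k := ⟨(m' - m).toNat, by omega⟩
  induction k with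
  | zero => simpa using h
  | succ k ih =>
    intro c i hi
    exact (KRRRegLib.V_succ (m + k) (fun q hq => ih (by omega) c q hq) i hi).congr (by push_cast; ring)

theorem RG.qp {F : P.Modules} (h : RG π O1 n 0 F) : QP π O1 n F :=
  fun c d q hq => ((h.mono (show (0 : ℤ) ≤ (d : ℤ) + q by positivity)) c q hq).congr (by ring)

/-- Short exact sequences on the charts. -/
theorem shortExact_pb (c : Chart π O1 n) {S : ShortComplex P.Modules} (hS : S.ShortExact) :
    (S.map (Scheme.Modules.pullback c.j)).ShortExact := by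
  haveI := CohGenLib.preservesFiniteLimits_pullback_flat c.j
  haveI : (Scheme.Modules.pullback c.j).IsLeftAdjoint :=
    (Scheme.Modules.pullbackPushforwardAdjunction c.j).isLeftAdjoint
  haveI : PreservesFiniteColimits (Scheme.Modules.pullback c.j) := inferInstance
  haveI : (Scheme.Modules.pullback c.j).Additive := by
    haveI := preservesBinaryBiproducts_of_preservesBinaryCoproducts (Scheme.Modules.pullback c.j)
    exact Functor.additive_of_preservesBinaryBiproducts _
  exact hS.map_of_exact _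

theorem V_X₃ (c : Chart π O1 n) {S : ShortComplex P.Modules} (hS : S.ShortExact) (i : ℕ) (d : ℤ)
    (h₁ : V (i + 1) d (pb c.j S.X₁)) (h₂ : V i d (pb c.j S.X₂)) : V i d (pb c.j S.X₃) :=
  RDerLib.isZero_X₃ (F := Coh.pushAb (KRR.pr n (Spec c.R)))
    (KRRRegLib.shortExact_ab n _ d (shortExact_pb c hS)) i h₁ h₂

theorem V_X₂ (c : Chart π O1 n) {S : ShortComplex P.Modules} (hS : S.ShortExact) (i : ℕ) (d : ℤ)
    (h₁ : V i d (pb c.j S.X₁)) (h₃ : V i d (pb c.j S.X₃)) : V i d (pb c.j S.X₂) :=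
  RDerLib.isZero_X₂ (F := Coh.pushAb (KRR.pr n (Spec c.R)))
    (KRRRegLib.shortExact_ab n _ d (shortExact_pb c hS)) i h₁ h₃

/-- High twists of a bundle are regular. -/
theorem exists_RG [QuasiCompact π] [QuasiSeparated π] (hcov : Covers π O1 n) (hL : PicF.IsInvertible O1) [CompactSpace T] {F : P.Modules}
    (hF : FlatMod.IsFinLocFree F) : ∃ N : ℕ, RG π O1 n (N : ℤ) F := by
  classical
  haveI := (LocSuppLib.isCoh_of_isFinLocFree hF).1
  have hch : ∀ x : T, ∃ c : Chart π O1 n, x ∈ c.i.opensRange := fun x => by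
    obtain ⟨U, hx, hU⟩ := hcov x
    obtain ⟨W, hW, hxW, hle⟩ := exists_isAffineOpen_mem_and_subset (X := T) (x := x) (U := U) hx
    obtain ⟨c, hc⟩ := hU W hW hle
    exact ⟨c, hc ▸ hxW⟩
  choose c hc using hch
  obtain ⟨s, hs⟩ := isCompact_univ.elim_finite_subcover (fun x => ((c x).i.opensRange : Set T))
    (fun x => (c x).i.opensRange.2) fun x _ => Set.mem_iUnion.2 ⟨x, hc x⟩
  choose N hN using fun x : T => exists_regular_shift (pb (c x).j F) (KFlatLib.isFinLocFree_pull _ hF)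
  refine ⟨s.sum N, fun c₀ i hi => V_of_cover hL c₀ F i _ fun y => ?_⟩
  obtain ⟨x, hx, hy⟩ := Set.mem_iUnion₂.1 (hs (Set.mem_univ y))
  exact ⟨c x, hy, hN x _ (by exact_mod_cast Finset.single_le_sum (fun z _ => Nat.zero_le (N z)) hx) i hi⟩

theorem flat_of_covers (hcov : Covers π O1 n) : Flat π := by
  haveI : ∀ c : Chart π O1 n, Flat (KRR.pr n (Spec c.R)) := fun c => by
    haveI : Smooth (KRR.pr n (Spec c.R)) := RTrivLib.smooth_toBase n _
    infer_instance
  have hch : ∀ x : T, ∃ c : Chart π O1 n, x ∈ c.i.opensRange := fun x => by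
    obtain ⟨U, hx, hU⟩ := hcov x
    obtain ⟨W, hW, hxW, hle⟩ := exists_isAffineOpen_mem_and_subset (X := T) (x := x) (U := U) hx
    obtain ⟨c, hc⟩ := hU W hW hle
    exact ⟨c, hc ▸ hxW⟩
  choose c hc using hch
  let 𝒰 : T.OpenCover := Scheme.Cover.mkOfCovers T (fun x => Spec (c x).R) (fun x => (c x).i)
    (fun x => ⟨x, hc x⟩) fun x => (c x).open_i
  refine IsZariskiLocalAtTarget.of_openCover 𝒰 fun (x : T) => ?_
  exact (MorphismProperty.arrow_mk_iso_iff @Flat
    (Arrow.isoMk (f := Arrow.mk (pullback.snd π (c x).i)) (g := Arrow.mk (KRR.pr n (Spec (c x).R)))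
      (c x).sq.isoPullback.symm (Iso.refl _)
      ((c x).sq.isoPullback_inv_snd.trans (Category.comp_id _).symm))).2 inferInstance

variable [IsProper π] [LocallyOfFinitePresentation π]

/-- Direct images of acyclic bundles are bundles. -/
theorem vb_push (hcov : Covers π O1 n) (hL : PicF.IsInvertible O1) {F : P.Modules} (hF : FlatMod.IsFinLocFree F)
    (hq : QP π O1 n F) : FlatMod.IsFinLocFree ((Scheme.Modules.pushforward π).obj F) := by
  haveI := (LocSuppLib.isCoh_of_isFinLocFree hF).1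
  haveI := flat_of_covers hcov
  refine KiehlLib.isFinLocFree_push π F (MiscFlat6.isFlat_and_isFP_iff.2 hF).2
    (KRRRegLib.isFlatOver_of_vb π hF) ?_ fun i hi => ?_
  · refine ⟨QCohLib.isClosed_support F (LocSuppLib.isCoh_of_isFinLocFree hF).2, ?_⟩
    infer_instance
  · obtain ⟨e⟩ := RpushLib.nonempty_toAb_rpush_iso π F i
    exact RpushLib.isZero_of_isZero_toAb (IsZero.of_iso
      (isZero_rpushAb_zero hcov hL F i fun c => (hq c 0 i hi).congr Nat.cast_zero) e)

/-- The direct image is exact on sequences with acyclic first term. -/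
theorem shortExact_push (hcov : Covers π O1 n) (hL : PicF.IsInvertible O1) {S : ShortComplex P.Modules}
    (hS : S.ShortExact) (h₁ : FlatMod.IsFinLocFree S.X₁) (hq : QP π O1 n S.X₁) :
    (S.map (Scheme.Modules.pushforward π)).ShortExact := by
  haveI := (LocSuppLib.isCoh_of_isFinLocFree h₁).1
  let Q := Scheme.Modules.pushforward π
  haveI : PreservesFiniteLimits Q := by
    haveI : Q.IsRightAdjoint := (Scheme.Modules.pullbackPushforwardAdjunction π).isRightAdjoint
    infer_instance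
  have h := isZero_rpushAb_zero hcov hL S.X₁ 1 fun c => (hq c 0 1 le_rfl).congr Nat.cast_zero
  haveI he : Epi (Q.map S.g) := by
    haveI : Epi ((QCohLib.toAbF T).map (Q.map S.g)) :=
      (RDerLib.epi_map_g_iff (F := Coh.pushAb π) _).1
        (RDerLib.epi_map_g (hS.map_of_exact (QCohLib.toAbF P)) 0 h)
    exact (QCohLib.toAbF T).epi_of_epi_map this
  obtain ⟨hex, hm⟩ := ((Functor.preservesFiniteLimits_tfae Q).out 3 0 : PreservesFiniteLimits Q ↔
      ∀ S : ShortComplex P.Modules, S.ShortExact → (S.map Q).Exact ∧ Mono (Q.map S.f)).1 ‹_› S hS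
  exact { exact := hex, mono_f := hm, epi_g := he }

end ProjKLib

end
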