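import Groth.Agent.ProjKLib.CohReg
import Groth.Agent.KRRRegLib.EulerCoh
import Groth.Agent.KFlatLib.StalkTensor
import Groth.Agent.S2297

/-!
# `K₀` of coherent modules on a projective bundle
-/

set_option autoImplicit false
set_option linter.style.haveILetI false
set_option linter.unusedSectionVars false
set_option backward.isDefEq.respectTransparency false
set_option backward.isDefEq.respectTransparency.types false
set_option maxHeartbeats 1000000

universe u

open CategoryTheory CategoryTheory.Limits AlgebraicGeometry TopologicalSpace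
open KFlatLib (pb)
open Groth.Agent.KHeartLib (clSub_add clSub_eq_zero clSub_congr clSub_exact exists_lift_sub clSub_closure_eq_top)
open ProjFormLib (tF shortExact_tens)

noncomputable section

namespace ProjKLib

open Groth.Agent KRRRegLib

instance cohP_iso (X : Scheme.{u}) : (cohP X).IsClosedUnderIsomorphisms := ⟨fun e h => QCohLib.isCoh_of_iso e h⟩

instance cohP_zero (X : Scheme.{u}) : (cohP X).ContainsZero :=
  ⟨⟨_, isZero_zero _, DevissLib.isCoh_of_isZero (isZero_zero _)⟩⟩

/-- The class of a coherent module. -/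
abbrev clC (X : Scheme.{u}) (F : X.Modules) : SGA6.Kcoh X := KZero.clSub (cohP X) F

theorem hom_ext_coh {X : Scheme.{u}} {M : Type*} [AddCommGroup M] {a b : SGA6.Kcoh X →+ M}
    (h : ∀ F, Coh.IsCoh F → a (clC X F) = b (clC X F)) : a = b := by
  refine AddMonoidHom.eq_of_eqOn_dense (clSub_closure_eq_top (cohP X)) ?_
  rintro _ ⟨F, hF, rfl⟩
  exact h F hF

/-- Tensoring a sequence with locally free quotient is exact. -/
theorem shortExact_tensor_right {X : Scheme.{u}} {S : ShortComplex X.Modules} (hS : S.ShortExact)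
    (h₃ : FlatMod.IsFinLocFree S.X₃) (N : X.Modules) : (S.map (DCoh.tensorRightMod N)).ShortExact := by
  refine CurvLib.shortExact_of_stalks _ fun x => ?_
  let St' := DerSch.stalkFunctor X x
  haveI : Module.Free (X.presheaf.stalk x) (St'.obj S.X₃) := MiscFlat6.free_stalk_of_isFinLocFree h₃ x
  haveI : Projective (S.map St').X₃ :=
    (IsProjective.iff_projective (R := X.presheaf.stalk x) (St'.obj S.X₃)).1 inferInstance
  have σ := (hS.map_of_exact St').splittingOfProjective
  refine ShortComplex.shortExact_of_iso ?_ (σ.map (MonoidalCategory.tensorRight (St'.obj N))).shortExact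
  exact ShortComplex.isoMk (KFlatLib.stalkTensorIso S.X₁ N x) (KFlatLib.stalkTensorIso S.X₂ N x)
    (KFlatLib.stalkTensorIso S.X₃ N x)
    (KFlatLib.stalkTensorIso_natural_left (N := N) x S.f).symm
    (KFlatLib.stalkTensorIso_natural_left (N := N) x S.g).symm

variable {T P : Scheme.{u}} {π : P ⟶ T} {O1 : P.Modules} {n : ℕ} [IsProper π] [IsNoetherian T] [IsNoetherian P]

/-- Bundles act on pull-backs. -/
theorem exists_act {M : T.Modules} (hM : Coh.IsCoh M) : ∃ μ : SGA6.Kvb P →+ SGA6.Kcoh P,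
    ∀ E : P.Modules, FlatMod.IsFinLocFree E → μ (KRR.cl P E) = clC P (CohB1.tensorMod E (pb π M)) := by
  have hc : ∀ E : P.Modules, FlatMod.IsFinLocFree E → Coh.IsCoh (CohB1.tensorMod E (pb π M)) := fun E hE => by
    have h1 := VBResLib.isCoh_of_vb hE
    have h2 := isCoh_pb (π := π) hM
    haveI := h1.1
    haveI := h2.1
    exact ⟨(Groth.Agent.S2297.result E (pb π M)).1, (Groth.Agent.S2297.result E (pb π M)).2 h1.2 h2.2⟩
  exact exists_lift_sub (KRR.vbP P) (fun E => clC P (CohB1.tensorMod E (pb π M))) fun S hS h₁ h₂ h₃ =>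
    clSub_add (cohP P) _ (shortExact_tensor_right hS h₃ (pb π M)) (hc _ h₁) (hc _ h₂) (hc _ h₃)

variable (hcov : Covers π O1 n) (hL : PicF.IsInvertible O1)

/-- Twisting. -/
theorem exists_twC (a : ℤ) : ∃ φ : SGA6.Kcoh P →+ SGA6.Kcoh P,
    ∀ F, Coh.IsCoh F → φ (clC P F) = clC P (tw hL a F) :=
  exists_lift_sub (cohP P) (fun F => clC P (tw hL a F)) fun S hS h₁ h₂ h₃ =>
    clSub_add (cohP P) (S.map (tF (Otw hL a))) (shortExact_tens (vb_inv (Otw_inv hL a)) hS)
      (isCoh_tw hL a h₁) (isCoh_tw hL a h₂) (isCoh_tw hL a h₃)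

/-- Twisting. -/
def twC (a : ℤ) : SGA6.Kcoh P →+ SGA6.Kcoh P := (exists_twC hL a).choose

theorem twC_cl (a : ℤ) {F : P.Modules} (hF : Coh.IsCoh F) : twC hL a (clC P F) = clC P (tw hL a F) :=
  (exists_twC hL a).choose_spec F hF

theorem twC_twC (a b : ℤ) (x : SGA6.Kcoh P) : twC hL a (twC hL b x) = twC hL (a + b) x :=
  DFunLike.congr_fun (hom_ext_coh (a := (twC hL a).comp (twC hL b)) fun F hF => by
    simp only [AddMonoidHom.coe_comp, Function.comp_apply, twC_cl hL b hF,
      twC_cl hL a (isCoh_tw hL b hF), twC_cl hL (a + b) hF]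
    exact clSub_congr (cohP P) (nonempty_tw_tw hL a b F).some) x

theorem twC_zero (x : SGA6.Kcoh P) : twC hL 0 x = x :=
  DFunLike.congr_fun (hom_ext_coh (a := twC hL 0) (b := AddMonoidHom.id _) fun F hF => by
    rw [twC_cl hL 0 hF]
    exact clSub_congr (cohP P) (nonempty_tw_zero hL F).some) x

include hcov in
/-- Higher direct images vanish above the relative dimension. -/
theorem isZero_rpush_above [HasInjectiveResolutions P.Modules] (hL' : PicF.IsInvertible O1) (F : P.Modules) [Coh.IsQCoh F] (q : ℕ) (hq : n < q) :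
    IsZero ((Coh.Rpush π q).obj F) := by
  obtain ⟨e⟩ := RpushLib.nonempty_toAb_rpush_iso π F q
  refine RpushLib.isZero_of_isZero_toAb (IsZero.of_iso ?_ e)
  exact isZero_rpushAb_zero hcov hL' F q fun c => by
    haveI := KFlatLib.isQCoh_pullback c.j F
    exact V_big (pb c.j F) q hq 0

include hcov hL in
/-- The Euler characteristic of the direct image. -/
theorem exists_chiP : ∃ χ : SGA6.Kcoh P →+ SGA6.Kcoh T,
    ∀ F, Coh.IsCoh F → (∀ q, 1 ≤ q → IsZero ((Coh.RpushAb π q).obj (Coh.toAb F))) →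
      χ (clC P F) = clC T ((Scheme.Modules.pushforward π).obj F) := by
  haveI : EnoughInjectives P.Modules := IsGrothendieckAbelian.enoughInjectives.{u}
  haveI : WSerre.IsWeakSerre (cohP T) := KHeartLib.isWeakSerre_isCoh (X := T)
  have c : ∀ {M : P.Modules}, Coh.IsCoh M → ∀ q, cohP T ((Coh.Rpush π q).obj M) :=
    fun {M} hM q => Groth.Agent.S0036.result π M hM q
  let chi : P.Modules → SGA6.Kcoh T := fun M =>
    ∑ q ∈ Finset.range (n + 1), (-1 : ℤ) ^ q • clC T ((Coh.Rpush π q).obj M)
  obtain ⟨χ, hχ⟩ := exists_lift_sub (cohP P) chi fun S hS h₁ h₂ h₃ => by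
    haveI := h₁.1
    let L := RDerLib.derivedLES (Scheme.Modules.pushforward π)
    let k : ℕ → SGA6.Kcoh T := fun q => clC T (kernel ((Coh.Rpush π q).map S.f))
    have key : ∀ q, clC T ((Coh.Rpush π q).obj S.X₁) + clC T ((Coh.Rpush π q).obj S.X₃) -
        clC T ((Coh.Rpush π q).obj S.X₂) = k q + k (q + 1) := by
      intro q
      simp only [clC]
      rw [clSub_exact (cohP T) _ _ _ (L.exact₂ S hS q) (c h₁ q) (c h₂ q) (c h₃ q),
        clSub_exact (cohP T) _ _ _ (L.exact₃ S hS q (q + 1) rfl) (c h₂ q) (c h₃ q) (c h₁ (q + 1)),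
        clSub_exact (cohP T) _ _ _ (L.exact₁ S hS q (q + 1) rfl) (c h₃ q) (c h₁ (q + 1)) (c h₂ (q + 1))]
      simp only [k]
      abel
    have hsum : ∀ t, ∑ q ∈ Finset.range t, (-1 : ℤ) ^ q • (k q + k (q + 1)) = k 0 - (-1 : ℤ) ^ t • k t := by
      intro t
      induction t with
      | zero => simp
      | succ t ih =>
        rw [Finset.sum_range_succ, ih, zsmul_add, pow_succ, mul_neg_one, neg_zsmul]
        abel
    have hk0 : k 0 = 0 := by
      haveI : Mono ((Coh.Rpush π 0).map S.f) := RDerLib.mono_map_zero (Scheme.Modules.pushforward π) hS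
      exact clSub_eq_zero (cohP T) (DevissLib.isCoh_of_isZero (isZero_kernel_of_mono _)) (isZero_kernel_of_mono _)
    have hkn : k (n + 1) = 0 := by
      have hz : IsZero (kernel ((Coh.Rpush π (n + 1)).map S.f)) :=
        (isZero_rpush_above hcov hL S.X₁ (n + 1) (Nat.lt_succ_self n)).of_mono (kernel.ι _)
      exact clSub_eq_zero (cohP T) (DevissLib.isCoh_of_isZero hz) hz
    have h := hsum (n + 1)
    rw [hk0, hkn, smul_zero, sub_zero, Finset.sum_congr rfl fun q _ => by rw [← key q]] at h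
    simp only [zsmul_sub, zsmul_add, Finset.sum_sub_distrib, Finset.sum_add_distrib, sub_eq_zero] at h
    exact h.symm
  refine ⟨χ, fun F hF hz => ?_⟩
  haveI := hF.1
  simp only [clC] at hχ ⊢
  rw [hχ F hF]
  simp only [chi, clC]
  rw [Finset.sum_eq_single 0 (fun q _ hq => by
      obtain ⟨a⟩ := RpushLib.nonempty_toAb_rpush_iso π F q
      have h' := RpushLib.isZero_of_isZero_toAb (IsZero.of_iso (hz q (Nat.pos_of_ne_zero hq)) a)
      rw [clSub_eq_zero (cohP T) (DevissLib.isCoh_of_isZero h') h', smul_zero])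
    (fun h => absurd (Finset.mem_range.2 (Nat.succ_pos n)) h), pow_zero, one_smul]
  exact clSub_congr (cohP T) (CohBCLib.rpushZero π F)

include hcov in
/-- Regular coherent modules are combinations of generators. -/
theorem clC_mem_of_CR {H : AddSubgroup (SGA6.Kcoh P)}
    (hH : ∀ (a : ℤ) (N : T.Modules), Coh.IsCoh N → clC P (tw hL a (pb π N)) ∈ H) {F : P.Modules}
    (hF : CR π O1 n F) (a : ℤ) : twC hL a (clC P F) ∈ H := by
  have key : ∀ t i : ℕ, n + 1 ≤ i + t → ∀ a, twC hL a (clC P (syzP (π := π) hL F i)) ∈ H := by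
    intro t
    induction t with
    | zero =>
      intro i hi a
      rw [show clC P (syzP (π := π) hL F i) = 0 from clSub_eq_zero (cohP P) (CR_syzP hcov hL hF i).1
        (isZero_syzP_coh hcov hL hF (show n < i by omega)), map_zero]
      exact zero_mem H
    | succ t ih =>
      intro i hi a
      have hG := CR_syzP hcov hL hF i
      haveI := epi_eps_coh hcov hL hG
      have hN := FormalCohLib.isCoh_push_proper π hG.1
      have hK := isCoh_kernel_eps (π := π) hG.1
      have e : clC P (pb π ((Scheme.Modules.pushforward π).obj (syzP (π := π) hL F i))) =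
          clC P (kernel (eps π (syzP (π := π) hL F i))) + clC P (syzP (π := π) hL F i) :=
        clSub_add (cohP P) (ShortComplex.mk _ _ (kernel.condition (eps π (syzP (π := π) hL F i))))
          (ShortComplex.ShortExact.mk (ShortComplex.exact_kernel _)) hK (isCoh_pb hN) hG.1
      have h1 : clC P (kernel (eps π (syzP (π := π) hL F i))) = twC hL (-1) (clC P (syzP (π := π) hL F (i + 1))) := by
        rw [show clC P (syzP (π := π) hL F (i + 1)) = twC hL 1 (clC P (kernel (eps π (syzP (π := π) hL F i)))) from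
          (twC_cl hL 1 hK).symm, twC_twC, neg_add_cancel, twC_zero]
      rw [eq_sub_of_add_eq' e.symm, map_sub, h1, twC_twC, twC_cl hL a (isCoh_pb hN)]
      exact sub_mem (hH a _ hN) (ih (i + 1) (by omega) _)
  exact key (n + 1) 0 (by omega) a

include hcov in
/-- All coherent modules are combinations of generators. -/
theorem eq_top_coh {H : AddSubgroup (SGA6.Kcoh P)}
    (hH : ∀ (a : ℤ) (N : T.Modules), Coh.IsCoh N → clC P (tw hL a (pb π N)) ∈ H) : H = ⊤ := by
  have h1 : ∀ F, Coh.IsCoh F → clC P F ∈ H := fun F hF => by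
    haveI := hF.1
    obtain ⟨m, hm⟩ := exists_RG_coh hcov hL hF
    have hG : CR π O1 n (tw hL (m : ℤ) F) := ⟨isCoh_tw hL _ hF, (RG_tw_iff hL 0 (m : ℤ) F).2 (by simpa using hm)⟩
    have h := clC_mem_of_CR hcov hL hH hG (-(m : ℤ))
    rwa [← twC_cl hL _ hF, twC_twC, neg_add_cancel, twC_zero] at h
  rw [← top_le_iff, ← clSub_closure_eq_top (cohP P)]
  exact (AddSubgroup.closure_le H).2 fun z ⟨F, hF, hz⟩ => hz ▸ h1 F hF

include hcov hL in
/-- **`K₀` of coherent modules on a projective bundle.** -/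
theorem bijective_sum_coh {E : T.Modules} {q : pb π E ⟶ O1} (hP : KRR.IsProjBundle π E O1 q)
    (hE : FlatMod.IsFinLocFreeOfRank (n + 1) E) (G : Fin (n + 1) → (SGA6.Kcoh T →+ SGA6.Kcoh P))
    (hG : ∀ (i : Fin (n + 1)) (N : T.Modules), Coh.IsCoh N →
      G i (clC T N) = clC P (tw hL ((i : ℕ) : ℤ) (pb π N))) :
    Function.Bijective (fun a : Fin (n + 1) → SGA6.Kcoh T => ∑ i : Fin (n + 1), G i (a i)) := by
  classical
  obtain ⟨χ, hχ⟩ := exists_chiP hcov hL
  let Φ : (Fin (n + 1) → SGA6.Kcoh T) →+ SGA6.Kcoh P :=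
    { toFun := fun a => ∑ i, G i (a i)
      map_zero' := by simp
      map_add' := fun a b => by simp [Finset.sum_add_distrib] }
  let c : Fin (n + 1) → Fin (n + 1) → (SGA6.Kcoh T →+ SGA6.Kcoh T) := fun j i =>
    (χ.comp (twC hL (-((j : ℕ) : ℤ)))).comp (G i)
  have hc : ∀ (j i : Fin (n + 1)) (N : T.Modules), Coh.IsCoh N → c j i (clC T N) =
      clC T ((Scheme.Modules.pushforward π).obj (tw hL (((i : ℕ) : ℤ) - ((j : ℕ) : ℤ)) (pb π N))) := fun j i N hN => by
    simp only [c, AddMonoidHom.coe_comp, Function.comp_apply, hG i N hN]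
    rw [← twC_cl hL _ (isCoh_pb hN), twC_twC, twC_cl hL _ (isCoh_pb hN),
      show -((j : ℕ) : ℤ) + ((i : ℕ) : ℤ) = ((i : ℕ) : ℤ) - ((j : ℕ) : ℤ) by ring]
    haveI := (isCoh_tw hL (((i : ℕ) : ℤ) - ((j : ℕ) : ℤ)) (isCoh_pb (π := π) hN)).1
    refine hχ _ (isCoh_tw hL _ (isCoh_pb hN)) fun k hk => isZero_rpushAb_zero hcov hL _ k fun c' =>
      V_gen_coh hL c' hN.1 _ k 0 fun A _ r hr =>
        PnCohLib.subsingleton_HH_twist _ r (fun h => by omega) (fun h => by omega)
  have hlt : ∀ j i : Fin (n + 1), i < j → c j i = 0 := fun j i hji => hom_ext_coh fun N hN => by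
    rw [hc j i N hN, AddMonoidHom.zero_apply]
    have hji' : (i : ℕ) < (j : ℕ) := hji
    have hcoh := isCoh_tw hL (((i : ℕ) : ℤ) - ((j : ℕ) : ℤ)) (isCoh_pb (π := π) hN)
    haveI := hcoh.1
    refine clSub_eq_zero (cohP T) (FormalCohLib.isCoh_push_proper π hcoh)
      (isZero_base_of_charts hcov (FormalCohLib.isCoh_push_proper π hcoh) fun c' => ?_)
    haveI := SeesawLib.isIso_bc0_open c'.sq (tw hL (((i : ℕ) : ℤ) - ((j : ℕ) : ℤ)) (pb π N))
    refine IsZero.of_iso ?_ (asIso (CohBC.bc0 π c'.i (KRR.pr n (Spec c'.R)) c'.j c'.sq.w _))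
    exact KRRRegLib.isZero_push_of_V_zero (V_gen_coh hL c' hN.1 _ 0 0 fun A _ k _ =>
      PnCohLib.subsingleton_HH_twist _ k (fun h => by omega) (fun h => by omega))
  have hdiag : ∀ j : Fin (n + 1), c j j = AddMonoidHom.id _ := fun j => hom_ext_coh fun N hN => by
    rw [hc j j N hN, AddMonoidHom.id_apply, sub_self]
    exact (clSub_congr (cohP T) ((Scheme.Modules.pushforward π).mapIso (nonempty_tw_zero hL (pb π N)).some ≪≫
      (nonempty_push_pull_coh hcov hN).some.symm))
  refine ⟨(injective_iff_map_eq_zero Φ).2 fun a ha => ?_, fun y => ?_⟩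
  · have hsum : ∀ j, ∑ i, c j i (a i) = 0 := fun j => by
      have := congrArg (χ.comp (twC hL (-((j : ℕ) : ℤ)))) ha
      simpa [Φ, c, map_sum] using this
    suffices h : ∀ k : ℕ, ∀ j : Fin (n + 1), n - (j : ℕ) = k → a j = 0 from funext fun j => h _ j rfl
    intro k
    induction k using Nat.strong_induction_on with
    | _ k ih =>
      intro j hj
      have h := hsum j
      rw [Finset.sum_eq_single j (fun i _ hij => ?_) (fun h => absurd (Finset.mem_univ j) h), hdiag] at h
      · exact h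
      · rcases lt_or_gt_of_ne hij with h' | h'
        · rw [hlt j i h', AddMonoidHom.zero_apply]
        · rw [ih (n - (i : ℕ)) (by have : (j : ℕ) < (i : ℕ) := h'; omega) i rfl, map_zero]
  · have htop : Φ.range = ⊤ := eq_top_coh hcov hL fun a N hN => by
      obtain ⟨ψ, hψ⟩ := VBResLib.exists_kPull π
      obtain ⟨μ, hμ⟩ := exists_act (π := π) hN
      let Gv : Fin (n + 1) → (SGA6.Kvb T →+ SGA6.Kvb P) := fun i => (twK hL ((n : ℤ) - ((i : ℕ) : ℤ))).comp ψ
      obtain ⟨y, hy⟩ := (bijective_shift hP hE (n : ℤ) Gv fun i M hM => by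
        simp only [Gv, AddMonoidHom.coe_comp, Function.comp_apply, hψ M hM]
        exact twK_cl hL _ (KFlatLib.isFinLocFree_pull π hM)).2 (KRR.cl P (Otw hL a))
      have hy' := congrArg μ hy
      simp only [map_sum] at hy'
      rw [hμ _ (vb_inv (Otw_inv hL a))] at hy'
      rw [show clC P (tw hL a (pb π N)) = _ from hy'.symm]
      refine sum_mem fun i _ => ?_
      have key : ∀ z : SGA6.Kvb T, μ (Gv i z) ∈ Φ.range := fun z => by
        have hz : z ∈ AddSubgroup.closure {z | ∃ M, KRR.vbP T M ∧ KZero.clSub (KRR.vbP T) M = z} :=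
          (clSub_closure_eq_top (KRR.vbP T)).symm ▸ AddSubgroup.mem_top z
        induction hz using AddSubgroup.closure_induction with
        | zero => simp
        | add a b _ _ ha hb => rw [map_add, map_add]; exact add_mem ha hb
        | neg a _ ha => rw [map_neg, map_neg]; exact neg_mem ha
        | mem b hb =>
          obtain ⟨M, hM, rfl⟩ := hb
          simp only [Gv, AddMonoidHom.coe_comp, Function.comp_apply]
          rw [show ψ (KZero.clSub (KRR.vbP T) M) = _ from hψ M hM,
            twK_cl hL _ (KFlatLib.isFinLocFree_pull π hM),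
            hμ _ (vb_tens (vb_inv (Otw_inv hL _)) (KFlatLib.isFinLocFree_pull π hM))]
          have hMN : Coh.IsCoh (CohB1.tensorMod M N) := by
            have h1 := VBResLib.isCoh_of_vb hM
            haveI := h1.1
            haveI := hN.1
            exact ⟨(Groth.Agent.S2297.result M N).1, (Groth.Agent.S2297.result M N).2 h1.2 hN.2⟩
          refine ⟨Pi.single i.rev (clC T (CohB1.tensorMod M N)), ?_⟩
          show ∑ j, G j (Pi.single (M := fun _ => SGA6.Kcoh T) i.rev _ j) = _
          rw [Finset.sum_eq_single i.rev (fun j _ hj => by rw [Pi.single_eq_of_ne hj, map_zero])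
            (fun h => absurd (Finset.mem_univ _) h), Pi.single_eq_same, hG _ _ hMN]
          refine clSub_congr (cohP P) ?_
          exact eqToIso (congrArg (fun d => tw hL d (pb π (CohB1.tensorMod M N)))
              (show ((i.rev : ℕ) : ℤ) = (n : ℤ) - ((i : ℕ) : ℤ) by rw [Fin.val_rev]; omega)) ≪≫
            HilbPolyLib.congrRight _ (@asIso _ _ _ _ (KFlatLib.pullθ π M N) (KFlatLib.isIso_pullθ _ _ _)) ≪≫
            ((VBP1Lib.compIso (Otw hL ((n : ℤ) - ((i : ℕ) : ℤ))) (pb π M)).app (pb π N)).symm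
      exact key (y i)
    obtain ⟨a, ha⟩ := htop.ge (AddSubgroup.mem_top y)
    exact ⟨a, ha⟩

/-- `K₀` of coherent modules of an empty scheme is trivial. -/
theorem subsingleton_Kcoh (X : Scheme.{u}) [IsEmpty X] : Subsingleton (SGA6.Kcoh X) := by
  haveI : (cohP X).IsClosedUnderIsomorphisms := cohP_iso X
  have h : ∀ a : SGA6.Kcoh X, a = 0 := DFunLike.congr_fun (hom_ext_coh (a := AddMonoidHom.id _) (b := 0) fun F hF => by
    simp only [AddMonoidHom.id_apply, AddMonoidHom.zero_apply]
    exact clSub_eq_zero (cohP X) hF ((KFlatLib.isZero_iff_forall_stalk _).2 fun x => isEmptyElim x))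
  exact ⟨fun a b => (h a).trans (h b).symm⟩

/-- The projective bundle theorem for coherent modules, in the form of iterated twists. -/
theorem bijective_iterate_coh {S P : Scheme.{u}} [IsNoetherian S] [IsNoetherian P] (n : ℕ) {E : S.Modules}
    (hE : FlatMod.IsFinLocFreeOfRank n E) (f : P ⟶ S) (O1 : P.Modules)
    (q : (Scheme.Modules.pullback f).obj E ⟶ O1) (hPB : KRR.IsProjBundle f E O1 q)
    (Pl : SGA6.Kcoh S →+ SGA6.Kcoh P) (hPl : ∀ N, Coh.IsCoh N → Pl (clC S N) = clC P (pb f N))
    (Tw : SGA6.Kcoh P →+ SGA6.Kcoh P) (hTw : ∀ N, Coh.IsCoh N → Tw (clC P N) = clC P (CohB1.tensorMod O1 N)) :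
    Function.Bijective (fun x : Fin n → SGA6.Kcoh S => ∑ i : Fin n, (⇑Tw)^[(i : ℕ)] (Pl (x i))) := by
  cases n with
  | zero =>
    haveI := isEmpty_of_rank_zero hPB hE
    haveI := subsingleton_Kcoh P
    exact ⟨fun a b _ => Subsingleton.elim a b, fun y => ⟨0, Subsingleton.elim _ _⟩⟩
  | succ m =>
    obtain ⟨_, _, hcov, -⟩ := bundle_data hPB hE
    have hL := inv_O1 hPB
    have e1 : Tw = twC hL 1 := hom_ext_coh fun F hF => by
      rw [hTw F hF, twC_cl hL 1 hF]
      exact clSub_congr (cohP P) (HilbPolyLib.congrLeft (nonempty_Otw_one hL).some.symm F)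
    have e : ∀ (k : ℕ) (z : SGA6.Kcoh P), (⇑Tw)^[k] z = twC hL (k : ℤ) z := fun k => by
      induction k with
      | zero => intro z; rw [Function.iterate_zero_apply, Nat.cast_zero, twC_zero]
      | succ k ih => intro z; rw [Function.iterate_succ_apply', ih, e1, twC_twC, Nat.cast_succ, add_comm]
    simp only [e]
    exact bijective_sum_coh hcov hL hPB hE (fun i => (twC hL ((i : ℕ) : ℤ)).comp Pl) fun i N hN => by
      rw [AddMonoidHom.coe_comp, Function.comp_apply, show Pl (clC S N) = _ from hPl N hN, twC_cl hL _ (isCoh_pb hN)]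

end ProjKLib

end
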