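import Groth.Agent.ProjKLib.Models
import Groth.Agent.ProjKLib.Conn
import Groth.Agent.KRRRegLib.Model
import Groth.Agent.ProjBunLib.Exists
import Groth.Agent.LambdaSpL.PosFil
import Groth.Agent.LambdaSpL.PosStr
import Groth.Agent.S3782
import Groth.Agent.S3788
import Groth.Agent.S3796

/-!
# The splitting principle for `K` of bundles
-/

set_option autoImplicit false
set_option linter.style.haveILetI false
set_option linter.unusedSectionVars false
set_option backward.isDefEq.respectTransparency false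
set_option backward.isDefEq.respectTransparency.types false
set_option maxHeartbeats 1000000

universe v v' u

open CategoryTheory CategoryTheory.Limits AlgebraicGeometry TopologicalSpace
open KFlatLib (pb)
open LambdaRing (LambdaOps PosStructure gammaFiltration HasSplitting IsExtension)

noncomputable section

namespace ProjKLib

open Groth.Agent

section Alg

variable {A : Type v} [CommRing A] [LambdaOps A] {B : Type v'} [CommRing B] [LambdaOps B]
  {P : PosStructure A} {Q : PosStructure B}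

/-- A homomorphism of λ-rings with augmentation respects the γ-filtration. -/
theorem map_gf (f : A →+* B) (hl : ∀ i x, f (LambdaOps.lam i x) = LambdaOps.lam i (f x))
    (ha : ∀ x, Q.aug (f x) = P.aug x) {k : ℕ} {x : A} (hx : x ∈ gammaFiltration P k) :
    f x ∈ gammaFiltration Q k := by
  have hg : ∀ (r : ℕ) (y : A), f (LambdaRing.gamma r y) = LambdaRing.gamma r (f y) := fun r y => by
    simp only [LambdaRing.gamma]
    split_ifs with h
    · exact map_one f
    · rw [map_sum]
      refine Finset.sum_congr rfl fun j _ => ?_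
      split_ifs with hj
      · simp
      · rw [map_mul, map_natCast, hl]
  rcases eq_or_ne k 0 with rfl | hk
  · rw [LambdaSpLib.gf_zero]; trivial
  refine LambdaSpLib.gf_induction P hk (p := fun y => f y ∈ gammaFiltration Q k) (fun l hl' hs => ?_)
    (by simp) (fun a b ha hb => by rw [map_add]; exact add_mem ha hb)
    (fun a ha => by rw [map_neg]; exact neg_mem ha) hx
  rw [map_list_prod, List.map_map]
  refine LambdaSpLib.gf_anti Q hs ?_
  clear hs hx
  induction l with
  | nil => simp [LambdaSpLib.gf_zero]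
  | cons p l ih =>
    simp only [List.map_cons, List.prod_cons, List.sum_cons, Function.comp_apply]
    refine LambdaSpLib.gf_mul Q ?_ (ih fun b hb => hl' b (by simp [hb]))
    rw [hg]
    exact LambdaSpLib.gamma_mem_gf Q (by rw [ha]; exact hl' p (by simp)) _

end Alg

section Iso

variable {A A' : Type v} [CommRing A] [CommRing A'] [LambdaOps A'] (Φ : A ≃+* A') (Q : PosStructure A')

/-- λ-operations transported along an isomorphism. -/
@[reducible] def transOps : LambdaOps A where
  lam i z := Φ.symm (LambdaOps.lam i (Φ z))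
  lam_zero x := by rw [LambdaOps.lam_zero, map_one]
  lam_one x := by rw [LambdaOps.lam_one, Φ.symm_apply_apply]
  lam_add k x y := by rw [map_add, LambdaOps.lam_add, map_sum]; simp [map_mul]

theorem transOps_lam (i : ℕ) (z : A) :
    Φ (@LambdaOps.lam A _ (transOps Φ) i z) = LambdaOps.lam i (Φ z) := Φ.apply_symm_apply _

/-- The positive structure transported along an isomorphism. -/
def transPos : @PosStructure A _ (transOps Φ) :=
  letI := transOps Φ
  { aug := Q.aug.comp Φ.toRingHom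
    aug_surjective := Q.aug_surjective.comp Φ.surjective
    pos := Φ ⁻¹' Q.pos
    add_mem := fun e f he hf => by
      show Φ (e + f) ∈ Q.pos
      rw [map_add]; exact Q.add_mem _ _ he hf
    mul_mem := fun e f he hf => by
      show Φ (e * f) ∈ Q.pos
      rw [map_mul]; exact Q.mul_mem _ _ he hf
    natCast_mem := fun n hn => by
      show Φ (n : A) ∈ Q.pos
      rw [map_natCast]; exact Q.natCast_mem n hn
    exists_sub := fun x => by
      obtain ⟨e, f, he, hf, h⟩ := Q.exists_sub (Φ x)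
      exact ⟨Φ.symm e, Φ.symm f, by show Φ _ ∈ Q.pos; rwa [Φ.apply_symm_apply],
        by show Φ _ ∈ Q.pos; rwa [Φ.apply_symm_apply], by rw [← map_sub, ← h, Φ.symm_apply_apply]⟩
    aug_pos := fun e he => Q.aug_pos _ he
    lam_eq_zero := fun e he i hi => by
      show Φ.symm (LambdaOps.lam i (Φ e)) = 0
      rw [Q.lam_eq_zero _ he i hi, map_zero]
    isUnit_lam := fun e he => by
      show IsUnit (Φ.symm (LambdaOps.lam _ (Φ e)))
      exact (Q.isUnit_lam _ he).map Φ.symm }

theorem isExtension_trans :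
    @IsExtension A _ (transOps Φ) A' _ _ (transPos Φ Q) Q Φ.toRingHom :=
  letI := transOps Φ
  ⟨fun i x => transOps_lam Φ i x, Φ.injective, fun _ => rfl, fun _ he => he⟩

/-- The splitting property transports along isomorphisms. -/
theorem hasSplitting_trans (h : HasSplitting A' Q) :
    @HasSplitting A _ (transOps Φ) (transPos Φ Q) := by
  letI := transOps Φ
  obtain ⟨C, hC, hstep⟩ := h
  refine ⟨insert ⟨A, transPos Φ Q⟩ C, Set.mem_insert _ _, fun L hL e he => ?_⟩
  rcases Set.mem_insert_iff.1 hL with rfl | hL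
  · obtain ⟨L', hL', f, hf, s, hs, he'⟩ := hstep _ hC (Φ e) he
    exact ⟨L', Set.mem_insert_of_mem _ hL', f.comp Φ.toRingHom,
      LambdaSpLib.isExtension_comp (isExtension_trans Φ Q) hf, s, hs, he'⟩
  · obtain ⟨L', hL', h'⟩ := hstep L hL e he
    exact ⟨L', Set.mem_insert_of_mem _ hL', h'⟩

end Iso

section Geom

variable {X P : Scheme.{u}} [IsNoetherian X] [ConnectedSpace X] [IsNoetherian P] [ConnectedSpace P]
  {π : P ⟶ X} {E : X.Modules} {O1 : P.Modules} {q : pb π E ⟶ O1} {r : ℕ}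
  {KX KP : Type (u + 1)} [CommRing KX] [LambdaOps KX] [CommRing KP] [LambdaOps KP]
  {PX : PosStructure KX} {φX : SGA6.Kvb X →+ KX} {PP : PosStructure KP} {φP : SGA6.Kvb P →+ KP}

theorem injective_pull (hE : FlatMod.IsFinLocFreeOfRank (r + 1) E) (hP : KRR.IsProjBundle π E O1 q)
    (hKX : KRR.IsModel X KX PX φX) (hKP : KRR.IsModel P KP PP φP) (g : KX →+ KP)
    (hg : KRR.IsPull π φX φP g) : Function.Injective g := fun a b hab => by
  have h := (bijective_model hE hP hKX hKP g hg).1
  have hs := @h (Pi.single 0 a) (Pi.single 0 b) (by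
    refine Finset.sum_congr rfl fun i _ => ?_
    rcases eq_or_ne i 0 with rfl | hi
    · rw [Pi.single_eq_same, Pi.single_eq_same, hab]
    · rw [Pi.single_eq_of_ne hi, Pi.single_eq_of_ne hi])
  simpa using congrFun hs 0

/-- The γ-filtration descends along a projective bundle. -/
theorem gf_descends (hE : FlatMod.IsFinLocFreeOfRank (r + 1) E) (hP : KRR.IsProjBundle π E O1 q)
    (hKX : KRR.IsModel X KX PX φX) (hKP : KRR.IsModel P KP PP φP) (g : KX →+* KP)
    (hg : KRR.IsPull π φX φP g.toAddMonoidHom)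
    (hgl : ∀ i y, g (LambdaOps.lam i y) = LambdaOps.lam i (g y)) (hga : ∀ y, PP.aug (g y) = PX.aug y)
    (hsX : HasSplitting KX PX) (hsP : HasSplitting KP PP) {k : ℕ} {x : KX}
    (hx : g x ∈ gammaFiltration PP k) : x ∈ gammaFiltration PX k := by
  classical
  let e := φX (KRR.cl X E)
  have he : e ∈ PX.pos := (hKX.mem_pos_iff e).2 ⟨r + 1, E, by omega, hE, rfl⟩
  have hr : PX.aug e = (r : ℤ) + 1 := by
    rw [hKX.aug_cl (r + 1) E hE]; push_cast; rfl
  have hrn : (PX.aug e).toNat = r + 1 := by rw [hr]; omega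
  let ℓ := φP (KRR.cl P O1)
  let f := KRR.extPoly PX e
  have hroot : f.eval₂ g ℓ = 0 := by
    have h := Groth.Agent.S3788.result X P r E hE π O1 q hP KX PX φX hKX KP PP φP hKP g.toAddMonoidHom hg
    rw [← h]
    simp only [f, KRR.extPoly, hrn, Polynomial.eval₂_finset_sum, Polynomial.eval₂_mul, Polynomial.eval₂_C,
      Polynomial.eval₂_pow, Polynomial.eval₂_X, Polynomial.eval₂_neg, Polynomial.eval₂_one, map_mul, map_pow, map_neg, map_one]
    exact Finset.sum_congr rfl fun i _ => rfl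
  have hdeg : f.natDegree ≤ r + 1 := by
    refine Polynomial.natDegree_sum_le_of_forall_le _ _ fun i _ => ?_
    exact (Polynomial.natDegree_C_mul_X_pow_le _ _).trans (by rw [hrn]; omega)
  have hcoef : f.coeff (r + 1) = 1 := by
    simp only [f, KRR.extPoly, hrn, Polynomial.finset_sum_coeff, Polynomial.coeff_C_mul_X_pow]
    rw [Finset.sum_eq_single 0 (fun i hi hi0 => if_neg (by have := Finset.mem_range.1 hi; omega))
      (fun h => absurd (Finset.mem_range.2 (by omega)) h)]
    simp [LambdaOps.lam_zero]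
  haveI : Nontrivial KX := ⟨⟨1, 0, fun h => by simpa using congrArg PX.aug h⟩⟩
  have hf1 : f ≠ 1 := fun h1 => by
    rw [h1, Polynomial.coeff_one, if_neg (by omega)] at hcoef
    exact zero_ne_one hcoef
  have hdeg' : f.natDegree = r + 1 :=
    le_antisymm hdeg (Polynomial.le_natDegree_of_ne_zero (by rw [hcoef]; exact one_ne_zero))
  have hmon : f.Monic := Polynomial.monic_of_natDegree_le_of_coeff_eq_one (r + 1) hdeg hcoef
  have hb := bijective_model hE hP hKX hKP g.toAddMonoidHom hg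
  let Φ₀ : AdjoinRoot f →+* KP := AdjoinRoot.lift g ℓ hroot
  have hbij : Function.Bijective Φ₀ := by
    refine ⟨(injective_iff_map_eq_zero Φ₀).2 fun z hz => ?_, fun y => ?_⟩
    · obtain ⟨p, rfl⟩ := AdjoinRoot.mk_surjective z
      have hp : AdjoinRoot.mk f p = AdjoinRoot.mk f (p %ₘ f) :=
        (AdjoinRoot.mk_eq_mk).2 ⟨p /ₘ f, by rw [sub_eq_iff_eq_add']; exact (Polynomial.modByMonic_add_div p f).symm⟩
      rw [hp] at hz ⊢
      set p' := p %ₘ f with hp'
      have hd : p'.natDegree < r + 1 := (Polynomial.natDegree_modByMonic_lt p hmon hf1).trans_le hdeg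
      rw [AdjoinRoot.lift_mk, Polynomial.eval₂_eq_sum_range' g hd] at hz
      have := @hb.1 (fun i => p'.coeff (i : ℕ)) 0 (by
        show ∑ i : Fin (r + 1), g (p'.coeff (i : ℕ)) * ℓ ^ (i : ℕ) = ∑ i : Fin (r + 1), g 0 * ℓ ^ (i : ℕ)
        rw [Fin.sum_univ_eq_sum_range (fun i => g (p'.coeff i) * ℓ ^ i), hz]
        simp)
      rw [show p' = 0 from Polynomial.ext fun i => ?_, map_zero]
      rcases lt_or_ge i (r + 1) with hi | hi
      · simpa using congrFun this ⟨i, hi⟩
      · simp [Polynomial.coeff_eq_zero_of_natDegree_lt (hd.trans_le hi)]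
    · obtain ⟨a, ha⟩ := hb.2 y
      refine ⟨∑ i : Fin (r + 1), AdjoinRoot.of f (a i) * AdjoinRoot.root f ^ (i : ℕ), ?_⟩
      rw [← ha, map_sum]
      refine Finset.sum_congr rfl fun i _ => ?_
      rw [map_mul, map_pow, AdjoinRoot.lift_of, AdjoinRoot.lift_root]
      rfl
  let Φ : AdjoinRoot f ≃+* KP := RingEquiv.ofBijective Φ₀ hbij
  have hof : ∀ y, Φ (AdjoinRoot.of f y) = g y := fun y => AdjoinRoot.lift_of hroot
  letI inst := transOps Φ
  let Pe := transPos Φ PP
  have hline : Pe.IsLine (AdjoinRoot.root f) := by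
    have h := KRRRegLib.isLine_cl hKP hP.invertible
    have hr' : Φ (AdjoinRoot.root f) = ℓ := AdjoinRoot.lift_root hroot
    exact ⟨show Φ (AdjoinRoot.root f) ∈ PP.pos from hr'.symm ▸ h.1, show PP.aug (Φ _) = 1 from hr'.symm ▸ h.2⟩
  have hposmap : ∀ y ∈ PX.pos, g y ∈ PP.pos := fun y hy => by
    obtain ⟨m, M, hm, hM, rfl⟩ := (hKX.mem_pos_iff y).1 hy
    exact (hKP.mem_pos_iff _).2 ⟨m, pb π M, hm, SeesawLib.isFinLocFreeOfRank_pullback π hM,
      (hg M (SeesawLib.isFinLocFree_of_rank hM)).symm⟩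
  have hext : IsExtension PX Pe (AdjoinRoot.of f) := by
    refine ⟨fun i y => Φ.injective ?_, fun a b hab => ?_, fun y => ?_, fun y hy => ?_⟩
    · rw [transOps_lam, hof, hof, hgl]
    · exact injective_pull hE hP hKX hKP g.toAddMonoidHom hg ((hof a).symm.trans ((congrArg Φ hab).trans (hof b)))
    · show PP.aug (Φ _) = _
      rw [hof, hga]
    · show Φ _ ∈ PP.pos
      rw [hof]; exact hposmap y hy
  have hx' : AdjoinRoot.of f x ∈ gammaFiltration Pe k := by
    have h := map_gf (Q := Pe) Φ.symm.toRingHom (fun i z => Φ.injective (by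
      rw [transOps_lam]; exact (Φ.apply_symm_apply _).trans (congrArg _ (Φ.apply_symm_apply z).symm)))
      (fun z => show PP.aug (Φ (Φ.symm z)) = PP.aug z by rw [Φ.apply_symm_apply]) hx
    rwa [RingEquiv.toRingHom_eq_coe, RingEquiv.coe_toRingHom, ← hof, Φ.symm_apply_apply] at h
  rw [Groth.Agent.S3782.result KX PX hsX e he r hr inst Pe hext (fun i hi => LambdaSpLib.line_lam hline i hi) hline
    (hasSplitting_trans Φ PP hsP) k] at hx'
  let π₀ : AdjoinRoot f →+ KX :=
    ((Polynomial.evalRingHom (1 : KX)).toAddMonoidHom).comp (AdjoinRoot.modByMonicHom hmon).toAddMonoidHom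
  have hπ : ∀ (y : KX) (i : ℕ), i ≤ r →
      π₀ (AdjoinRoot.of f y * (AdjoinRoot.root f - 1) ^ i) = y * (0 : KX) ^ i := by
    intro y i hi
    have hz : AdjoinRoot.of f y * (AdjoinRoot.root f - 1) ^ i =
        AdjoinRoot.mk f (Polynomial.C y * (Polynomial.X - Polynomial.C 1) ^ i) := by
      rw [map_mul, map_pow, map_sub, AdjoinRoot.mk_C, AdjoinRoot.mk_X, AdjoinRoot.mk_C, map_one]
    have hlt : (Polynomial.C y * (Polynomial.X - Polynomial.C (1 : KX)) ^ i).degree < f.degree := by
      refine lt_of_le_of_lt (Polynomial.degree_le_of_natDegree_le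
        (Polynomial.natDegree_C_mul_le _ _ |>.trans (Polynomial.natDegree_pow_le.trans
          (by rw [Polynomial.natDegree_X_sub_C, mul_one])))) ?_
      rw [Polynomial.degree_eq_natDegree hmon.ne_zero, hdeg']
      exact_mod_cast (show i < r + 1 by omega)
    simp only [π₀, AddMonoidHom.coe_comp, Function.comp_apply, RingHom.toAddMonoidHom_eq_coe,
      AddMonoidHom.coe_coe, Polynomial.coe_evalRingHom, LinearMap.toAddMonoidHom_coe]
    rw [hz, AdjoinRoot.modByMonicHom_mk, (Polynomial.modByMonic_eq_self_iff hmon).2 hlt]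
    simp
  have hle : (⨆ i ∈ Finset.range (r + 1), AddSubgroup.map
      ((AddMonoidHom.mulRight ((AdjoinRoot.root f - 1) ^ i)).comp (AdjoinRoot.of f).toAddMonoidHom)
        (gammaFiltration PX (k - i))) ≤ (gammaFiltration PX k).comap π₀ := by
    refine iSup₂_le fun i hi => ?_
    rintro _ ⟨y, hy, rfl⟩
    simp only [AddSubgroup.mem_comap, AddMonoidHom.coe_comp, Function.comp_apply, AddMonoidHom.coe_mulRight,
      RingHom.toAddMonoidHom_eq_coe, AddMonoidHom.coe_coe]
    rw [hπ y i (by have := Finset.mem_range.1 hi; omega)]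
    rcases Nat.eq_zero_or_pos i with rfl | hi0
    · simpa using hy
    · simp [zero_pow hi0.ne']
  have h := hle hx'
  rw [AddSubgroup.mem_comap, show AdjoinRoot.of f x = AdjoinRoot.of f x * (AdjoinRoot.root f - 1) ^ 0 by
    rw [pow_zero, mul_one], hπ x 0 (Nat.zero_le _), pow_zero, mul_one] at h
  exact h

end Geom

/-- The splitting principle, with descent of the filtration when all models split. -/
theorem exists_split : ∀ (m : ℕ) (X : Scheme.{u}) [IsNoetherian X] [ConnectedSpace X] (K : Type (u + 1))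
    [CommRing K] [LambdaOps K] (P : PosStructure K) (φ : SGA6.Kvb X →+ K), KRR.IsModel X K P φ →
    ∀ E : X.Modules, FlatMod.IsFinLocFreeOfRank m E →
    ∃ (X' : Scheme.{u}) (_ : IsNoetherian X') (_ : ConnectedSpace X') (f : X' ⟶ X)
      (K' : Type (u + 1)) (_ : CommRing K') (_ : LambdaOps K') (P' : PosStructure K')
      (φ' : SGA6.Kvb X' →+ K') (_ : KRR.IsModel X' K' P' φ') (g : K →+* K'),
      KRR.IsPull f φ φ' g.toAddMonoidHom ∧ (∀ i y, g (LambdaOps.lam i y) = LambdaOps.lam i (g y)) ∧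
      (∀ y, P'.aug (g y) = P.aug y) ∧ Function.Injective g ∧
      (∃ L : Fin m → X'.Modules, (∀ j, FlatMod.IsFinLocFreeOfRank 1 (L j)) ∧
        g (φ (KRR.cl X E)) = ∑ j, φ' (KRR.cl X' (L j))) ∧
      ((∀ (Z : Scheme.{u}) [IsNoetherian Z] [ConnectedSpace Z] (KZ : Type (u + 1)) [CommRing KZ] [LambdaOps KZ]
          (PZ : PosStructure KZ) (φZ : SGA6.Kvb Z →+ KZ), KRR.IsModel Z KZ PZ φZ → HasSplitting KZ PZ) →
        ∀ (k : ℕ) (y : K), g y ∈ gammaFiltration P' k → y ∈ gammaFiltration P k) := by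
  intro m
  induction m with
  | zero =>
    intro X _ _ K _ _ P φ hK E hE
    refine ⟨X, inferInstance, inferInstance, 𝟙 X, K, inferInstance, inferInstance, P, φ, hK, RingHom.id K,
      fun M hM => ?_, fun _ _ => rfl, fun _ => rfl, fun a b h => h, ⟨fun j => j.elim0, fun j => j.elim0, ?_⟩,
      fun _ _ _ h => h⟩
    · exact congrArg φ (KHeartLib.clSub_congr (KRR.vbP X) ((Scheme.Modules.pullbackId X).app M).symm)
    · rw [show KRR.cl X E = 0 from KHeartLib.clSub_eq_zero (KRR.vbP X) (SeesawLib.isFinLocFree_of_rank hE)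
        (ProjBunLib.isZero_of_rank_zero hE), map_zero, map_zero]
      rfl
  | succ m ih =>
    intro X _ _ K _ _ P φ hK E hE
    obtain ⟨Z, π, O1, q, hZ⟩ := ProjBunLib.exists_isProjBundle hE
    haveI := isNoetherian hZ hE
    haveI := connectedSpace hZ hE
    obtain ⟨KZ, _, _, PZ, φZ, hKZ⟩ := Groth.Agent.S3796.result Z
    obtain ⟨g₁, hg₁, hl₁, ha₁⟩ := KRRRegLib.exists_pullHom π hKZ hK
    haveI := hZ.epi
    have hS : (ShortComplex.mk (kernel.ι q) q (kernel.condition q)).ShortExact :=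
      ShortComplex.ShortExact.mk (ShortComplex.exact_kernel q)
    have hEP : FlatMod.IsFinLocFreeOfRank (m + 1) (pb π E) := SeesawLib.isFinLocFreeOfRank_pullback π hE
    have hK' : FlatMod.IsFinLocFreeOfRank m (kernel q) :=
      ProjBunLib.rank_of_shortExact hS hEP hZ.invertible
    obtain ⟨X', _, _, f, K', _, _, P', φ', hK'', g₂, hg₂, hl₂, ha₂, hi₂, ⟨L, hL, hsum⟩, hfil⟩ :=
      ih Z KZ PZ φZ hKZ (kernel q) hK'
    refine ⟨X', inferInstance, inferInstance, f ≫ π, K', inferInstance, inferInstance, P', φ', hK'', g₂.comp g₁,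
      fun M hM => ?_, fun i y => ?_, fun y => ?_, ?_, ⟨Fin.cons (pb f O1) L, ?_, ?_⟩, fun hall k y hy => ?_⟩
    · show g₂ (g₁ _) = _
      rw [show g₁ (φ (KRR.cl X M)) = _ from hg₁ M hM]
      refine (hg₂ _ (KFlatLib.isFinLocFree_pull π hM)).trans ?_
      exact congrArg φ' (KHeartLib.clSub_congr (KRR.vbP X') ((Scheme.Modules.pullbackComp f π).app M))
    · show g₂ (g₁ _) = _
      rw [hl₁, hl₂]; rfl
    · show P'.aug (g₂ (g₁ y)) = _
      rw [ha₂, ha₁]
    · exact hi₂.comp (injective_pull hE hZ hK hKZ g₁.toAddMonoidHom hg₁)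
    · intro j
      cases j using Fin.cases with
      | zero => exact SeesawLib.isFinLocFreeOfRank_pullback f hZ.invertible
      | succ j => simpa using hL j
    · rw [Fin.sum_univ_succ]
      simp only [Fin.cons_zero, Fin.cons_succ]
      rw [← hsum]
      show g₂ (g₁ _) = _
      have e₁ : g₁ (φ (KRR.cl X E)) = φZ (KRR.cl Z (pb π E)) := hg₁ E (SeesawLib.isFinLocFree_of_rank hE)
      have e₂ : KRR.cl Z (pb π E) = KRR.cl Z (kernel q) + KRR.cl Z O1 :=
        KHeartLib.clSub_add (KRR.vbP Z) _ hS (SeesawLib.isFinLocFree_of_rank hK')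
          (SeesawLib.isFinLocFree_of_rank hEP) (SeesawLib.isFinLocFree_of_rank hZ.invertible)
      rw [e₁, e₂, map_add, map_add, show g₂ (φZ (KRR.cl Z O1)) = φ' (KRR.cl X' (pb f O1)) from
        hg₂ O1 (SeesawLib.isFinLocFree_of_rank hZ.invertible), add_comm]
    · exact gf_descends hE hZ hK hKZ g₁ hg₁ hl₁ ha₁ (hall X K P φ hK) (hall Z KZ PZ φZ hKZ) (hfil hall k _ hy)

/-- **Models of `K` of schemes have the splitting property.** -/
theorem hasSplitting (X : Scheme.{u}) [IsNoetherian X] [ConnectedSpace X] (K : Type (u + 1)) [CommRing K]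
    [LambdaOps K] (P : PosStructure K) (φ : SGA6.Kvb X →+ K) (hK : KRR.IsModel X K P φ) : HasSplitting K P := by
  refine ⟨{L | ∃ (Z : Scheme.{u}) (_ : IsNoetherian Z) (_ : ConnectedSpace Z) (ψ : SGA6.Kvb Z →+ L.carrier),
    KRR.IsModel Z L.carrier L.posStr ψ}, ⟨X, inferInstance, inferInstance, φ, hK⟩, ?_⟩
  rintro L ⟨Z, _, _, ψ, hψ⟩ e he
  obtain ⟨n, E, hn, hE, rfl⟩ := (hψ.mem_pos_iff e).1 he
  obtain ⟨X', _, _, f, K', _, _, P', φ', hK', g, hg, hgl, hga, hinj, ⟨Ls, hLs, hsum⟩, -⟩ :=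
    exists_split n Z L.carrier L.posStr ψ hψ E hE
  refine ⟨⟨K', P'⟩, ⟨X', inferInstance, inferInstance, φ', hK'⟩, g, ⟨hgl, hinj, hga, fun y hy => ?_⟩,
    Finset.univ.val.map fun j => φ' (KRR.cl X' (Ls j)), fun v hv => ?_, hsum.symm⟩
  · obtain ⟨m, M, hm, hM, rfl⟩ := (hψ.mem_pos_iff y).1 hy
    exact (hK'.mem_pos_iff _).2 ⟨m, pb f M, hm, SeesawLib.isFinLocFreeOfRank_pullback f hM,
      (hg M (SeesawLib.isFinLocFree_of_rank hM)).symm⟩
  · obtain ⟨j, -, rfl⟩ := Multiset.mem_map.1 hv
    exact KRRRegLib.isLine_cl hK' (hLs j)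

/-- The splitting principle for schemes. -/
theorem splitting_property (X : Scheme.{u}) [IsNoetherian X] [ConnectedSpace X]
    (K : Type v) [CommRing K] [LambdaOps K] (P : PosStructure K) (φ : SGA6.Kvb X →+ K)
    (hK : KRR.IsModel X K P φ) (m : ℕ) (E : X.Modules) (hE : FlatMod.IsFinLocFreeOfRank m E) :
    ∃ (X' : Scheme.{u}) (_ : IsNoetherian X') (_ : ConnectedSpace X') (f : X' ⟶ X)
      (K' : Type (u + 1)) (_ : CommRing K') (_ : LambdaOps K') (P' : PosStructure K')
      (φ' : SGA6.Kvb X' →+ K') (_ : KRR.IsModel X' K' P' φ') (g : K →+ K') (_ : KRR.IsPull f φ φ' g),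
      Function.Injective g ∧ (∀ k : ℕ, (gammaFiltration P' k).comap g = gammaFiltration P k) ∧
      ∃ L : Fin m → X'.Modules, (∀ j, FlatMod.IsFinLocFreeOfRank 1 (L j)) ∧
        g (φ (KRR.cl X E)) = ∑ j, φ' (KRR.cl X' (L j)) := by
  obtain ⟨K₀, _, _, P₀, φ₀, hK₀⟩ := Groth.Agent.S3796.result X
  obtain ⟨a, ha, hal, haa⟩ := KRRRegLib.exists_pullHom (𝟙 X) hK₀ hK
  obtain ⟨b, hb, hbl, hba⟩ := KRRRegLib.exists_pullHom (𝟙 X) hK hK₀
  have hid : ∀ M : X.Modules, KRR.cl X (pb (𝟙 X) M) = KRR.cl X M := fun M =>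
    KHeartLib.clSub_congr (KRR.vbP X) ((Scheme.Modules.pullbackId X).app M)
  have hba' : ∀ y, b (a y) = y := fun y => by
    refine KRRRegLib.model_induction hK (motive := fun y => b (a y) = y) (fun M hM => ?_) (by simp)
      (fun c d hc hd => by rw [map_add, map_add, hc, hd]) (fun c hc => by rw [map_neg, map_neg, hc]) y
    rw [show a (φ (KRR.cl X M)) = φ₀ (KRR.cl X (pb (𝟙 X) M)) from ha M hM, hid,
      show b (φ₀ (KRR.cl X M)) = φ (KRR.cl X (pb (𝟙 X) M)) from hb M hM, hid]
  obtain ⟨X', i₁, i₂, f, K', i₃, i₄, P', φ', hK', g, hg, hgl, hga, hinj, ⟨L, hL, hsum⟩, hfil⟩ :=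
    exists_split m X K₀ P₀ φ₀ hK₀ E hE
  refine ⟨X', i₁, i₂, f, K', i₃, i₄, P', φ', hK', (g.comp a).toAddMonoidHom, fun M hM => ?_,
    hinj.comp (Function.LeftInverse.injective hba'), fun k => ?_, L, hL, ?_⟩
  · show g (a _) = _
    rw [show a (φ (KRR.cl X M)) = φ₀ (KRR.cl X (pb (𝟙 X) M)) from ha M hM, hid]
    exact hg M hM
  · ext y
    refine ⟨fun h => ?_, fun h => ?_⟩
    · have h' := map_gf (Q := P) b hbl hba (hfil (fun Z _ _ KZ _ _ PZ φZ hZ => hasSplitting Z KZ PZ φZ hZ) k _ h)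
      rwa [hba'] at h'
    · exact map_gf (Q := P') (g.comp a) (fun i z => by simp only [RingHom.comp_apply, hal, hgl])
        (fun z => by simp only [RingHom.comp_apply, hga, haa]) h
  · show g (a _) = _
    rw [show a (φ (KRR.cl X E)) = φ₀ (KRR.cl X (pb (𝟙 X) E)) from ha E (SeesawLib.isFinLocFree_of_rank hE), hid]
    exact hsum

end ProjKLib

end
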