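import Groth.Agent.LambdaSpL.Special
import Groth.Agent.LambdaSpL.PosStr

/-!
# Combinations of line elements satisfy the identities of special λ-rings
-/

set_option autoImplicit false
set_option linter.style.haveILetI false
set_option linter.unusedSectionVars false
set_option maxHeartbeats 1000000

universe v w

open MvPolynomial Finset
open LambdaRing (LambdaOps IsSpecial adamsOp IsMulPoly IsCompPoly)

noncomputable section

namespace ProjKLib

variable {σ : Type v}

/-- The series `1 + m t` of a monomial. -/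
def lineU (m : σ →₀ ℕ) : (PowerSeries (MvPolynomial σ ℤ))ˣ :=
  (PowerSeries.isUnit_iff_constantCoeff.2 (by simp) :
    IsUnit (1 + PowerSeries.C (monomial m (1 : ℤ)) * PowerSeries.X)).unit

/-- `λ_t` on the universal ring of line elements. -/
def lineHom : MvPolynomial σ ℤ →+ Additive (PowerSeries (MvPolynomial σ ℤ))ˣ :=
  ((MvPolynomial.basisMonomials σ ℤ).constr ℤ fun m => Additive.ofMul (lineU m)).toAddMonoidHom

/-- `λ_t` as a series. -/
def lineSer (f : MvPolynomial σ ℤ) : PowerSeries (MvPolynomial σ ℤ) :=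
  ((Additive.toMul (lineHom f) : (PowerSeries (MvPolynomial σ ℤ))ˣ) : PowerSeries (MvPolynomial σ ℤ))

theorem lineSer_add (f g : MvPolynomial σ ℤ) : lineSer (f + g) = lineSer f * lineSer g := by
  simp [lineSer]

theorem lineSer_monomial (m : σ →₀ ℕ) :
    lineSer (monomial m (1 : ℤ)) = 1 + PowerSeries.C (monomial m (1 : ℤ)) * PowerSeries.X := by
  have h : lineHom (monomial m (1 : ℤ)) = Additive.ofMul (lineU m) := by
    have e : (MvPolynomial.basisMonomials σ ℤ) m = monomial m (1 : ℤ) := by simp
    rw [← e]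
    simp only [lineHom, LinearMap.toAddMonoidHom_coe]
    exact Module.Basis.constr_basis (MvPolynomial.basisMonomials σ ℤ) ℤ _ m
  simp [lineSer, h, lineU]

theorem lineSer_coeff (f : MvPolynomial σ ℤ) :
    PowerSeries.coeff 0 (lineSer f) = 1 ∧ PowerSeries.coeff 1 (lineSer f) = f := by
  have hadd : ∀ a b : MvPolynomial σ ℤ,
      (PowerSeries.coeff 0 (lineSer a) = 1 ∧ PowerSeries.coeff 1 (lineSer a) = a) →
      (PowerSeries.coeff 0 (lineSer b) = 1 ∧ PowerSeries.coeff 1 (lineSer b) = b) →
      (PowerSeries.coeff 0 (lineSer (a + b)) = 1 ∧ PowerSeries.coeff 1 (lineSer (a + b)) = a + b) := by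
    intro a b ha hb
    rw [lineSer_add, PowerSeries.coeff_mul, PowerSeries.coeff_mul, Finset.Nat.sum_antidiagonal_eq_sum_range_succ_mk,
      Finset.Nat.sum_antidiagonal_eq_sum_range_succ_mk]
    simp [Finset.sum_range_succ, ha.1, ha.2, hb.1, hb.2, add_comm]
  have h0 : PowerSeries.coeff 0 (lineSer (0 : MvPolynomial σ ℤ)) = 1 ∧
      PowerSeries.coeff 1 (lineSer (0 : MvPolynomial σ ℤ)) = 0 := by
    simp [lineSer]
  induction f using MvPolynomial.induction_on' with
  | add a b ha hb => exact hadd a b ha hb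
  | monomial m c =>
    induction c using Int.induction_on with
    | zero => simpa using h0
    | succ c ih =>
      rw [map_add]
      refine hadd _ _ ih ?_
      rw [lineSer_monomial]
      simp
    | pred c ih =>
      have h1 : PowerSeries.coeff 0 (lineSer (monomial m (1 : ℤ))) = 1 ∧
          PowerSeries.coeff 1 (lineSer (monomial m (1 : ℤ))) = monomial m 1 := by
        rw [lineSer_monomial]; simp
      have hs := lineSer_add (monomial m (-(c : ℤ) - 1)) (monomial m (1 : ℤ))
      rw [← map_add, sub_add_cancel] at hs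
      have e0 := congrArg (PowerSeries.coeff 0) hs
      have e1 := congrArg (PowerSeries.coeff 1) hs
      rw [PowerSeries.coeff_mul, Finset.Nat.sum_antidiagonal_eq_sum_range_succ_mk] at e0 e1
      simp only [Finset.sum_range_succ, Finset.sum_range_zero, zero_add, Nat.sub_zero, Nat.sub_self, h1.1, h1.2,
        mul_one, ih.1, ih.2] at e0 e1
      refine ⟨e0.symm, ?_⟩
      rw [← e0, one_mul] at e1
      rw [eq_sub_of_add_eq (show PowerSeries.coeff 1 (lineSer (monomial m (-(c : ℤ) - 1))) + monomial m 1 = monomial m (-(c : ℤ)) by rw [add_comm]; exact e1.symm), ← map_sub]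

/-- The universal λ-ring of line elements. -/
@[reducible] def lineOps : LambdaOps (MvPolynomial σ ℤ) where
  lam n f := PowerSeries.coeff n (lineSer f)
  lam_zero f := (lineSer_coeff f).1
  lam_one f := (lineSer_coeff f).2
  lam_add k f g := by
    rw [lineSer_add, PowerSeries.coeff_mul, Finset.Nat.sum_antidiagonal_eq_sum_range_succ_mk]

theorem lineOps_monomial (m : σ →₀ ℕ) (n : ℕ) (hn : 2 ≤ n) :
    letI := lineOps (σ := σ)
    LambdaOps.lam n (monomial m (1 : ℤ)) = 0 := by
  show PowerSeries.coeff n (lineSer (monomial m (1 : ℤ))) = 0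
  rw [lineSer_monomial, map_add, PowerSeries.coeff_one, if_neg (by omega), zero_add]
  obtain ⟨k, rfl⟩ : ∃ k, n = k + 1 := ⟨n - 1, by omega⟩
  rw [PowerSeries.coeff_succ_mul_X, PowerSeries.coeff_C, if_neg (by omega)]

theorem adamsOp_lineOps (k : ℕ) (hk : 1 ≤ k) (f : MvPolynomial σ ℤ) :
    letI := lineOps (σ := σ)
    adamsOp k f = aeval (fun i : σ => (X i : MvPolynomial σ ℤ) ^ k) f := by
  letI := lineOps (σ := σ)
  let A : MvPolynomial σ ℤ →+ MvPolynomial σ ℤ := AddMonoidHom.mk' (fun f => adamsOp k f)
    (fun a b => LambdaSpLib.adamsOp_add k hk a b)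
  suffices h : A = (aeval fun i : σ => (X i : MvPolynomial σ ℤ) ^ k).toAddMonoidHom from DFunLike.congr_fun h f
  refine AddMonoidHom.ext fun f => ?_
  induction f using MvPolynomial.induction_on' with
  | add a b ha hb => rw [map_add, map_add, ha, hb]
  | monomial m c => ?_
  have h1 : A (monomial m (1 : ℤ)) = (aeval fun i : σ => (X i : MvPolynomial σ ℤ) ^ k).toAddMonoidHom (monomial m (1 : ℤ)) := by
    show adamsOp k (monomial m (1 : ℤ)) = _
    have h := LambdaSpLib.adamsOp_sum_lines (A := MvPolynomial σ ℤ) (s := {monomial m (1 : ℤ)})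
      (fun u hu j hj => by rw [Multiset.mem_singleton.1 hu]; exact lineOps_monomial m j hj) hk
    simp only [Multiset.sum_singleton, Multiset.map_singleton] at h
    rw [h, monomial_pow, one_pow]
    show monomial (k • m) (1 : ℤ) = aeval (fun i : σ => (X i : MvPolynomial σ ℤ) ^ k) (monomial m (1 : ℤ))
    rw [monomial_eq (s := k • m), C_1, one_mul, aeval_monomial, map_one, one_mul]
    rw [Finsupp.prod_of_support_subset (k • m) Finsupp.support_smul _ (fun i _ => pow_zero _)]
    refine Finset.prod_congr rfl fun i _ => ?_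
    rw [Finsupp.smul_apply, smul_eq_mul, pow_mul]
  rw [show monomial m c = c • monomial m (1 : ℤ) by rw [smul_monomial, smul_eq_mul, mul_one], map_zsmul, map_zsmul, h1]

theorem isSpecial_lineOps :
    letI := lineOps (σ := σ)
    IsSpecial (MvPolynomial σ ℤ) := by
  letI := lineOps (σ := σ)
  let ι : MvPolynomial σ ℤ →+* MvPolynomial σ ℚ := MvPolynomial.map (Int.castRingHom ℚ)
  let ψ : ℕ → (MvPolynomial σ ℚ →+* MvPolynomial σ ℚ) := fun k =>
    (aeval fun i : σ => (X i : MvPolynomial σ ℚ) ^ k).toRingHom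
  have hψ : ∀ k, 1 ≤ k → ∀ f, ι (adamsOp k f) = ψ k (ι f) := fun k hk f => by
    rw [adamsOp_lineOps k hk]
    induction f using MvPolynomial.induction_on with
    | C a => simp [ι, ψ]
    | add a b ha hb => rw [map_add, map_add, map_add, map_add, ha, hb]
    | mul_X a i ha => rw [map_mul, map_mul, map_mul, map_mul, ha]; simp [ι, ψ]
  have hψψ : ∀ a b : ℕ, ∀ f, ψ a (ψ b f) = ψ (a * b) f := fun a b f => by
    induction f using MvPolynomial.induction_on with
    | C c => simp [ψ]
    | add a' b' ha hb => rw [map_add, map_add, map_add, ha, hb]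
    | mul_X a' i ha => rw [map_mul, map_mul, map_mul, ha]; simp [ψ, ← pow_mul]
  refine LambdaSpLib.isSpecial_of_adams ι (map_injective _ Int.cast_injective) (fun k hk => ?_)
    (fun k hk x y => ?_) (fun i l hl x => ?_)
  · rw [hψ k hk, map_one, map_one]
  · rw [hψ k hk, hψ k hk, hψ k hk, map_mul, map_mul]
  · have hlam : ι (LambdaOps.lam i x) = LambdaSpLib.fSeq (fun r => ι (adamsOp r x)) i :=
      LambdaSpLib.fSeq_eq (E := fun n => ι (LambdaOps.lam n x)) (by simp [LambdaOps.lam_zero])
        ((LambdaSpLib.newtonRel_lam x).map ι) i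
    rw [hψ l hl, hlam, LambdaSpLib.map_fSeq]
    refine LambdaSpLib.fSeq_congr fun r hr _ => ?_
    simp only [Function.comp_apply]
    rw [hψ r hr, hψψ, hψ (l * r) (Nat.mul_pos hl hr)]

/-- Line elements closed under products carry the identities to their combinations. -/
theorem exists_lift_lines {K : Type v} [CommRing K] [LambdaOps K] (M : Submonoid K)
    (hM : ∀ u ∈ M, ∀ n : ℕ, 2 ≤ n → LambdaOps.lam n u = 0) :
    letI := lineOps (σ := ↥M)
    ∃ ev : MvPolynomial (↥M) ℤ →+* K, (∀ n f, ev (LambdaOps.lam n f) = LambdaOps.lam n (ev f)) ∧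
      ∀ x ∈ AddSubgroup.closure (M : Set K), ∃ f, ev f = x := by
  letI := lineOps (σ := ↥M)
  let ev : MvPolynomial (↥M) ℤ →+* K := (aeval fun u : ↥M => (u : K)).toRingHom
  have hmem : ∀ m : ↥M →₀ ℕ, ev (monomial m (1 : ℤ)) ∈ M := fun m => by
    show aeval (fun u : ↥M => (u : K)) (monomial m (1 : ℤ)) ∈ M
    rw [aeval_monomial, map_one, one_mul]
    exact Submonoid.prod_mem M fun u _ => Submonoid.pow_mem M u.2 _
  let ser : K → PowerSeries K := fun x => PowerSeries.mk fun n => LambdaOps.lam n x
  have hser : ∀ a b : K, ser (a + b) = ser a * ser b := fun a b => by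
    ext n
    simp only [ser, PowerSeries.coeff_mk, LambdaOps.lam_add, PowerSeries.coeff_mul,
      Finset.Nat.sum_antidiagonal_eq_sum_range_succ_mk]
  have hunit : ∀ a : K, IsUnit (ser a) := fun a => by
    rw [PowerSeries.isUnit_iff_constantCoeff]
    simp [ser, ← PowerSeries.coeff_zero_eq_constantCoeff_apply, LambdaOps.lam_zero]
  have hser0 : ser 0 = 1 := by
    have h := hser 0 0
    rw [add_zero] at h
    exact (IsUnit.mul_left_cancel (hunit 0) (h.symm.trans (mul_one _).symm))
  have key : ∀ f, PowerSeries.map ev (lineSer f) = ser (ev f) := by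
    intro f
    induction f using MvPolynomial.induction_on' with
    | add a b ha hb => rw [lineSer_add, map_mul, map_add, hser, ha, hb]
    | monomial m c =>
      have h1 : PowerSeries.map ev (lineSer (monomial m (1 : ℤ))) = ser (ev (monomial m 1)) := by
        rw [lineSer_monomial]
        ext n
        simp only [ser, PowerSeries.coeff_map, PowerSeries.coeff_mk]
        rcases n with _ | n
        · simp [LambdaOps.lam_zero]
        rcases n with _ | n
        · simp [LambdaOps.lam_one]
        · rw [hM _ (hmem m) _ (by omega), map_add, PowerSeries.coeff_one, if_neg (by omega),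
            PowerSeries.coeff_succ_mul_X, PowerSeries.coeff_C, if_neg (by omega), add_zero, map_zero]
      induction c using Int.induction_on with
      | zero => simp [lineSer, hser0]
      | succ c ih => rw [map_add, lineSer_add, map_mul, map_add, hser, ih, h1]
      | pred c ih =>
        have hs := lineSer_add (monomial m (-(c : ℤ) - 1)) (monomial m (1 : ℤ))
        rw [← map_add, sub_add_cancel] at hs
        rw [hs, map_mul, h1] at ih
        rw [show monomial m (-(c : ℤ)) = monomial m (-(c : ℤ) - 1) + monomial m (1 : ℤ) by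
          rw [← map_add, sub_add_cancel], map_add, hser] at ih
        exact (hunit _).mul_right_cancel ih
  refine ⟨ev, fun n f => ?_, fun x hx => ?_⟩
  · have h := congrArg (PowerSeries.coeff n) (key f)
    simp only [ser, PowerSeries.coeff_map, PowerSeries.coeff_mk] at h
    exact h
  · induction hx using AddSubgroup.closure_induction with
    | mem a ha => exact ⟨X ⟨a, ha⟩, by simp [ev]⟩
    | zero => exact ⟨0, map_zero _⟩
    | add a b _ _ ha hb =>
      obtain ⟨f, rfl⟩ := ha
      obtain ⟨g, rfl⟩ := hb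
      exact ⟨f + g, map_add _ _ _⟩
    | neg a _ ha =>
      obtain ⟨f, rfl⟩ := ha
      exact ⟨-f, map_neg _ _⟩

/-- A ring is special when any two elements become combinations of line elements in some extension. -/
theorem isSpecial_of_extensions {K : Type w} [CommRing K] [LambdaOps K]
    (h : ∀ x y : K, ∃ (K' : Type v) (_ : CommRing K') (_ : LambdaOps K') (g : K →+* K') (M : Submonoid K'),
      Function.Injective g ∧ (∀ n z, g (LambdaOps.lam n z) = LambdaOps.lam n (g z)) ∧
      (∀ u ∈ M, ∀ n : ℕ, 2 ≤ n → LambdaOps.lam n u = 0) ∧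
      g x ∈ AddSubgroup.closure (M : Set K') ∧ g y ∈ AddSubgroup.closure (M : Set K')) :
    IsSpecial K := by
  refine ⟨fun n hn => ?_, fun n P hP x y => ?_, fun i j Q hQ x => ?_⟩
  · obtain ⟨K', _, _, g, M, hg, hgl, hM, -, -⟩ := h 1 1
    refine hg ?_
    rw [hgl, map_one, map_zero]
    exact hM 1 (one_mem M) n hn
  · obtain ⟨K', _, _, g, M, hg, hgl, hM, hx, hy⟩ := h x y
    obtain ⟨ev, hev, hs⟩ := exists_lift_lines M hM
    letI := lineOps (σ := ↥M)
    obtain ⟨a, ha⟩ := hs _ hx
    obtain ⟨b, hb⟩ := hs _ hy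
    refine hg ?_
    rw [LambdaSpLib.map_aeval_sum, hgl, map_mul, ← ha, ← hb, ← map_mul, ← hev,
      (isSpecial_lineOps (σ := ↥M)).lam_mul n P hP a b, LambdaSpLib.map_aeval_sum]
    simp only [hev, ha, hb, hgl]
  · obtain ⟨K', _, _, g, M, hg, hgl, hM, hx, -⟩ := h x x
    obtain ⟨ev, hev, hs⟩ := exists_lift_lines M hM
    letI := lineOps (σ := ↥M)
    obtain ⟨a, ha⟩ := hs _ hx
    refine hg ?_
    rw [LambdaSpLib.map_aeval_int, hgl, hgl, ← ha, ← hev, ← hev,
      (isSpecial_lineOps (σ := ↥M)).lam_lam i j Q hQ a, LambdaSpLib.map_aeval_int]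
    simp only [hev, ha, hgl]

end ProjKLib

end
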