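import Groth.Agent.ProjKLib.K
import Groth.Agent.ProjBunLib.Props
import Groth.Agent.CycPBLib.UnivCharts

/-!
# `K₀` of a projective bundle: the statement for a bundle given by its universal property
-/

set_option autoImplicit false
set_option linter.style.haveILetI false
set_option linter.unusedSectionVars false
set_option backward.isDefEq.respectTransparency false
set_option backward.isDefEq.respectTransparency.types false
set_option maxHeartbeats 1000000

universe u

open CategoryTheory CategoryTheory.Limits AlgebraicGeometry TopologicalSpace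
open KFlatLib (pb)
open CubeConsLib (cl IsoCls cl_eq_iff cl_eq_one_iff cl_tensor)

noncomputable section

namespace ProjKLib

open Groth.Agent

variable {T P : Scheme.{u}} {π : P ⟶ T} {E : T.Modules} {O1 : P.Modules} {q : pb π E ⟶ O1} {n : ℕ}

theorem lfp_of_covers (hcov : Covers π O1 n) : LocallyOfFinitePresentation π := by
  haveI : ∀ c : Chart π O1 n, LocallyOfFinitePresentation (KRR.pr n (Spec c.R)) := fun c => by
    haveI : Smooth (KRR.pr n (Spec c.R)) := RTrivLib.smooth_toBase n _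
    infer_instance
  have hch : ∀ x : T, ∃ c : Chart π O1 n, x ∈ c.i.opensRange := fun x => by
    obtain ⟨U, hx, hU⟩ := hcov x
    obtain ⟨W, hW, hxW, hle⟩ := exists_isAffineOpen_mem_and_subset (X := T) (x := x) (U := U) hx
    obtain ⟨c, hc⟩ := hU W hW hle
    exact ⟨c, hc ▸ hxW⟩
  choose c hc using hch
  let 𝒰 : T.OpenCover := Scheme.Cover.mkOfCovers T (fun x => Spec (c x).R) (fun x => (c x).i)
    (fun x => ⟨x, hc x⟩) fun x => (c x).open_i
  refine IsZariskiLocalAtTarget.of_openCover 𝒰 fun (x : T) => ?_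
  exact (MorphismProperty.arrow_mk_iso_iff @LocallyOfFinitePresentation
    (Arrow.isoMk (f := Arrow.mk (pullback.snd π (c x).i)) (g := Arrow.mk (KRR.pr n (Spec (c x).R)))
      (c x).sq.isoPullback.symm (Iso.refl _)
      ((c x).sq.isoPullback_inv_snd.trans (Category.comp_id _).symm))).2 inferInstance

/-- The tautological module is invertible. -/
theorem inv_O1 (hP : KRR.IsProjBundle π E O1 q) : PicF.IsInvertible O1 :=
  (CohCmpLib.invertible_iff_rank_one O1).2 hP.invertible

/-- All the data attached to a projective bundle. -/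
theorem bundle_data (hP : KRR.IsProjBundle π E O1 q) (hE : FlatMod.IsFinLocFreeOfRank (n + 1) E) :
    IsProper π ∧ LocallyOfFinitePresentation π ∧ Covers π O1 n ∧ Nonempty (Lower π O1 n (inv_O1 hP)) := by
  haveI := ProjBunLib.isProper hP hE
  have hcov : Covers π O1 n := exists_chart hP hE
  haveI := hP.epi
  exact ⟨inferInstance, lfp_of_covers hcov, hcov,
    exists_lower hcov (inv_O1 hP) (CurveVBLib.isFinLocFree_of_rank hE) q⟩

/-- Powers of the invertible module. -/
theorem nonempty_tensorPow (hL : PicF.IsInvertible O1) (L : P.Modules) (a : ℤ)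
    (e : L ≅ Otw hL a) : ∀ i : ℕ, Nonempty (CohB1.tensorPow L i ≅ Otw hL (a * i))
  | 0 => ⟨(nonempty_Otw_zero hL).some.symm ≪≫ eqToIso (congrArg _ (by simp))⟩
  | i + 1 => by
    obtain ⟨t⟩ := nonempty_tensorPow hL L a e i
    obtain ⟨s⟩ := nonempty_Otw_add hL (a * i) a
    exact ⟨HilbPolyLib.congrLeft t L ≪≫ HilbPolyLib.congrRight _ e ≪≫ s ≪≫
      eqToIso (congrArg _ (by push_cast; ring))⟩

/-- An inverse of the tautological module. -/
theorem nonempty_inv (hL : PicF.IsInvertible O1) (L : P.Modules) (h : ClSub.IsInverseOf L O1) :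
    Nonempty (L ≅ Otw hL (-1)) := by
  obtain ⟨e⟩ := h
  refine cl_eq_iff.1 ?_
  have h' : cl L * cl O1 = 1 := by
    rw [← cl_tensor]
    exact cl_eq_one_iff.2 ⟨e⟩
  rw [cl_Otw, zpow_neg, zpow_one]
  exact (Units.inv_eq_of_mul_eq_one_left (u := clUnit hL) h').symm

/-- `K₀` of a projective bundle, with any shift of the window. -/
theorem bijective_shift [CompactSpace T] (hP : KRR.IsProjBundle π E O1 q)
    (hE : FlatMod.IsFinLocFreeOfRank (n + 1) E) (s : ℤ) (G : Fin (n + 1) → (SGA6.Kvb T →+ SGA6.Kvb P))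
    (hG : ∀ (i : Fin (n + 1)) (N : T.Modules), FlatMod.IsFinLocFree N →
      G i (KRR.cl T N) = KRR.cl P (tw (inv_O1 hP) (s - ((i : ℕ) : ℤ)) (pb π N))) :
    Function.Bijective (fun a : Fin (n + 1) → SGA6.Kvb T => ∑ i : Fin (n + 1), G i (a i)) := by
  obtain ⟨_, _, hcov, ⟨L₀⟩⟩ := bundle_data hP hE
  let hL := inv_O1 hP
  let G' : Fin (n + 1) → (SGA6.Kvb T →+ SGA6.Kvb P) := fun i => (twK hL (-s)).comp (G i)
  have h := bijective_sum hcov hL L₀ G' fun i N hN => by
    simp only [G', AddMonoidHom.coe_comp, Function.comp_apply, hG i N hN]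
    rw [← twK_cl hL _ (KFlatLib.isFinLocFree_pull π hN), twK_twK,
      show -s + (s - ((i : ℕ) : ℤ)) = -((i : ℕ) : ℤ) by ring, twK_cl hL _ (KFlatLib.isFinLocFree_pull π hN)]
  refine (Function.Bijective.of_comp_iff' (bijective_twK hL (-s)) _).1 ?_
  convert h using 1
  funext a
  simp only [G', Function.comp_apply, map_sum, AddMonoidHom.coe_comp]

/-- `K₀` of the empty scheme. -/
theorem subsingleton_Kvb (X : Scheme.{u}) [IsEmpty X] : Subsingleton (SGA6.Kvb X) := by
  have h : (⊥ : AddSubgroup (SGA6.Kvb X)) = ⊤ := eq_top_of_cl fun N hN => by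
    rw [AddSubgroup.mem_bot]
    refine KHeartLib.clSub_eq_zero (KRR.vbP X) hN ((KFlatLib.isZero_iff_forall_stalk _).2 fun x => isEmptyElim x)
  exact ⟨fun a b => by
    have ha : a ∈ (⊥ : AddSubgroup _) := h.ge (AddSubgroup.mem_top a)
    have hb : b ∈ (⊥ : AddSubgroup _) := h.ge (AddSubgroup.mem_top b)
    rw [AddSubgroup.mem_bot] at ha hb
    rw [ha, hb]⟩

/-- The bundle of a module of rank zero is empty. -/
theorem isEmpty_of_rank_zero (hP : KRR.IsProjBundle π E O1 q) (hE : FlatMod.IsFinLocFreeOfRank 0 E) : IsEmpty P := by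
  refine ⟨fun z => ?_⟩
  obtain ⟨U, hz, ⟨φ⟩⟩ := hE (π z)
  haveI := hP.epi
  obtain ⟨k, -⟩ := CycPBLib.exists_genAt_eSec φ (q := q) (inv_O1 hP) hz
  exact k.elim0

/-- The projective bundle theorem for `K₀` of bundles. -/
theorem bijective_powers [CompactSpace T] {r : ℕ} (hP : KRR.IsProjBundle π E O1 q)
    (hE : FlatMod.IsFinLocFreeOfRank r E) (Oinv : P.Modules) (hinv : ClSub.IsInverseOf Oinv O1)
    (G : Fin r → (SGA6.Kvb T →+ SGA6.Kvb P))
    (hG : ∀ (i : Fin r) (N : T.Modules), FlatMod.IsFinLocFree N →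
      G i (KRR.cl T N) = KRR.cl P (CohB1.tensorMod (CohB1.tensorPow Oinv (i : ℕ)) (pb π N))) :
    Function.Bijective (fun a : Fin r → SGA6.Kvb T => ∑ i : Fin r, G i (a i)) := by
  cases r with
  | zero =>
    haveI := isEmpty_of_rank_zero hP hE
    haveI := subsingleton_Kvb P
    exact ⟨fun a b _ => Subsingleton.elim a b, fun y => ⟨0, Subsingleton.elim _ _⟩⟩
  | succ n =>
    refine bijective_shift hP hE 0 G fun i N hN => ?_
    rw [hG i N hN]
    obtain ⟨e⟩ := nonempty_inv (inv_O1 hP) Oinv hinv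
    obtain ⟨t⟩ := nonempty_tensorPow (inv_O1 hP) Oinv (-1) e (i : ℕ)
    exact KHeartLib.clSub_congr (KRR.vbP P) (HilbPolyLib.congrLeft (t ≪≫ eqToIso (congrArg _ (by ring))) _)

end ProjKLib

end
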