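import Groth.Agent.ProjKLib.RankPieces
import Groth.Agent.ProjKLib.LineAlg
import Groth.Agent.ProjKLib.Main
import Groth.Agent.ProjBunLib.Exists
import Groth.Agent.VBResLib.KPull
import Groth.Agent.S3203
import Groth.Prelude.Def_LambdaSp

/-!
# `K₀` of bundles on a quasi-compact scheme is a special λ-ring
-/

set_option autoImplicit false
set_option linter.style.haveILetI false
set_option linter.unusedSectionVars false
set_option backward.isDefEq.respectTransparency false
set_option backward.isDefEq.respectTransparency.types false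
set_option maxHeartbeats 1000000

universe v v' u

open CategoryTheory CategoryTheory.Limits AlgebraicGeometry TopologicalSpace
open KFlatLib (pb)
open LambdaRing (LambdaOps)
attribute [local instance] HasDerivedCategory.standard

noncomputable section

namespace ProjKLib

open Groth.Agent

/-- A pre-λ-ring of classes of bundles. -/
structure IsPre (X : Scheme.{u}) {K : Type v} [CommRing K] [LambdaOps K] (φ : SGA6.Kvb X →+ K) : Prop where
  bijective : Function.Bijective φ
  map_one : φ (KRR.cl X (Coh.structureModule X)) = 1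
  map_mul : ∀ E F : X.Modules, FlatMod.IsFinLocFree E → FlatMod.IsFinLocFree F →
    φ (KRR.cl X E) * φ (KRR.cl X F) = φ (KRR.cl X (((DCoh.tensorBi (X := X)).obj E).obj F))
  map_lam : ∀ (i : ℕ) (E L : X.Modules), FlatMod.IsFinLocFree E → FlatMod.IsFinLocFree L →
    ExtPow.IsExtPow i E L → LambdaOps.lam i (φ (KRR.cl X E)) = φ (KRR.cl X L)

/-- Every scheme has one. -/
theorem exists_pre (X : Scheme.{u}) : ∃ (K : Type (u + 1)) (_ : CommRing K) (_ : LambdaOps K)
    (φ : SGA6.Kvb X →+ K), IsPre X φ := by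
  obtain ⟨mul, lam, hcomm, hassoc, hone, hmul, hlam, hlam0, hlam1, hladd⟩ :=
    Groth.Agent.S3203.result X fun i E hE => ExtPowLib.exists_isExtPow_vb hE i
  let oneK : SGA6.Kvb X := KRR.cl X (Coh.structureModule X)
  letI ringK : CommRing (SGA6.Kvb X) :=
    { (inferInstance : AddCommGroup (SGA6.Kvb X)) with
      mul := fun a b => mul a b
      one := oneK
      mul_assoc := hassoc
      mul_comm := hcomm
      one_mul := hone
      mul_one := fun x => (hcomm x oneK).trans (hone x)
      zero_mul := fun a => show mul 0 a = 0 by rw [map_zero, AddMonoidHom.zero_apply]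
      mul_zero := fun a => show mul a 0 = 0 from map_zero _
      left_distrib := fun a b c => show mul a (b + c) = mul a b + mul a c from map_add _ _ _
      right_distrib := fun a b c => show mul (a + b) c = mul a c + mul b c by rw [map_add, AddMonoidHom.add_apply] }
  letI opsK : LambdaOps (SGA6.Kvb X) :=
    { lam := lam, lam_zero := hlam0, lam_one := hlam1, lam_add := hladd }
  exact ⟨SGA6.Kvb X, ringK, opsK, AddMonoidHom.id _, Function.bijective_id, rfl,
    fun A B hA hB => hmul A B hA hB, fun i E L hE _ hL => hlam i E L hE hL⟩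

variable {X Y : Scheme.{u}} {KX : Type v} [CommRing KX] [LambdaOps KX] {φX : SGA6.Kvb X →+ KX}
  {KY : Type v'} [CommRing KY] [LambdaOps KY] {φY : SGA6.Kvb Y →+ KY}

theorem IsPre.induction (hK : IsPre X φX) {motive : KX → Prop}
    (mem : ∀ E : X.Modules, FlatMod.IsFinLocFree E → motive (φX (KRR.cl X E))) (zero : motive 0)
    (add : ∀ a b, motive a → motive b → motive (a + b)) (neg : ∀ a, motive a → motive (-a)) (x : KX) : motive x := by
  obtain ⟨z, rfl⟩ := hK.bijective.2 x
  have hz : z ∈ AddSubgroup.closure {z | ∃ E, KRR.vbP X E ∧ KZero.clSub (KRR.vbP X) E = z} :=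
    (KHeartLib.clSub_closure_eq_top (KRR.vbP X)).symm ▸ AddSubgroup.mem_top z
  induction hz using AddSubgroup.closure_induction with
  | mem a ha => obtain ⟨E, hE, rfl⟩ := ha; exact mem E hE
  | zero => rw [map_zero]; exact zero
  | add a b _ _ ha hb => rw [map_add]; exact add _ _ ha hb
  | neg a _ ha => rw [map_neg]; exact neg _ ha

/-- The pull-back is a homomorphism of pre-λ-rings. -/
theorem exists_preHom (f : X ⟶ Y) (hKX : IsPre X φX) (hKY : IsPre Y φY) :
    ∃ q : KY →+* KX, KRR.IsPull f φY φX q.toAddMonoidHom ∧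
      ∀ i y, q (LambdaOps.lam i y) = LambdaOps.lam i (q y) := by
  obtain ⟨ψ, hψ⟩ := VBResLib.exists_kPull f
  let eY := AddEquiv.ofBijective φY hKY.bijective
  let q₀ : KY →+ KX := φX.comp (ψ.comp eY.symm.toAddMonoidHom)
  have hq : ∀ E, FlatMod.IsFinLocFree E → q₀ (φY (KRR.cl Y E)) = φX (KRR.cl X (pb f E)) := fun E hE => by
    have : eY.symm (φY (KRR.cl Y E)) = KRR.cl Y E := eY.symm_apply_apply _
    simp only [q₀, AddMonoidHom.coe_comp, AddEquiv.coe_toAddMonoidHom, Function.comp_apply, this, hψ E hE]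
  have hO : ∀ Z : Scheme.{u}, FlatMod.IsFinLocFree (Coh.structureModule Z) := fun Z =>
    CurveVBLib.isFinLocFree_of_rank (CohCmpLib.rank_one_structureModule Z)
  have h1 : q₀ 1 = 1 := by
    rw [← hKY.map_one, hq _ (hO Y), ← hKX.map_one]
    exact congrArg φX (KHeartLib.clSub_congr (KRR.vbP X) (KFlatLib.pullUnitIso f))
  have hm : ∀ a b, q₀ (a * b) = q₀ a * q₀ b := by
    intro a b
    refine hKY.induction (motive := fun a => q₀ (a * b) = q₀ a * q₀ b) (fun E hE => ?_) (by simp)
      (fun c d hc hd => by rw [add_mul, map_add, map_add, hc, hd, add_mul])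
      (fun c hc => by rw [neg_mul, map_neg, map_neg, hc, neg_mul]) a
    refine hKY.induction (motive := fun b => q₀ (φY (KRR.cl Y E) * b) = q₀ (φY (KRR.cl Y E)) * q₀ b)
      (fun F hF => ?_) (by simp)
      (fun c d hc hd => by rw [mul_add, map_add, map_add, hc, hd, mul_add])
      (fun c hc => by rw [mul_neg, map_neg, map_neg, hc, mul_neg]) b
    rw [hKY.map_mul E F hE hF, hq _ (show FlatMod.IsFinLocFree (((DCoh.tensorBi (X := Y)).obj E).obj F) from vb_tens hE hF), hq E hE, hq F hF,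
      hKX.map_mul _ _ (KFlatLib.isFinLocFree_pull f hE) (KFlatLib.isFinLocFree_pull f hF)]
    exact congrArg φX (KHeartLib.clSub_congr (KRR.vbP X)
      (@asIso _ _ _ _ (KFlatLib.pullθ f E F) (KFlatLib.isIso_pullθ f E F)))
  let q : KY →+* KX := { q₀ with map_one' := h1, map_mul' := hm }
  have base : ∀ E, FlatMod.IsFinLocFree E → ∀ i, q (LambdaOps.lam i (φY (KRR.cl Y E))) =
      LambdaOps.lam i (q (φY (KRR.cl Y E))) := by
    intro E hE i
    haveI : Coh.IsQCoh E := FinLFAnn.isQCoh_of_isFinLocFree hE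
    obtain ⟨N, hN, hNx⟩ := ExtPowLib.exists_isExtPow_vb hE i
    rw [hKY.map_lam i E N hE hN hNx]
    show q₀ _ = LambdaOps.lam i (q₀ _)
    rw [hq N hN, hq E hE, hKX.map_lam i _ _ (KFlatLib.isFinLocFree_pull f hE) (KFlatLib.isFinLocFree_pull f hN)
      (ExtPowLib.isExtPow_pullback f hNx)]
  refine ⟨q, hq, ?_⟩
  let sY : KY → PowerSeries KX := fun y => PowerSeries.mk fun n => q (LambdaOps.lam n y)
  let sX : KY → PowerSeries KX := fun y => PowerSeries.mk fun n => LambdaOps.lam n (q y)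
  have hsY : ∀ a b, sY (a + b) = sY a * sY b := fun a b => by
    ext n
    simp only [sY, PowerSeries.coeff_mk, LambdaOps.lam_add, map_sum, map_mul, PowerSeries.coeff_mul,
      Finset.Nat.sum_antidiagonal_eq_sum_range_succ_mk]
  have hsX : ∀ a b, sX (a + b) = sX a * sX b := fun a b => by
    ext n
    simp only [sX, PowerSeries.coeff_mk, map_add, LambdaOps.lam_add, PowerSeries.coeff_mul,
      Finset.Nat.sum_antidiagonal_eq_sum_range_succ_mk]
  have hu : ∀ y, IsUnit (sY y) ∧ IsUnit (sX y) := fun y => by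
    simp [PowerSeries.isUnit_iff_constantCoeff, sY, sX, ← PowerSeries.coeff_zero_eq_constantCoeff_apply,
      LambdaOps.lam_zero]
  have h0 : sY 0 = sX 0 := by
    have a := hsY 0 0
    have b := hsX 0 0
    rw [add_zero] at a b
    rw [(hu 0).1.mul_left_cancel (a.symm.trans (mul_one _).symm), (hu 0).2.mul_left_cancel (b.symm.trans (mul_one _).symm)]
  have key : ∀ y, sY y = sX y := by
    refine hKY.induction (fun E hE => ?_) h0 (fun a b ha hb => by rw [hsY, hsX, ha, hb]) (fun a ha => ?_)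
    · ext n
      simp only [sY, sX, PowerSeries.coeff_mk]
      exact base E hE n
    · have a₁ := hsY a (-a)
      have a₂ := hsX a (-a)
      rw [add_neg_cancel] at a₁ a₂
      rw [h0, a₂, ha] at a₁
      exact ((hu a).2.mul_left_cancel a₁).symm
  intro i y
  have h := congrArg (PowerSeries.coeff i) (key y)
  simpa [sY, sX] using h

/-- The monoid of classes of bundles of rank at most one. -/
def lines (hK : IsPre X φX) : Submonoid KX where
  carrier := {z | ∃ L, Le1 L ∧ φX (KRR.cl X L) = z}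
  one_mem' := ⟨_, le1_of_rank (CohCmpLib.rank_one_structureModule X), hK.map_one⟩
  mul_mem' := by
    rintro _ _ ⟨A, hA, rfl⟩ ⟨B, hB, rfl⟩
    exact ⟨CohB1.tensorMod A B, hA.tensor hB, (hK.map_mul A B hA.1 hB.1).symm⟩

theorem lam_lines (hK : IsPre X φX) (z : KX) (hz : z ∈ lines hK) (n : ℕ) (hn : 2 ≤ n) :
    LambdaOps.lam n z = 0 := by
  obtain ⟨A, hA, rfl⟩ := hz
  obtain ⟨L, hL, hLx⟩ := ExtPowLib.exists_isExtPow_vb hA.1 n
  rw [hK.map_lam n A L hA.1 hL hLx,
    show KRR.cl X L = 0 from KHeartLib.clSub_eq_zero (KRR.vbP X) hL (hA.isZero_extPow hL hn hLx), map_zero]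

theorem map_comb (hK : IsPre X φX) {z : SGA6.Kvb X} (hz : z ∈ Comb X) :
    φX z ∈ AddSubgroup.closure (lines hK : Set KX) := by
  induction hz using AddSubgroup.closure_induction with
  | mem a ha => obtain ⟨L, hL, rfl⟩ := ha; exact AddSubgroup.subset_closure ⟨L, hL, rfl⟩
  | zero => rw [map_zero]; exact zero_mem _
  | add a b _ _ ha hb => rw [map_add]; exact add_mem ha hb
  | neg a _ ha => rw [map_neg]; exact neg_mem ha

theorem comb_pull (hK : IsPre X φX) (hK' : IsPre Y φY) (f : X ⟶ Y) (q : KY →+* KX)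
    (hq : KRR.IsPull f φY φX q.toAddMonoidHom) {y : KY} (hy : y ∈ AddSubgroup.closure (lines hK' : Set KY)) :
    q y ∈ AddSubgroup.closure (lines hK : Set KX) := by
  induction hy using AddSubgroup.closure_induction with
  | mem a ha =>
    obtain ⟨L, hL, rfl⟩ := ha
    exact AddSubgroup.subset_closure ⟨pb f L, hL.pull f, (hq L hL.1).symm⟩
  | zero => rw [map_zero]; exact zero_mem _
  | add a b _ _ ha hb => rw [map_add]; exact add_mem ha hb
  | neg a _ ha => rw [map_neg]; exact neg_mem ha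

/-- A projective bundle of positive rank pulls `K₀` back injectively. -/
theorem injective_kpull {T P : Scheme.{u}} [CompactSpace T] {π : P ⟶ T} {E : T.Modules} {O1 : P.Modules}
    {q : pb π E ⟶ O1} {r : ℕ} (hP : KRR.IsProjBundle π E O1 q) (hE : FlatMod.IsFinLocFreeOfRank (r + 1) E)
    (ψ : SGA6.Kvb T →+ SGA6.Kvb P)
    (hψ : ∀ N, FlatMod.IsFinLocFree N → ψ (KRR.cl T N) = KRR.cl P (pb π N)) : Function.Injective ψ := by
  let hL := inv_O1 hP
  have h := bijective_shift hP hE 0 (fun i => (twK hL (0 - ((i : ℕ) : ℤ))).comp ψ) fun i N hN => by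
    simp only [AddMonoidHom.coe_comp, Function.comp_apply, hψ N hN]
    exact twK_cl hL _ (KFlatLib.isFinLocFree_pull π hN)
  intro a b hab
  have hs := @h.1 (Pi.single 0 a) (Pi.single 0 b) (by
    refine Finset.sum_congr rfl fun i _ => ?_
    rcases eq_or_ne i 0 with rfl | hi
    · simp only [AddMonoidHom.coe_comp, Function.comp_apply, Pi.single_eq_same, hab]
    · rw [Pi.single_eq_of_ne hi, Pi.single_eq_of_ne hi])
  simpa using congrFun hs 0

/-- The rank of the kernel of an epimorphism onto an invertible module. -/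
theorem rank_kernel {Z : Scheme.{u}} {E O : Z.Modules} (q : E ⟶ O) [Epi q] {n : ℕ}
    (h₂ : FlatMod.IsFinLocFreeOfRank (n + 1) E) (h₃ : FlatMod.IsFinLocFreeOfRank 1 O) :
    FlatMod.IsFinLocFreeOfRank n (kernel q) := by
  have hK := ResPropLib.isFinLocFree_kernel q (SeesawLib.isFinLocFree_of_rank h₂) (SeesawLib.isFinLocFree_of_rank h₃)
  refine rank_of_rankSet fun x => ?_
  obtain ⟨c, hc⟩ := SeesawLib.exists_mem_rankSet hK x
  let U : Z.Opens := ⟨SeesawLib.RankSet (kernel q) c, SeesawLib.isOpen_rankSet _ c⟩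
  have hS : (ShortComplex.mk (kernel.ι q) q (kernel.condition q)).ShortExact :=
    ShortComplex.ShortExact.mk (ShortComplex.exact_kernel q)
  have h := NefCurveLib.rank_add (ProjBunLib.shortExact_pullback U.ι hS h₃)
    (rank_pb_open hK U fun z hz => hz) (SeesawLib.isFinLocFreeOfRank_pullback U.ι h₂)
    (SeesawLib.isFinLocFreeOfRank_pullback U.ι h₃) (⟨x, hc⟩ : U)
  obtain rfl : c = n := by omega
  exact hc

/-- Bundles of constant rank split after an injective extension. -/
theorem exists_split_rank : ∀ (N : ℕ) (X : Scheme.{u}) [CompactSpace X] (K : Type (u + 1)) [CommRing K]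
    [LambdaOps K] (φ : SGA6.Kvb X →+ K) (hK : IsPre X φ) (E : X.Modules), FlatMod.IsFinLocFreeOfRank N E →
    ∃ (X' : Scheme.{u}) (_ : CompactSpace X') (f : X' ⟶ X) (K' : Type (u + 1)) (_ : CommRing K')
      (_ : LambdaOps K') (φ' : SGA6.Kvb X' →+ K') (hK' : IsPre X' φ') (g : K →+* K'),
      KRR.IsPull f φ φ' g.toAddMonoidHom ∧ (∀ i y, g (LambdaOps.lam i y) = LambdaOps.lam i (g y)) ∧
      Function.Injective g ∧ g (φ (KRR.cl X E)) ∈ AddSubgroup.closure (lines hK' : Set K') := by
  intro N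
  induction N with
  | zero =>
    intro X _ K _ _ φ hK E hE
    refine ⟨X, inferInstance, 𝟙 X, K, inferInstance, inferInstance, φ, hK, RingHom.id K, fun M hM => ?_,
      fun _ _ => rfl, fun a b h => h, ?_⟩
    · exact congrArg φ (KHeartLib.clSub_congr (KRR.vbP X) ((Scheme.Modules.pullbackId X).app M).symm)
    · rw [show KRR.cl X E = 0 from KHeartLib.clSub_eq_zero (KRR.vbP X) (SeesawLib.isFinLocFree_of_rank hE)
        (ProjBunLib.isZero_of_rank_zero hE), map_zero, map_zero]
      exact zero_mem _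
  | succ N ih =>
    intro X _ K _ _ φ hK E hE
    obtain ⟨Z, π, O1, q, hZ⟩ := ProjBunLib.exists_isProjBundle hE
    haveI := ProjBunLib.isProper hZ hE
    haveI : CompactSpace Z := QuasiCompact.compactSpace_of_compactSpace π
    obtain ⟨KZ, _, _, φZ, hKZ⟩ := exists_pre Z
    obtain ⟨g₁, hg₁, hl₁⟩ := exists_preHom π hKZ hK
    haveI := hZ.epi
    have hS : (ShortComplex.mk (kernel.ι q) q (kernel.condition q)).ShortExact :=
      ShortComplex.ShortExact.mk (ShortComplex.exact_kernel q)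
    have hEP : FlatMod.IsFinLocFreeOfRank (N + 1) (pb π E) := SeesawLib.isFinLocFreeOfRank_pullback π hE
    have hK' : FlatMod.IsFinLocFreeOfRank N (kernel q) := rank_kernel q hEP hZ.invertible
    obtain ⟨X', _, f, K', _, _, φ', hK'', g₂, hg₂, hl₂, hi₂, hmem⟩ := ih Z KZ φZ hKZ (kernel q) hK'
    have hinj : Function.Injective g₁ := by
      obtain ⟨ψ, hψ⟩ := VBResLib.exists_kPull π
      have hi := injective_kpull hZ hE ψ hψ
      have e : ∀ z, g₁ (φ z) = φZ (ψ z) := fun z =>
        DFunLike.congr_fun (hom_ext (a := g₁.toAddMonoidHom.comp φ) (b := φZ.comp ψ) fun M hM => by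
          simp only [AddMonoidHom.coe_comp, Function.comp_apply, hψ M hM]
          exact hg₁ M hM) z
      intro a b hab
      obtain ⟨a, rfl⟩ := hK.bijective.2 a
      obtain ⟨b, rfl⟩ := hK.bijective.2 b
      rw [e, e] at hab
      rw [hi (hKZ.bijective.1 hab)]
    refine ⟨X', inferInstance, f ≫ π, K', inferInstance, inferInstance, φ', hK'', g₂.comp g₁,
      fun M hM => ?_, fun i y => ?_, hi₂.comp hinj, ?_⟩
    · show g₂ (g₁ _) = _
      rw [show g₁ (φ (KRR.cl X M)) = _ from hg₁ M hM]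
      refine (hg₂ _ (KFlatLib.isFinLocFree_pull π hM)).trans ?_
      exact congrArg φ' (KHeartLib.clSub_congr (KRR.vbP X') ((Scheme.Modules.pullbackComp f π).app M))
    · show g₂ (g₁ _) = _
      rw [hl₁, hl₂]; rfl
    · show g₂ (g₁ _) ∈ _
      have e₁ : g₁ (φ (KRR.cl X E)) = φZ (KRR.cl Z (pb π E)) := hg₁ E (SeesawLib.isFinLocFree_of_rank hE)
      have e₂ : KRR.cl Z (pb π E) = KRR.cl Z (kernel q) + KRR.cl Z O1 :=
        KHeartLib.clSub_add (KRR.vbP Z) _ hS (SeesawLib.isFinLocFree_of_rank hK')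
          (SeesawLib.isFinLocFree_of_rank hEP) (SeesawLib.isFinLocFree_of_rank hZ.invertible)
      rw [e₁, e₂, map_add, map_add]
      refine add_mem hmem (comb_pull hK'' hKZ f g₂ hg₂ (AddSubgroup.subset_closure ⟨O1, le1_of_rank hZ.invertible, rfl⟩))

/-- A bundle splits after an injective extension. -/
theorem exists_split_one (X : Scheme.{u}) [CompactSpace X] (K : Type (u + 1)) [CommRing K]
    [LambdaOps K] (φ : SGA6.Kvb X →+ K) (hK : IsPre X φ) (E : X.Modules) (hE : FlatMod.IsFinLocFree E) :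
    ∃ (X' : Scheme.{u}) (_ : CompactSpace X') (f : X' ⟶ X) (K' : Type (u + 1)) (_ : CommRing K')
      (_ : LambdaOps K') (φ' : SGA6.Kvb X' →+ K') (hK' : IsPre X' φ') (g : K →+* K'),
      KRR.IsPull f φ φ' g.toAddMonoidHom ∧ (∀ i y, g (LambdaOps.lam i y) = LambdaOps.lam i (g y)) ∧
      Function.Injective g ∧ g (φ (KRR.cl X E)) ∈ AddSubgroup.closure (lines hK' : Set K') := by
  obtain ⟨N, E', hE', hc⟩ := exists_constant_rank hE
  obtain ⟨X', i₁, f, K', i₂, i₃, φ', hK', g, hg, hl, hi, hmem⟩ := exists_split_rank (N + 1) X K φ hK E' hE'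
  refine ⟨X', i₁, f, K', i₂, i₃, φ', hK', g, hg, hl, hi, ?_⟩
  have h := comb_pull hK' hK f g hg (map_comb hK hc)
  rw [map_sub, map_sub] at h
  simpa using sub_mem hmem h

/-- Finitely many bundles split after an injective extension. -/
theorem exists_split_fin : ∀ (m : ℕ) (X : Scheme.{u}) [CompactSpace X] (K : Type (u + 1)) [CommRing K]
    [LambdaOps K] (φ : SGA6.Kvb X →+ K) (hK : IsPre X φ) (E : Fin m → X.Modules),
    (∀ j, FlatMod.IsFinLocFree (E j)) →
    ∃ (K' : Type (u + 1)) (_ : CommRing K') (_ : LambdaOps K') (g : K →+* K') (M : Submonoid K'),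
      Function.Injective g ∧ (∀ i y, g (LambdaOps.lam i y) = LambdaOps.lam i (g y)) ∧
      (∀ u ∈ M, ∀ n : ℕ, 2 ≤ n → LambdaOps.lam n u = 0) ∧
      (∀ y ∈ AddSubgroup.closure (lines hK : Set K), g y ∈ AddSubgroup.closure (M : Set K')) ∧
      ∀ j, g (φ (KRR.cl X (E j))) ∈ AddSubgroup.closure (M : Set K') := by
  intro m
  induction m with
  | zero =>
    intro X _ K _ _ φ hK E hE
    exact ⟨K, inferInstance, inferInstance, RingHom.id K, lines hK, fun a b h => h, fun _ _ => rfl,
      fun u hu n hn => lam_lines hK u hu n hn, fun y hy => hy, fun j => j.elim0⟩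
  | succ m ih =>
    intro X _ K _ _ φ hK E hE
    obtain ⟨X', _, f, K₁, _, _, φ₁, hK₁, g₁, hg₁, hl₁, hi₁, hmem⟩ := exists_split_one X K φ hK (E 0) (hE 0)
    obtain ⟨K', i₁, i₂, g₂, M, hi₂, hl₂, hM, hcl, hj⟩ := ih X' K₁ φ₁ hK₁ (fun j => pb f (E j.succ))
      fun j => KFlatLib.isFinLocFree_pull f (hE _)
    refine ⟨K', i₁, i₂, g₂.comp g₁, M, hi₂.comp hi₁, fun i y => ?_, hM,
      fun y hy => hcl _ (comb_pull hK₁ hK f g₁ hg₁ hy), fun j => ?_⟩
    · show g₂ (g₁ _) = _
      rw [hl₁, hl₂]; rfl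
    · cases j using Fin.cases with
      | zero => exact hcl _ hmem
      | succ j =>
        show g₂ (g₁ _) ∈ _
        rw [show g₁ (φ (KRR.cl X (E j.succ))) = _ from hg₁ _ (hE _)]
        exact hj j

/-- **`K₀` of bundles on a quasi-compact scheme is a special λ-ring.** -/
theorem isSpecial {S : Scheme.{u}} [CompactSpace S] {K : Type v} [CommRing K] [LambdaOps K]
    {φ : SGA6.Kvb S →+ K} (hK : IsPre S φ) : LambdaRing.IsSpecial K := by
  obtain ⟨K₀, _, _, φ₀, hK₀⟩ := exists_pre S
  obtain ⟨a, ha, hal⟩ := exists_preHom (𝟙 S) hK₀ hK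
  have hai : Function.Injective a := by
    have e : ∀ z, a (φ z) = φ₀ z := fun z =>
      DFunLike.congr_fun (hom_ext (a := a.toAddMonoidHom.comp φ) (b := φ₀) fun M hM => by
        refine (ha M hM).trans ?_
        exact congrArg φ₀ (KHeartLib.clSub_congr (KRR.vbP S) ((Scheme.Modules.pullbackId S).app M))) z
    intro x y hxy
    obtain ⟨x, rfl⟩ := hK.bijective.2 x
    obtain ⟨y, rfl⟩ := hK.bijective.2 y
    rw [e, e] at hxy
    rw [hK₀.bijective.1 hxy]
  have hdiff : ∀ x : K₀, ∃ E F : S.Modules, FlatMod.IsFinLocFree E ∧ FlatMod.IsFinLocFree F ∧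
      x = φ₀ (KRR.cl S E) - φ₀ (KRR.cl S F) := by
    have hz : FlatMod.IsFinLocFree (FlatMod.freeMod S 0) := vb_free S 0
    have hz0 : KRR.cl S (FlatMod.freeMod S 0) = 0 := KHeartLib.clSub_eq_zero (KRR.vbP S) hz
      ((IsZero.iff_id_eq_zero _).2 (Sigma.hom_ext _ _ fun j => j.elim0))
    refine hK₀.induction (fun E hE => ⟨E, _, hE, hz, by rw [hz0, map_zero, sub_zero]⟩)
      ⟨_, _, hz, hz, (sub_self _).symm⟩ ?_ ?_
    · rintro _ _ ⟨E, F, hE, hF, rfl⟩ ⟨E', F', hE', hF', rfl⟩
      have h : ∀ {A B : S.Modules}, FlatMod.IsFinLocFree A → FlatMod.IsFinLocFree B →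
          KRR.cl S (A ⊞ B) = KRR.cl S A + KRR.cl S B := fun {A B} hA hB =>
        KHeartLib.clSub_add (KRR.vbP S) (ShortComplex.mk (biprod.inl : A ⟶ A ⊞ B) biprod.snd (by simp))
          (ShortComplex.Splitting.ofHasBinaryBiproduct _ _).shortExact hA (PerfLib.isFinLocFree_biprod hA hB) hB
      refine ⟨E ⊞ E', F ⊞ F', PerfLib.isFinLocFree_biprod hE hE', PerfLib.isFinLocFree_biprod hF hF', ?_⟩
      rw [h hE hE', h hF hF', map_add, map_add]
      ring
    · rintro _ ⟨E, F, hE, hF, rfl⟩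
      exact ⟨F, E, hF, hE, by ring⟩
  refine isSpecial_of_extensions fun x y => ?_
  obtain ⟨A, B, hA, hB, hx⟩ := hdiff (a x)
  obtain ⟨C, D, hC, hD, hy⟩ := hdiff (a y)
  obtain ⟨K', i₁, i₂, g, M, hg, hgl, hM, -, hj⟩ := exists_split_fin 4 S K₀ φ₀ hK₀ ![A, B, C, D]
    fun j => by fin_cases j <;> assumption
  refine ⟨K', i₁, i₂, g.comp a, M, hg.comp hai, fun n z => ?_, hM, ?_, ?_⟩
  · show g (a _) = _
    rw [hal, hgl]; rfl
  · show g (a x) ∈ _
    rw [hx, map_sub]
    exact sub_mem (hj 0) (hj 1)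
  · show g (a y) ∈ _
    rw [hy, map_sub]
    exact sub_mem (hj 2) (hj 3)

end ProjKLib

end
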