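import Groth.Agent.ProjKLib.Main
import Groth.Agent.KFubLib.Enough
import Groth.Agent.FormalCohLib.Counit

/-!
# Coherent modules on a projective bundle
-/

set_option autoImplicit false
set_option linter.style.haveILetI false
set_option linter.unusedSectionVars false
set_option backward.isDefEq.respectTransparency false
set_option backward.isDefEq.respectTransparency.types false
set_option maxHeartbeats 1000000

universe u

open CategoryTheory CategoryTheory.Limits AlgebraicGeometry TopologicalSpace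
open KFlatLib (pb)

noncomputable section

namespace ProjKLib

open Groth.Agent KRRRegLib

variable {T P : Scheme.{u}} {π : P ⟶ T} {O1 : P.Modules} {n : ℕ}

theorem isNoetherian_chart [IsNoetherian T] (c : Chart π O1 n) : IsNoetherian (Spec c.R) := by
  haveI : IsLocallyNoetherian (Spec c.R) := LocallyOfFiniteType.isLocallyNoetherian c.i
  exact {}

theorem isCoh_pull_chart [IsNoetherian T] (c : Chart π O1 n) {F : P.Modules} (hF : Coh.IsCoh F) :
    Coh.IsCoh (pb c.j F) := ConsLib.isCoh_pullback c.j hF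

/-- High twists of a coherent module are regular. -/
theorem exists_RG_coh [QuasiCompact π] [QuasiSeparated π] [IsNoetherian T] (hcov : Covers π O1 n)
    (hL : PicF.IsInvertible O1) {F : P.Modules} (hF : Coh.IsCoh F) : ∃ N : ℕ, RG π O1 n (N : ℤ) F := by
  classical
  haveI := hF.1
  have hch : ∀ x : T, ∃ c : Chart π O1 n, x ∈ c.i.opensRange := fun x => by
    obtain ⟨U, hx, hU⟩ := hcov x
    obtain ⟨W, hW, hxW, hle⟩ := exists_isAffineOpen_mem_and_subset (X := T) (x := x) (U := U) hx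
    obtain ⟨c, hc⟩ := hU W hW hle
    exact ⟨c, hc ▸ hxW⟩
  choose c hc using hch
  obtain ⟨s, hs⟩ := isCompact_univ.elim_finite_subcover (fun x => ((c x).i.opensRange : Set T))
    (fun x => (c x).i.opensRange.2) fun x _ => Set.mem_iUnion.2 ⟨x, hc x⟩
  have hN' : ∀ x : T, ∃ N : ℕ, ∀ m : ℕ, N ≤ m → ∀ i : ℕ, 1 ≤ i → V i ((m : ℤ) - i) (pb (c x).j F) := fun x => by
    haveI := isNoetherian_chart (c x)
    obtain ⟨N, hN⟩ := KFubLib.exists_isRegSheaf_twist (isCoh_pull_chart (c x) hF)
    refine ⟨N, fun m hm i hi => ?_⟩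
    have h := (V_twF_iff i _ _ (pb (c x).j F)).1 (V_shift hN (m - N) i hi)
    exact h.congr (by omega)
  choose N hN using hN'
  refine ⟨s.sum N, fun c₀ i hi => V_of_cover hL c₀ F i _ fun y => ?_⟩
  obtain ⟨x, hx, hy⟩ := Set.mem_iUnion₂.1 (hs (Set.mem_univ y))
  exact ⟨c x, hy, hN x _ (Finset.single_le_sum (fun z _ => Nat.zero_le (N z)) hx) i hi⟩

variable (π O1 n) in
/-- Regular coherent modules. -/
def CR (F : P.Modules) : Prop := Coh.IsCoh F ∧ RG π O1 n 0 F

/-- Twists of coherent modules. -/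
theorem isCoh_tw [IsLocallyNoetherian P] (hL : PicF.IsInvertible O1) (d : ℤ) {F : P.Modules} (hF : Coh.IsCoh F) :
    Coh.IsCoh (tw hL d F) :=
  QCohLib.isCoh_of_iso (HilbPolyLib.swapIso _ _) (SerreVanLib.isCoh_tensor hF (Otw_inv hL d))

/-- Pull-backs of coherent modules. -/
theorem isCoh_pb [IsLocallyNoetherian P] {N : T.Modules} (hN : Coh.IsCoh N) : Coh.IsCoh (pb π N) :=
  ConsLib.isCoh_pullback π hN

variable [IsProper π] [IsNoetherian T] [IsNoetherian P]

theorem epi_eps_coh (hcov : Covers π O1 n) (hL : PicF.IsInvertible O1) {F : P.Modules} (hF : CR π O1 n F) :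
    Epi (eps π F) := by
  have hP := isCoh_pb (π := π) (FormalCohLib.isCoh_push_proper π hF.1)
  haveI := hP.1
  haveI := hF.1.1
  refine CohCmpLib.epi_of_epi_pullbacks hF.1.2 _ fun x => ?_
  obtain ⟨c, z, hz⟩ := exists_chart_mem hcov x
  refine ⟨_, c.j, z, hz, ?_⟩
  haveI := KFlatLib.isQCoh_pullback c.j F
  obtain ⟨a⟩ := c.nonempty_arrow_eps F
  exact (MorphismProperty.arrow_mk_iso_iff (MorphismProperty.epimorphisms _) a).2
    (KRRRegLib.epi_counit (hF.2.isRegSheaf c))

theorem isCoh_kernel_eps {F : P.Modules} (hF : Coh.IsCoh F) : Coh.IsCoh (kernel (eps π F)) :=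
  QCohLib.isCoh_kernel _ (isCoh_pb (π := π) (FormalCohLib.isCoh_push_proper π hF)) hF.1

theorem CR_nx (hcov : Covers π O1 n) (hL : PicF.IsInvertible O1) {F : P.Modules} (hF : CR π O1 n F) :
    CR π O1 n (nx (π := π) hL F) := by
  haveI := hF.1.1
  refine ⟨isCoh_tw hL 1 (isCoh_kernel_eps hF.1), RG.of_isRegSheaf fun c => ?_⟩
  haveI := KFlatLib.isQCoh_pullback c.j F
  obtain ⟨e⟩ := nonempty_pb_nx hL c F (Iso.refl _)
  exact fun i hi => KRRRegLib.V.of_iso (KRRRegLib.isRegSheaf_kernel (hF.2.isRegSheaf c) i hi) e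

theorem CR_syzP (hcov : Covers π O1 n) (hL : PicF.IsInvertible O1) {F : P.Modules} (hF : CR π O1 n F) :
    ∀ N, CR π O1 n (syzP (π := π) hL F N)
  | 0 => hF
  | N + 1 => CR_nx hcov hL (CR_syzP hcov hL hF N)

theorem isZero_syzP_coh (hcov : Covers π O1 n) (hL : PicF.IsInvertible O1) {F : P.Modules} (hF : CR π O1 n F)
    {N : ℕ} (hN : n < N) : IsZero (syzP (π := π) hL F N) := by
  haveI := hF.1.1
  refine isZero_of_charts hcov (CR_syzP hcov hL hF N).1 fun c => ?_
  let G₀ : KRRRegLib.QR n (Spec c.R) := ⟨pb c.j F, KFlatLib.isQCoh_pullback c.j F, hF.2.isRegSheaf c⟩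
  have key : ∀ m, Nonempty (pb c.j (syzP (π := π) hL F m) ≅ (KRRRegLib.syz G₀ m).1) := fun m => by
    induction m with
    | zero => exact ⟨Iso.refl _⟩
    | succ m ih => exact nonempty_pb_nx hL c _ ih.some
  exact (KRRRegLib.isZero_syz G₀ hN).of_iso (key N).some

/-- Vanishing for twists of pull-backs from the base. -/
theorem V_gen_coh (hL : PicF.IsInvertible O1) (c : Chart π O1 n) {N : T.Modules} (hN : Coh.IsQCoh N) (a : ℤ)
    (i : ℕ) (d : ℤ) (h : ∀ (A : Type u) [CommRing A] (k : ℕ), i ≤ k →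
      Subsingleton (Coh.HH (CohB1.ProjSpace n A) (Twist.twistProjSpace n A (d + a)) k)) :
    V i d (pb c.j (tw hL a (pb π N))) := by
  haveI := KFlatLib.isQCoh_pullback c.i N
  obtain ⟨e⟩ := c.nonempty_pb_pull N
  exact (V_pb_tw_iff hL c i d a _).2 ((KRRRegLib.V_pullback (pb c.i N) i (d + a) h).of_iso e)

/-- The unit is an isomorphism. -/
theorem nonempty_push_pull_coh (hcov : Covers π O1 n) {N : T.Modules} (hN : Coh.IsCoh N) :
    Nonempty (N ≅ (Scheme.Modules.pushforward π).obj (pb π N)) := by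
  have hP := FormalCohLib.isCoh_push_proper π (isCoh_pb (π := π) hN)
  haveI := (isCoh_pb (π := π) hN).1
  haveI := hN.1
  have hq : ∀ c : Chart π O1 n, IsIso ((Scheme.Modules.pullback c.i).map (eta π N)) := fun c => by
    haveI := SeesawLib.isIso_bc0_open c.sq (pb π N)
    haveI := KFlatLib.isQCoh_pullback c.i N
    haveI := KRRRegLib.isIso_unit (n := n) (pb c.i N)
    haveI : IsIso ((Scheme.Modules.pullback c.i).map (eta π N) ≫
        CohBC.bc0 π c.i (KRR.pr n (Spec c.R)) c.j c.sq.w (pb π N)) := by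
      rw [c.pb_eta N]
      exact IsIso.comp_isIso
    exact IsIso.of_isIso_comp_right _ (CohBC.bc0 π c.i (KRR.pr n (Spec c.R)) c.j c.sq.w (pb π N))
  haveI := hP.1
  haveI hepi : Epi (eta π N) := CohCmpLib.epi_of_epi_pullbacks hP.2 _ fun x => by
    obtain ⟨U, hx, hU⟩ := hcov x
    obtain ⟨W, hW, hxW, hle⟩ := exists_isAffineOpen_mem_and_subset (X := T) (x := x) (U := U) hx
    obtain ⟨c, hc⟩ := hU W hW hle
    obtain ⟨z, hz⟩ : x ∈ Set.range c.i := by
      have h' : x ∈ c.i.opensRange := hc ▸ hxW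
      exact h'
    haveI := hq c
    exact ⟨_, c.i, z, hz, inferInstance⟩
  haveI : Mono (eta π N) := by
    refine Preadditive.mono_of_isZero_kernel _ (isZero_base_of_charts hcov
      (QCohLib.isCoh_kernel (eta π N) hN hP.1) fun c => ?_)
    haveI := CohGenLib.preservesFiniteLimits_pullback_flat c.i
    haveI := hq c
    exact IsZero.of_iso (isZero_kernel_of_mono ((Scheme.Modules.pullback c.i).map (eta π N)))
      (PreservesKernel.iso (Scheme.Modules.pullback c.i) (eta π N))
  haveI : IsIso (eta π N) := isIso_of_mono_of_epi _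
  exact ⟨asIso (eta π N)⟩

end ProjKLib

end
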