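import Groth.Agent.ProjKLib.Reg
import Groth.Agent.KRRRegLib.Resolution
import Groth.Agent.SeesawLib.OpenBC
import Groth.Agent.CohCmpLib.UnitFibre

/-!
# The counit of a regular bundle on a projective bundle, and its syzygies
-/

set_option autoImplicit false
set_option linter.style.haveILetI false
set_option linter.unusedSectionVars false
set_option backward.isDefEq.respectTransparency false
set_option backward.isDefEq.respectTransparency.types false
set_option maxHeartbeats 1000000

universe u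

open CategoryTheory CategoryTheory.Limits AlgebraicGeometry TopologicalSpace
open KFlatLib (pb)
open KRRRegLib (V)

noncomputable section

namespace ProjKLib

open Groth.Agent

variable {T P : Scheme.{u}} {π : P ⟶ T} {O1 : P.Modules} {n : ℕ}

variable (π) in
/-- The counit of `π^* ⊣ π_*`. -/
abbrev eps (F : P.Modules) : pb π ((Scheme.Modules.pushforward π).obj F) ⟶ F :=
  (Scheme.Modules.pullbackPushforwardAdjunction π).counit.app F

/-- The counit restricted to a chart is the counit of projective space. -/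
theorem Chart.nonempty_arrow_eps (c : Chart π O1 n) (F : P.Modules) :
    Nonempty (Arrow.mk ((Scheme.Modules.pullback c.j).map (eps π F)) ≅
      Arrow.mk (eps (KRR.pr n (Spec c.R)) (pb c.j F))) := by
  haveI := SeesawLib.isIso_bc0_open c.sq F
  refine ⟨Arrow.isoMk ((CohCmpLib.sqIso c.sq.w).symm.app _ ≪≫
    (Scheme.Modules.pullback (KRR.pr n (Spec c.R))).mapIso (asIso (CohBC.bc0 π c.i (KRR.pr n (Spec c.R)) c.j c.sq.w F)))
    (Iso.refl _) ?_⟩
  simp only [Arrow.mk_hom, Iso.trans_hom, Iso.app_hom, Iso.symm_hom, Functor.mapIso_hom, asIso_hom,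
    Iso.refl_hom, Category.assoc]
  refine Eq.trans ?_ (Category.comp_id _).symm
  rw [CohCmpLib.bc0_counit c.sq.w F]
  exact (Iso.inv_hom_id_app_assoc (CohCmpLib.sqIso c.sq.w) _ _)

/-- Every point of the bundle lies in a chart. -/
theorem exists_chart_mem (hcov : Covers π O1 n) (x : P) : ∃ (c : Chart π O1 n) (z : KRR.PY n (Spec c.R)), c.j z = x := by
  obtain ⟨U, hx, hU⟩ := hcov (π x)
  obtain ⟨W, hW, hxW, hle⟩ := exists_isAffineOpen_mem_and_subset (X := T) (x := π x) (U := U) hx
  obtain ⟨c, hc⟩ := hU W hW hle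
  have hr : x ∈ Set.range c.j := by
    rw [AnLib.range_eq_preimage_of_isPullback c.sq.flip]
    have h : π x ∈ c.i.opensRange := hc ▸ hxW
    exact h
  obtain ⟨z, hz⟩ := hr
  exact ⟨c, z, hz⟩

/-- A module vanishing on the charts vanishes. -/
theorem isZero_of_charts (hcov : Covers π O1 n) {F : P.Modules} (hF : Coh.IsCoh F)
    (h : ∀ c : Chart π O1 n, IsZero (pb c.j F)) : IsZero F := by
  haveI := hF.1
  have he : Epi (0 : F ⟶ F) := CohCmpLib.epi_of_epi_pullbacks hF.2 _ fun x => by
    obtain ⟨c, z, hz⟩ := exists_chart_mem hcov x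
    exact ⟨_, c.j, z, hz, ⟨fun a b _ => (h c).eq_of_src a b⟩⟩
  exact IsZero.of_epi_zero F F

/-- `0`-regularity of a bundle is regularity of its restrictions. -/
theorem RG.isRegSheaf {F : P.Modules} (h : RG π O1 n 0 F) (c : Chart π O1 n) :
    KRR.IsRegSheaf n (Spec c.R) (pb c.j F) := fun i hi => (h c i hi).congr (zero_sub _)

theorem RG.of_isRegSheaf {F : P.Modules} (h : ∀ c : Chart π O1 n, KRR.IsRegSheaf n (Spec c.R) (pb c.j F)) :
    RG π O1 n 0 F := fun c i hi => KRRRegLib.V.congr (h c i hi) (zero_sub _).symm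

variable (π O1 n) in
/-- Regular bundles. -/
def PR (F : P.Modules) : Prop := FlatMod.IsFinLocFree F ∧ RG π O1 n 0 F

variable [IsProper π] [LocallyOfFinitePresentation π]

/-- Regular bundles are generated by their direct images. -/
theorem epi_eps (hcov : Covers π O1 n) (hL : PicF.IsInvertible O1) {F : P.Modules} (hF : PR π O1 n F) :
    Epi (eps π F) := by
  have hP := vb_push hcov hL hF.1 hF.2.qp
  haveI := (LocSuppLib.isCoh_of_isFinLocFree (KFlatLib.isFinLocFree_pull π hP)).1
  haveI := (LocSuppLib.isCoh_of_isFinLocFree hF.1).1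
  refine CohCmpLib.epi_of_epi_pullbacks (LocSuppLib.isCoh_of_isFinLocFree hF.1).2 _ fun x => ?_
  obtain ⟨c, z, hz⟩ := exists_chart_mem hcov x
  refine ⟨_, c.j, z, hz, ?_⟩
  haveI := KFlatLib.isQCoh_pullback c.j F
  obtain ⟨a⟩ := c.nonempty_arrow_eps F
  exact (MorphismProperty.arrow_mk_iso_iff (MorphismProperty.epimorphisms _) a).2
    (KRRRegLib.epi_counit (hF.2.isRegSheaf c))

/-- The next syzygy. -/
def nx (hL : PicF.IsInvertible O1) (F : P.Modules) : P.Modules :=
  tw hL 1 (kernel ((Scheme.Modules.pullbackPushforwardAdjunction π).counit.app F))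

theorem vb_kernel_eps (hcov : Covers π O1 n) (hL : PicF.IsInvertible O1) {F : P.Modules} (hF : PR π O1 n F) :
    FlatMod.IsFinLocFree (kernel (eps π F)) := by
  haveI := epi_eps hcov hL hF
  exact ResPropLib.isFinLocFree_kernel (eps π F) (KFlatLib.isFinLocFree_pull π (vb_push hcov hL hF.1 hF.2.qp)) hF.1

/-- Syzygies on the charts are the syzygies of projective space. -/
theorem nonempty_pb_nx (hL : PicF.IsInvertible O1) (c : Chart π O1 n) (F : P.Modules)
    {G : (KRR.PY n (Spec c.R)).Modules} (e : pb c.j F ≅ G) :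
    Nonempty (pb c.j (nx (π := π) hL F) ≅
      KRR.twF n (Spec c.R) 1 (kernel ((Scheme.Modules.pullbackPushforwardAdjunction (KRR.pr n (Spec c.R))).counit.app G))) := by
  obtain ⟨t⟩ := nonempty_pb_tw hL c 1 (kernel (eps π F))
  obtain ⟨a⟩ := c.nonempty_arrow_eps F
  haveI := CohGenLib.preservesFiniteLimits_pullback_flat c.j
  let p' := KRR.pr n (Spec c.R)
  let q := Scheme.Modules.pushforward p' ⋙ Scheme.Modules.pullback p'
  have hw : eps p' (pb c.j F) ≫ e.hom = (q.mapIso e).hom ≫ eps p' G :=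
    ((Scheme.Modules.pullbackPushforwardAdjunction p').counit.naturality e.hom).symm
  let k : pb c.j (kernel (eps π F)) ≅ kernel (eps p' G) :=
    PreservesKernel.iso (Scheme.Modules.pullback c.j) (eps π F) ≪≫
      kernel.mapIso _ _ (Arrow.leftFunc.mapIso a) (Arrow.rightFunc.mapIso a) a.hom.w.symm ≪≫
      kernel.mapIso (eps p' (pb c.j F)) (eps p' G) (q.mapIso e) e hw
  exact ⟨t ≪≫ (KRRRegLib.twFun n (Spec c.R) 1).mapIso k⟩

theorem PR_nx (hcov : Covers π O1 n) (hL : PicF.IsInvertible O1) {F : P.Modules} (hF : PR π O1 n F) :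
    PR π O1 n (nx (π := π) hL F) := by
  haveI := (LocSuppLib.isCoh_of_isFinLocFree hF.1).1
  refine ⟨vb_tens (vb_inv (Otw_inv hL 1)) (vb_kernel_eps hcov hL hF), RG.of_isRegSheaf fun c => ?_⟩
  haveI := KFlatLib.isQCoh_pullback c.j F
  obtain ⟨e⟩ := nonempty_pb_nx hL c F (Iso.refl _)
  exact fun i hi => KRRRegLib.V.of_iso (KRRRegLib.isRegSheaf_kernel (hF.2.isRegSheaf c) i hi) e

/-- The syzygies. -/
def syzP (hL : PicF.IsInvertible O1) (F : P.Modules) : ℕ → P.Modules
  | 0 => F
  | N + 1 => nx (π := π) hL (syzP hL F N)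

theorem PR_syzP (hcov : Covers π O1 n) (hL : PicF.IsInvertible O1) {F : P.Modules} (hF : PR π O1 n F) :
    ∀ N, PR π O1 n (syzP (π := π) hL F N)
  | 0 => hF
  | N + 1 => PR_nx hcov hL (PR_syzP hcov hL hF N)

/-- The syzygies stop. -/
theorem isZero_syzP (hcov : Covers π O1 n) (hL : PicF.IsInvertible O1) {F : P.Modules} (hF : PR π O1 n F)
    {N : ℕ} (hN : n < N) : IsZero (syzP (π := π) hL F N) := by
  haveI := (LocSuppLib.isCoh_of_isFinLocFree hF.1).1
  refine isZero_of_charts hcov (LocSuppLib.isCoh_of_isFinLocFree (PR_syzP hcov hL hF N).1) fun c => ?_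
  let G₀ : KRRRegLib.QR n (Spec c.R) := ⟨pb c.j F, KFlatLib.isQCoh_pullback c.j F, hF.2.isRegSheaf c⟩
  have key : ∀ m, Nonempty (pb c.j (syzP (π := π) hL F m) ≅ (KRRRegLib.syz G₀ m).1) := fun m => by
    induction m with
    | zero => exact ⟨Iso.refl _⟩
    | succ m ih => exact nonempty_pb_nx hL c _ ih.some
  exact (KRRRegLib.isZero_syz G₀ hN).of_iso (key N).some

/-- The counit sequence of a regular bundle. -/
theorem shortExact_eps (hcov : Covers π O1 n) (hL : PicF.IsInvertible O1) {F : P.Modules} (hF : PR π O1 n F) :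
    (ShortComplex.mk (kernel.ι (eps π F)) (eps π F) (kernel.condition _)).ShortExact :=
  haveI := epi_eps hcov hL hF
  ShortComplex.ShortExact.mk (ShortComplex.exact_kernel _)

end ProjKLib

end
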