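import Groth.Agent.ProjKLib.Push
import Groth.Agent.KHeartLib.Classes
import Groth.Agent.PerfLib.Restrict

/-!
# `K₀` of a projective bundle
-/

set_option autoImplicit false
set_option linter.style.haveILetI false
set_option linter.unusedSectionVars false
set_option backward.isDefEq.respectTransparency false
set_option backward.isDefEq.respectTransparency.types false
set_option maxHeartbeats 1000000

universe u

open CategoryTheory CategoryTheory.Limits AlgebraicGeometry TopologicalSpace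
open KFlatLib (pb)
open ProjFormLib (tF shortExact_tens)
open scoped ZeroObject
open Groth.Agent.KHeartLib (clSub_add clSub_congr clSub_eq_zero clSub_closure_eq_top exists_lift_sub)

noncomputable section

namespace ProjKLib

open Groth.Agent

theorem vb_of_isZero' {X : Scheme.{u}} {M : X.Modules} (h : IsZero M) : FlatMod.IsFinLocFree M :=
  PerfLib.isFinLocFree_of_iso (IsZero.iso ((IsZero.iff_id_eq_zero _).2 (Sigma.hom_ext _ _ fun j => j.elim0)) h)
    (vb_free X 0)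

instance vbP_isClosed (X : Scheme.{u}) : (KRR.vbP X).IsClosedUnderIsomorphisms :=
  ⟨fun e h => PerfLib.isFinLocFree_of_iso e h⟩

instance vbP_containsZero (X : Scheme.{u}) : (KRR.vbP X).ContainsZero :=
  ⟨⟨0, isZero_zero _, vb_of_isZero' (isZero_zero _)⟩⟩

/-- Homomorphisms on `K₀` of bundles agree when they agree on bundles. -/
theorem hom_ext {X : Scheme.{u}} {M : Type*} [AddCommGroup M] {a b : SGA6.Kvb X →+ M}
    (h : ∀ N, FlatMod.IsFinLocFree N → a (KRR.cl X N) = b (KRR.cl X N)) : a = b :=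
  AddMonoidHom.eq_of_eqOn_dense (clSub_closure_eq_top (KRR.vbP X)) (by rintro _ ⟨N, hN, rfl⟩; exact h N hN)

/-- Subgroups containing the classes of bundles are everything. -/
theorem eq_top_of_cl {X : Scheme.{u}} {H : AddSubgroup (SGA6.Kvb X)}
    (h : ∀ N, FlatMod.IsFinLocFree N → KRR.cl X N ∈ H) : H = ⊤ :=
  eq_top_iff.2 ((clSub_closure_eq_top (KRR.vbP X)).ge.trans ((AddSubgroup.closure_le H).2 (by
    rintro _ ⟨N, hN, rfl⟩; exact h N hN)))

variable {T P : Scheme.{u}} {π : P ⟶ T} {O1 : P.Modules} {n : ℕ} [IsProper π] [LocallyOfFinitePresentation π]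
  (hcov : Covers π O1 n) (hL : PicF.IsInvertible O1) (L₀ : Lower π O1 n hL)

/-- The class of the direct image. -/
abbrev pcl (π : P ⟶ T) (F : P.Modules) : SGA6.Kvb T := KRR.cl T ((Scheme.Modules.pushforward π).obj F)

include hcov hL in
theorem pcl_add {S : ShortComplex P.Modules} (hS : S.ShortExact)
    (h₁ : FlatMod.IsFinLocFree S.X₁) (h₂ : FlatMod.IsFinLocFree S.X₂) (h₃ : FlatMod.IsFinLocFree S.X₃)
    (q₁ : QP π O1 n S.X₁) (q₂ : QP π O1 n S.X₂) (q₃ : QP π O1 n S.X₃) :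
    pcl π S.X₂ = pcl π S.X₁ + pcl π S.X₃ :=
  clSub_add (KRR.vbP T) (S.map (Scheme.Modules.pushforward π)) (shortExact_push hcov hL hS h₁ q₁)
    (vb_push hcov hL h₁ q₁) (vb_push hcov hL h₂ q₂) (vb_push hcov hL h₃ q₃)

theorem vb_Phi {A F : P.Modules} (hA : FlatMod.IsFinLocFree A) (hF : FlatMod.IsFinLocFree F) :
    FlatMod.IsFinLocFree (Phi hL A F) :=
  vb_tens (vb_inv (Otw_inv hL 1)) (vb_tens hA hF)

/-- The Euler characteristic of a bundle whose `m`-th twist is regular. -/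
def psi : ℕ → P.Modules → SGA6.Kvb T
  | 0, F => pcl π F
  | m + 1, F => psi m (Phi hL L₀.A F) - psi m (Phi hL L₀.B F)

theorem psi_congr (m : ℕ) : ∀ {F G : P.Modules}, (F ≅ G) → psi hL L₀ m F = psi hL L₀ m G := by
  induction m with
  | zero => exact fun e => clSub_congr (KRR.vbP T) ((Scheme.Modules.pushforward π).mapIso e)
  | succ m ih =>
    intro F G e
    have a₁ : Phi hL L₀.A F ≅ Phi hL L₀.A G := (tF L₀.A ⋙ tF (Otw hL 1)).mapIso e
    have a₂ : Phi hL L₀.B F ≅ Phi hL L₀.B G := (tF L₀.B ⋙ tF (Otw hL 1)).mapIso e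
    simp only [psi]
    rw [ih a₁, ih a₂]

include hcov in
theorem psi_add : ∀ (m : ℕ) (S : ShortComplex P.Modules), S.ShortExact →
    FlatMod.IsFinLocFree S.X₁ → FlatMod.IsFinLocFree S.X₂ → FlatMod.IsFinLocFree S.X₃ →
    RG π O1 n (m : ℤ) S.X₁ → RG π O1 n (m : ℤ) S.X₂ → RG π O1 n (m : ℤ) S.X₃ →
    psi hL L₀ m S.X₂ = psi hL L₀ m S.X₁ + psi hL L₀ m S.X₃ := by
  intro m
  induction m with
  | zero =>
    intro S hS h₁ h₂ h₃ r₁ r₂ r₃
    rw [Nat.cast_zero] at r₁ r₂ r₃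
    exact pcl_add hcov hL hS h₁ h₂ h₃ r₁.qp r₂.qp r₃.qp
  | succ m ih =>
    intro S hS h₁ h₂ h₃ r₁ r₂ r₃
    rw [Nat.cast_succ] at r₁ r₂ r₃
    have key : ∀ {A : P.Modules}, FlatMod.IsFinLocFree A →
        RG π O1 n (m : ℤ) (Phi hL A S.X₁) → RG π O1 n (m : ℤ) (Phi hL A S.X₂) →
        RG π O1 n (m : ℤ) (Phi hL A S.X₃) → psi hL L₀ m (Phi hL A S.X₂) =
          psi hL L₀ m (Phi hL A S.X₁) + psi hL L₀ m (Phi hL A S.X₃) := fun {A} hA a₁ a₂ a₃ =>
      ih ((S.map (tF A)).map (tF (Otw hL 1)))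
        (shortExact_tens (vb_inv (Otw_inv hL 1)) (shortExact_tens hA hS))
        (vb_Phi hL hA h₁) (vb_Phi hL hA h₂) (vb_Phi hL hA h₃) a₁ a₂ a₃
    simp only [psi]
    rw [key L₀.vbA (L₀.reg _ _ h₁ r₁).1 (L₀.reg _ _ h₂ r₂).1 (L₀.reg _ _ h₃ r₃).1,
      key L₀.vbB (L₀.reg _ _ h₁ r₁).2 (L₀.reg _ _ h₂ r₂).2 (L₀.reg _ _ h₃ r₃).2]
    abel

include hcov in
/-- The lowering sequence on direct images. -/
theorem pcl_lower {F : P.Modules} (hF : FlatMod.IsFinLocFree F) (h : QP π O1 n F) :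
    pcl π (Phi hL L₀.A F) - pcl π (Phi hL L₀.B F) = pcl π F := by
  obtain ⟨S, hS, ⟨a₁⟩, ⟨a₂⟩, ⟨a₃⟩⟩ := L₀.seq F hF
  have v₁ := PerfLib.isFinLocFree_of_iso a₁.symm hF
  have v₂ := PerfLib.isFinLocFree_of_iso a₂.symm (vb_Phi hL L₀.vbA hF)
  have v₃ := PerfLib.isFinLocFree_of_iso a₃.symm (vb_Phi hL L₀.vbB hF)
  have e := pcl_add hcov hL hS v₁ v₂ v₃ (h.of_iso a₁) ((L₀.acyc F hF h).1.of_iso a₂) ((L₀.acyc F hF h).2.of_iso a₃)
  have c : ∀ {X Y : P.Modules}, (X ≅ Y) → pcl π X = pcl π Y := fun e =>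
    clSub_congr (KRR.vbP T) ((Scheme.Modules.pushforward π).mapIso e)
  rw [c a₁, c a₂, c a₃] at e
  rw [e, add_sub_cancel_right]

include hcov in
theorem psi_succ : ∀ (m : ℕ) (F : P.Modules), FlatMod.IsFinLocFree F → RG π O1 n (m : ℤ) F →
    psi hL L₀ (m + 1) F = psi hL L₀ m F := by
  intro m
  induction m with
  | zero =>
    intro F hF h
    rw [Nat.cast_zero] at h
    exact pcl_lower hcov hL L₀ hF h.qp
  | succ m ih =>
    intro F hF h
    rw [Nat.cast_succ] at h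
    exact congrArg₂ (· - ·) (ih _ (vb_Phi hL L₀.vbA hF) (L₀.reg _ _ hF h).1)
      (ih _ (vb_Phi hL L₀.vbB hF) (L₀.reg _ _ hF h).2)

include hcov in
theorem psi_stable {m m' : ℕ} (h : m ≤ m') {F : P.Modules} (hF : FlatMod.IsFinLocFree F)
    (hr : RG π O1 n (m : ℤ) F) : psi hL L₀ m' F = psi hL L₀ m F := by
  induction m', h using Nat.le_induction with
  | base => rfl
  | succ k hk ih => rw [psi_succ hcov hL L₀ k F hF (hr.mono (by exact_mod_cast hk)), ih]

variable [CompactSpace T]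

include hcov L₀ in
/-- The Euler characteristic. -/
theorem exists_chi : ∃ χ : SGA6.Kvb P →+ SGA6.Kvb T,
    ∀ F, FlatMod.IsFinLocFree F → QP π O1 n F → χ (KRR.cl P F) = pcl π F := by
  classical
  let f : P.Modules → SGA6.Kvb T := fun F =>
    if hF : FlatMod.IsFinLocFree F then psi hL L₀ (Classical.choose (exists_RG hcov hL hF)) F else 0
  have hf : ∀ {F : P.Modules}, FlatMod.IsFinLocFree F → ∀ {m : ℕ}, RG π O1 n (m : ℤ) F → f F = psi hL L₀ m F := by
    intro F hF m hm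
    simp only [f, dif_pos hF]
    have h0 := Classical.choose_spec (exists_RG hcov hL hF)
    rw [← psi_stable hcov hL L₀ (le_max_left _ m) hF h0, ← psi_stable hcov hL L₀ (le_max_right _ m) hF hm]
  obtain ⟨χ, hχ⟩ := exists_lift_sub (KRR.vbP P) f fun S hS h₁ h₂ h₃ => by
    obtain ⟨m₁, hm₁⟩ := exists_RG hcov hL h₁
    obtain ⟨m₂, hm₂⟩ := exists_RG hcov hL h₂
    obtain ⟨m₃, hm₃⟩ := exists_RG hcov hL h₃
    have k₁ : RG π O1 n ((m₁ + m₂ + m₃ : ℕ) : ℤ) S.X₁ := hm₁.mono (by push_cast; omega)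
    have k₂ : RG π O1 n ((m₁ + m₂ + m₃ : ℕ) : ℤ) S.X₂ := hm₂.mono (by push_cast; omega)
    have k₃ : RG π O1 n ((m₁ + m₂ + m₃ : ℕ) : ℤ) S.X₃ := hm₃.mono (by push_cast; omega)
    rw [hf h₁ k₁, hf h₂ k₂, hf h₃ k₃]
    exact psi_add hcov hL L₀ _ S hS h₁ h₂ h₃ k₁ k₂ k₃
  refine ⟨χ, fun F hF hq => ?_⟩
  obtain ⟨m, hm⟩ := exists_RG hcov hL hF
  refine (hχ F hF).trans ((hf hF hm).trans ?_)
  clear hχ
  induction m generalizing F with
  | zero => rfl
  | succ m ih =>
    rw [Nat.cast_succ] at hm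
    simp only [psi]
    rw [ih _ (vb_Phi hL L₀.vbA hF) (L₀.acyc F hF hq).1 (L₀.reg _ _ hF hm).1,
      ih _ (vb_Phi hL L₀.vbB hF) (L₀.acyc F hF hq).2 (L₀.reg _ _ hF hm).2]
    exact pcl_lower hcov hL L₀ hF hq

section Twist

omit [IsProper π] [LocallyOfFinitePresentation π] [CompactSpace T]

/-- Twisting on `K₀`. -/
theorem exists_twK (a : ℤ) : ∃ φ : SGA6.Kvb P →+ SGA6.Kvb P,
    ∀ F, FlatMod.IsFinLocFree F → φ (KRR.cl P F) = KRR.cl P (tw hL a F) :=
  exists_lift_sub (KRR.vbP P) (fun F => KRR.cl P (tw hL a F)) fun S hS h₁ h₂ h₃ =>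
    clSub_add (KRR.vbP P) (S.map (tF (Otw hL a))) (shortExact_tens (vb_inv (Otw_inv hL a)) hS)
      (vb_tens (vb_inv (Otw_inv hL a)) h₁) (vb_tens (vb_inv (Otw_inv hL a)) h₂)
      (vb_tens (vb_inv (Otw_inv hL a)) h₃)

/-- Twisting on `K₀`. -/
def twK (a : ℤ) : SGA6.Kvb P →+ SGA6.Kvb P := (exists_twK hL a).choose

theorem twK_cl (a : ℤ) {F : P.Modules} (hF : FlatMod.IsFinLocFree F) :
    twK hL a (KRR.cl P F) = KRR.cl P (tw hL a F) := (exists_twK hL a).choose_spec F hF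

theorem twK_twK (a b : ℤ) (x : SGA6.Kvb P) : twK hL a (twK hL b x) = twK hL (a + b) x :=
  DFunLike.congr_fun (hom_ext (a := (twK hL a).comp (twK hL b)) fun F hF => by
    simp only [AddMonoidHom.coe_comp, Function.comp_apply, twK_cl hL b hF,
      twK_cl hL a (vb_tens (vb_inv (Otw_inv hL b)) hF), twK_cl hL (a + b) hF]
    exact clSub_congr (KRR.vbP P) (nonempty_tw_tw hL a b F).some) x

theorem twK_zero (x : SGA6.Kvb P) : twK hL 0 x = x :=
  DFunLike.congr_fun (hom_ext (a := twK hL 0) (b := AddMonoidHom.id _) fun F hF => by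
    rw [twK_cl hL 0 hF]
    exact clSub_congr (KRR.vbP P) (nonempty_tw_zero hL F).some) x

theorem bijective_twK (a : ℤ) : Function.Bijective (twK hL a) :=
  ⟨fun x y h => by
    have := congrArg (twK hL (-a)) h
    rwa [twK_twK, twK_twK, neg_add_cancel, twK_zero, twK_zero] at this,
  fun x => ⟨twK hL (-a) x, by rw [twK_twK, add_neg_cancel, twK_zero]⟩⟩

end Twist

omit [CompactSpace T] in
include hcov in
/-- Regular bundles are combinations of the generators. -/
theorem cl_mem_of_PR {H : AddSubgroup (SGA6.Kvb P)}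
    (hH : ∀ (i : ℕ), i ≤ n → ∀ N : T.Modules, FlatMod.IsFinLocFree N →
      KRR.cl P (tw hL (-(i : ℤ)) (pb π N)) ∈ H) {F : P.Modules} (hF : PR π O1 n F) : KRR.cl P F ∈ H := by
  have key : ∀ t i : ℕ, n + 1 ≤ i + t → twK hL (-(i : ℤ)) (KRR.cl P (syzP (π := π) hL F i)) ∈ H := by
    intro t
    induction t with
    | zero =>
      intro i hi
      rw [show KRR.cl P (syzP (π := π) hL F i) = 0 from clSub_eq_zero (KRR.vbP P) (PR_syzP hcov hL hF i).1
        (isZero_syzP hcov hL hF (show n < i by omega)), map_zero]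
      exact zero_mem H
    | succ t ih =>
      intro i hi
      by_cases hn : n < i
      · rw [show KRR.cl P (syzP (π := π) hL F i) = 0 from clSub_eq_zero (KRR.vbP P) (PR_syzP hcov hL hF i).1
          (isZero_syzP hcov hL hF hn), map_zero]
        exact zero_mem H
      have hG := PR_syzP hcov hL hF i
      have hN := vb_push hcov hL hG.1 hG.2.qp
      have hK := vb_kernel_eps hcov hL hG
      have e : KRR.cl P (pb π ((Scheme.Modules.pushforward π).obj (syzP (π := π) hL F i))) =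
          KRR.cl P (kernel (eps π (syzP (π := π) hL F i))) + KRR.cl P (syzP (π := π) hL F i) :=
        clSub_add (KRR.vbP P) _ (shortExact_eps hcov hL hG) hK (KFlatLib.isFinLocFree_pull π hN) hG.1
      have e' : twK hL (-(i : ℤ)) (KRR.cl P (syzP (π := π) hL F i)) =
          KRR.cl P (tw hL (-(i : ℤ)) (pb π ((Scheme.Modules.pushforward π).obj (syzP (π := π) hL F i)))) -
            twK hL (-((i + 1 : ℕ) : ℤ)) (KRR.cl P (syzP (π := π) hL F (i + 1))) := by
        have h1 : KRR.cl P (syzP (π := π) hL F (i + 1)) = twK hL 1 (KRR.cl P (kernel (eps π (syzP (π := π) hL F i)))) :=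
          (twK_cl hL 1 hK).symm
        rw [h1, twK_twK, show -((i + 1 : ℕ) : ℤ) + 1 = -(i : ℤ) by push_cast; ring,
          ← twK_cl hL _ (KFlatLib.isFinLocFree_pull π hN), e, map_add, add_sub_cancel_left]
      rw [e']
      exact sub_mem (hH i (by omega) _ hN) (ih (i + 1) (by omega))
  have h := key (n + 1) 0 (by omega)
  rw [Nat.cast_zero, neg_zero, twK_zero] at h
  exact h

include hcov L₀ in
/-- All bundles are combinations of the generators. -/
theorem eq_top_of_gen {H : AddSubgroup (SGA6.Kvb P)}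
    (hH : ∀ (i : ℕ), i ≤ n → ∀ N : T.Modules, FlatMod.IsFinLocFree N →
      KRR.cl P (tw hL (-(i : ℤ)) (pb π N)) ∈ H) : H = ⊤ := by
  refine eq_top_of_cl fun F hF => ?_
  obtain ⟨m, hm⟩ := exists_RG hcov hL hF
  induction m generalizing F with
  | zero => exact cl_mem_of_PR hcov hL hH ⟨hF, by rwa [Nat.cast_zero] at hm⟩
  | succ m ih =>
    rw [Nat.cast_succ] at hm
    obtain ⟨S, hS, ⟨a₁⟩, ⟨a₂⟩, ⟨a₃⟩⟩ := L₀.seq F hF
    have hA := vb_Phi hL L₀.vbA hF
    have hB := vb_Phi hL L₀.vbB hF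
    have e : KRR.cl P S.X₂ = KRR.cl P S.X₁ + KRR.cl P S.X₃ := clSub_add (KRR.vbP P) S hS
      (PerfLib.isFinLocFree_of_iso a₁.symm hF) (PerfLib.isFinLocFree_of_iso a₂.symm hA)
      (PerfLib.isFinLocFree_of_iso a₃.symm hB)
    simp only [KRR.cl, clSub_congr (KRR.vbP P) a₁, clSub_congr (KRR.vbP P) a₂,
      clSub_congr (KRR.vbP P) a₃] at e
    have h : KRR.cl P F = KRR.cl P (Phi hL L₀.A F) - KRR.cl P (Phi hL L₀.B F) :=
      eq_sub_of_add_eq e.symm
    rw [h]
    exact sub_mem (ih _ hA (L₀.reg _ _ hF hm).1) (ih _ hB (L₀.reg _ _ hF hm).2)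

include hcov L₀ in
/-- **`K₀` of a projective bundle.** -/
theorem bijective_sum (G : Fin (n + 1) → (SGA6.Kvb T →+ SGA6.Kvb P))
    (hG : ∀ (i : Fin (n + 1)) (N : T.Modules), FlatMod.IsFinLocFree N →
      G i (KRR.cl T N) = KRR.cl P (tw hL (-((i : ℕ) : ℤ)) (pb π N))) :
    Function.Bijective (fun a : Fin (n + 1) → SGA6.Kvb T => ∑ i : Fin (n + 1), G i (a i)) := by
  classical
  obtain ⟨χ, hχ⟩ := exists_chi hcov hL L₀
  let Φ : (Fin (n + 1) → SGA6.Kvb T) →+ SGA6.Kvb P :=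
    { toFun := fun a => ∑ i, G i (a i)
      map_zero' := by simp
      map_add' := fun a b => by simp [Finset.sum_add_distrib] }
  let c : Fin (n + 1) → Fin (n + 1) → (SGA6.Kvb T →+ SGA6.Kvb T) := fun j i =>
    (χ.comp (twK hL ((j : ℕ) : ℤ))).comp (G i)
  have hc : ∀ (j i : Fin (n + 1)) (N : T.Modules), FlatMod.IsFinLocFree N → c j i (KRR.cl T N) =
      pcl π (tw hL (((j : ℕ) : ℤ) - ((i : ℕ) : ℤ)) (pb π N)) := fun j i N hN => by
    have h1 := vb_tens (vb_inv (Otw_inv hL (-((i : ℕ) : ℤ)))) (KFlatLib.isFinLocFree_pull π hN)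
    simp only [c, AddMonoidHom.coe_comp, Function.comp_apply, hG i N hN]
    rw [← twK_cl hL _ (KFlatLib.isFinLocFree_pull π hN), twK_twK, twK_cl hL _ (KFlatLib.isFinLocFree_pull π hN)]
    rw [show ((j : ℕ) : ℤ) + -((i : ℕ) : ℤ) = ((j : ℕ) : ℤ) - ((i : ℕ) : ℤ) by ring]
    exact hχ _ (vb_tens (vb_inv (Otw_inv hL _)) (KFlatLib.isFinLocFree_pull π hN))
      (QP_gen hcov hL hN _ (by omega))
  have hlt : ∀ j i : Fin (n + 1), j < i → c j i = 0 := fun j i hji => hom_ext fun N hN => by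
    rw [hc j i N hN, AddMonoidHom.zero_apply]
    have hji' : (j : ℕ) < (i : ℕ) := hji
    exact clSub_eq_zero (KRR.vbP T) (vb_push hcov hL (vb_tens (vb_inv (Otw_inv hL _)) (KFlatLib.isFinLocFree_pull π hN))
      (QP_gen hcov hL hN _ (by omega))) (isZero_push_gen hcov hL hN _ (by omega) (by omega))
  have hdiag : ∀ j : Fin (n + 1), c j j = AddMonoidHom.id _ := fun j => hom_ext fun N hN => by
    rw [hc j j N hN, AddMonoidHom.id_apply, sub_self]
    exact (clSub_congr (KRR.vbP T) ((Scheme.Modules.pushforward π).mapIso (nonempty_tw_zero hL (pb π N)).some ≪≫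
      (nonempty_push_pull hcov hL hN).some.symm))
  have hinj : ∀ a, Φ a = 0 → a = 0 := by
    intro a ha
    have hsum : ∀ j, ∑ i, c j i (a i) = 0 := fun j => by
      have := congrArg (χ.comp (twK hL ((j : ℕ) : ℤ))) ha
      simpa [Φ, c, map_sum] using this
    suffices h : ∀ k : ℕ, ∀ j : Fin (n + 1), (j : ℕ) = k → a j = 0 from funext fun j => h _ j rfl
    intro k
    induction k using Nat.strong_induction_on with
    | _ k ih =>
      intro j hj
      have h := hsum j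
      rw [Finset.sum_eq_single j (fun i _ hij => ?_) (fun h => absurd (Finset.mem_univ j) h), hdiag] at h
      · exact h
      · rcases lt_or_gt_of_ne hij with h' | h'
        · rw [ih (i : ℕ) (by have : (i : ℕ) < (j : ℕ) := h'; omega) i rfl, map_zero]
        · rw [hlt j i h', AddMonoidHom.zero_apply]
  refine ⟨(injective_iff_map_eq_zero Φ).2 hinj, fun y => ?_⟩
  have htop : Φ.range = ⊤ := eq_top_of_gen hcov hL L₀ fun i hi N hN => by
    refine ⟨Pi.single (⟨i, by omega⟩ : Fin (n + 1)) (KRR.cl T N), ?_⟩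
    have h : Φ (Pi.single (⟨i, by omega⟩ : Fin (n + 1)) (KRR.cl T N)) = G ⟨i, by omega⟩ (KRR.cl T N) := by
      show ∑ k, G k ((Pi.single (⟨i, by omega⟩ : Fin (n + 1)) (KRR.cl T N) : Fin (n + 1) → SGA6.Kvb T) k) = _
      rw [Finset.sum_eq_single (⟨i, by omega⟩ : Fin (n + 1)) (fun k _ hk => by rw [Pi.single_eq_of_ne hk, map_zero])
        (fun h => absurd (Finset.mem_univ _) h), Pi.single_eq_same]
    rw [h, hG _ N hN]
  exact AddMonoidHom.mem_range.1 (htop.ge (AddSubgroup.mem_top y))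

end ProjKLib

end
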