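import Groth.Agent.ProjKLib.Main

/-!
# The projective bundle theorem on models of `K`
-/

set_option autoImplicit false
set_option linter.style.haveILetI false
set_option linter.unusedSectionVars false
set_option backward.isDefEq.respectTransparency false
set_option backward.isDefEq.respectTransparency.types false
set_option maxHeartbeats 1000000

universe v u

open CategoryTheory CategoryTheory.Limits AlgebraicGeometry TopologicalSpace
open KFlatLib (pb)

noncomputable section

namespace ProjKLib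

open Groth.Agent

variable {X P : Scheme.{u}} [CompactSpace X] {π : P ⟶ X} {E : X.Modules} {O1 : P.Modules} {q : pb π E ⟶ O1}
  {r : ℕ} {KX KP : Type v} [CommRing KX] [LambdaRing.LambdaOps KX] [CommRing KP] [LambdaRing.LambdaOps KP]
  {PX : LambdaRing.PosStructure KX} {φX : SGA6.Kvb X →+ KX} {PP : LambdaRing.PosStructure KP}
  {φP : SGA6.Kvb P →+ KP}

/-- Powers of the class of a line bundle. -/
theorem map_pow_cl (hKP : KRR.IsModel P KP PP φP) (hL : PicF.IsInvertible O1) : ∀ i : ℕ,
    φP (KRR.cl P O1) ^ i = φP (KRR.cl P (Otw hL (i : ℤ)))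
  | 0 => by
    rw [pow_zero, ← hKP.map_one]
    exact congrArg φP (KHeartLib.clSub_congr (KRR.vbP P) (nonempty_Otw_zero hL).some.symm)
  | i + 1 => by
    rw [pow_succ, map_pow_cl hKP hL i, hKP.map_mul _ _ (vb_inv (Otw_inv hL _)) (vb_inv hL)]
    refine congrArg φP (KHeartLib.clSub_congr (KRR.vbP P) ?_)
    exact HilbPolyLib.congrRight _ (nonempty_Otw_one hL).some.symm ≪≫ (nonempty_Otw_add hL (i : ℤ) 1).some ≪≫
      eqToIso (congrArg _ (Nat.cast_succ i).symm)

/-- `K(P) = K(X)[ℓ]`. -/
theorem bijective_model (hE : FlatMod.IsFinLocFreeOfRank (r + 1) E) (hP : KRR.IsProjBundle π E O1 q)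
    (hKX : KRR.IsModel X KX PX φX) (hKP : KRR.IsModel P KP PP φP) (g : KX →+ KP)
    (hg : KRR.IsPull π φX φP g) :
    Function.Bijective (fun a : Fin (r + 1) → KX => ∑ i : Fin (r + 1), g (a i) * φP (KRR.cl P O1) ^ (i : ℕ)) := by
  let hL := inv_O1 hP
  let eP := AddEquiv.ofBijective φP hKP.bijective
  let G : Fin (r + 1) → (SGA6.Kvb X →+ SGA6.Kvb P) := fun i =>
    eP.symm.toAddMonoidHom.comp ((AddMonoidHom.mulRight (φP (KRR.cl P O1) ^ (i : ℕ))).comp (g.comp φX))
  have hG : ∀ (i : Fin (r + 1)) (N : X.Modules), FlatMod.IsFinLocFree N →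
      G i (KRR.cl X N) = KRR.cl P (tw hL ((i : ℕ) : ℤ) (pb π N)) := fun i N hN => by
    simp only [G, AddMonoidHom.coe_comp, AddEquiv.coe_toAddMonoidHom, Function.comp_apply,
      AddMonoidHom.mulRight_apply]
    rw [hg N hN, map_pow_cl hKP hL, hKP.map_mul _ _ (KFlatLib.isFinLocFree_pull π hN) (vb_inv (Otw_inv hL _))]
    refine (AddEquiv.symm_apply_eq eP).2 ?_
    exact congrArg φP (KHeartLib.clSub_congr (KRR.vbP P) (KFlatLib.tensSwap (Otw hL ((i : ℕ) : ℤ)) (pb π N)))
  have h := bijective_shift hP hE (r : ℤ) (fun i => G i.rev) fun i N hN => by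
    rw [hG i.rev N hN]
    refine KHeartLib.clSub_congr (KRR.vbP _) (eqToIso (congrArg (fun d => tw hL d (pb π N)) ?_))
    rw [Fin.val_rev]
    omega
  let e : (Fin (r + 1) → SGA6.Kvb X) ≃ (Fin (r + 1) → SGA6.Kvb X) := Equiv.arrowCongr Fin.revPerm (Equiv.refl _)
  have h' := (eP.bijective.comp (h.comp e.bijective)).comp
    (Equiv.arrowCongr (Equiv.refl (Fin (r + 1))) (AddEquiv.ofBijective φX hKX.bijective).toEquiv.symm).bijective
  convert h' using 1
  funext a
  simp only [Function.comp_apply, map_sum]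
  refine (Equiv.sum_comp Fin.revPerm (fun i => g (a i) * φP (KRR.cl P O1) ^ (i : ℕ))).symm.trans
    (Finset.sum_congr rfl fun i _ => ?_)
  have e1 : ∀ z, φP (eP.symm z) = z := fun z => eP.apply_symm_apply z
  have e2 : ∀ z, φX ((AddEquiv.ofBijective φX hKX.bijective).symm z) = z :=
    fun z => (AddEquiv.ofBijective φX hKX.bijective).apply_symm_apply z
  simp [e, G, e1, e2, Function.comp, Equiv.arrowCongr]

end ProjKLib

end
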