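import Groth.Agent.ProjKLib.Chart
import Groth.Agent.KRRRegLib.Chase
import Groth.Agent.CubeConsLib.IsoCls
import Groth.Agent.CubeConsLib.Hom
import Groth.Agent.RpushLib.Vanish
import Groth.Agent.KFlatLib.QCohPull
import Groth.Agent.QCohLib.OpenRestr
import Groth.Agent.AmpleDevLib.Devissage
import Groth.Agent.AnLib.FibBaseChange
import Groth.Agent.MiscFlat6.TensorGG
import Groth.Agent.IntMultLib.Positive

/-!
# Twists and regularity on a projective bundle, read on the charts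
-/

set_option autoImplicit false
set_option linter.style.haveILetI false
set_option linter.unusedSectionVars false
set_option backward.isDefEq.respectTransparency false
set_option backward.isDefEq.respectTransparency.types false
set_option maxHeartbeats 1000000

universe u

open CategoryTheory CategoryTheory.Limits AlgebraicGeometry TopologicalSpace
open KFlatLib (pb)
open CubeConsLib (cl IsoCls pull pull_cl cl_eq_iff cl_eq_one_iff cl_tensor)
open KRRRegLib (V twFun)

noncomputable section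

namespace ProjKLib

open Groth.Agent

section Twists

variable {P : Scheme.{u}} {O1 : P.Modules} (hL : PicF.IsInvertible O1)

/-- The class of an invertible module as a unit. -/
def clUnit : (IsoCls P)ˣ :=
  Units.mkOfMulEqOne (cl O1) (CubeConsLib.exists_inverse hL).choose (CubeConsLib.exists_inverse hL).choose_spec

/-- The powers of an invertible module. -/
def Otw (d : ℤ) : P.Modules := Quotient.out ((clUnit hL ^ d : (IsoCls P)ˣ) : IsoCls P)

theorem cl_Otw (d : ℤ) : cl (Otw hL d) = ((clUnit hL ^ d : (IsoCls P)ˣ) : IsoCls P) := Quotient.out_eq _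

/-- The twist of a module. -/
abbrev tw (d : ℤ) (F : P.Modules) : P.Modules := CohB1.tensorMod (Otw hL d) F

theorem nonempty_Otw_add (a b : ℤ) : Nonempty (CohB1.tensorMod (Otw hL a) (Otw hL b) ≅ Otw hL (a + b)) :=
  cl_eq_iff.1 (by rw [cl_tensor, cl_Otw, cl_Otw, cl_Otw, zpow_add, Units.val_mul])

theorem nonempty_Otw_zero : Nonempty (Otw hL 0 ≅ Coh.structureModule P) :=
  cl_eq_one_iff.1 (by rw [cl_Otw, zpow_zero, Units.val_one])

theorem nonempty_Otw_one : Nonempty (Otw hL 1 ≅ O1) :=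
  cl_eq_iff.1 (by rw [cl_Otw, zpow_one]; rfl)

theorem nonempty_tw_tw (a b : ℤ) (F : P.Modules) : Nonempty (tw hL a (tw hL b F) ≅ tw hL (a + b) F) :=
  ⟨((VBP1Lib.compIso (Otw hL a) (Otw hL b)).app F).symm ≪≫
    ((DCoh.tensorBi (X := P)).mapIso (nonempty_Otw_add hL a b).some).app F⟩

theorem nonempty_tw_zero (F : P.Modules) : Nonempty (tw hL 0 F ≅ F) :=
  ⟨((DCoh.tensorBi (X := P)).mapIso (nonempty_Otw_zero hL).some).app F ≪≫ KFlatLib.tensUnitIso F⟩

theorem Otw_inv (d : ℤ) : PicF.IsInvertible (Otw hL d) := by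
  have hpos : ∀ m : ℕ, PicF.IsInvertible (Otw hL (m : ℤ)) := fun m => by
    induction m with
    | zero => exact HilbPolyLib.isInvertible_of_iso (nonempty_Otw_zero hL).some.symm (CubeConsLib.isInvertible_one P)
    | succ m ih =>
      exact HilbPolyLib.isInvertible_of_iso ((nonempty_Otw_add hL (m : ℤ) 1).some ≪≫ eqToIso (by push_cast; rfl))
        (HilbPolyLib.isInvertible_tensor ih (HilbPolyLib.isInvertible_of_iso (nonempty_Otw_one hL).some.symm hL))
  rcases Int.eq_nat_or_neg d with ⟨m, rfl | rfl⟩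
  · exact hpos m
  · exact IntMultLib.isInvertible_of_inverse (hpos m) ((nonempty_Otw_add hL (m : ℤ) (-(m : ℤ))).some ≪≫
      eqToIso (congrArg _ (add_neg_cancel _)) ≪≫ (nonempty_Otw_zero hL).some)

theorem isQCoh_tw (d : ℤ) (F : P.Modules) [Coh.IsQCoh F] : Coh.IsQCoh (tw hL d F) :=
  @QCohLib.isQCoh_of_iso _ _ _ (HilbPolyLib.swapIso _ _) (MiscFlat6.isQCoh_tensor (Otw_inv hL d))

variable {T : Scheme.{u}} {π : P ⟶ T} {n : ℕ}

theorem nonempty_pb_Otw (c : Chart π O1 n) (d : ℤ) :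
    Nonempty (pb c.j (Otw hL d) ≅ Twist.twistOver n (Spec c.R) d) := by
  refine cl_eq_iff.1 ?_
  rw [← pull_cl, cl_Otw, ← Units.coe_map, map_zpow]
  let v : (IsoCls (KRR.PY n (Spec c.R)))ˣ := Units.map (pull c.j) (clUnit hL)
  change ((v ^ d : (IsoCls (KRR.PY n (Spec c.R)))ˣ) : IsoCls _) = cl (Twist.twistOver n (Spec c.R) d)
  have hv : ((v : (IsoCls (KRR.PY n (Spec c.R)))ˣ) : IsoCls _) = cl (Twist.twistOver n (Spec c.R) 1) := by
    show pull c.j (cl O1) = _
    rw [pull_cl]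
    exact cl_eq_iff.2 ⟨c.tw⟩
  have hadd : ∀ a b : ℤ, cl (Twist.twistOver n (Spec c.R) a) * cl (Twist.twistOver n (Spec c.R) b) =
      cl (Twist.twistOver n (Spec c.R) (a + b)) := fun a b => by
    rw [← cl_tensor]
    exact cl_eq_iff.2 (PicPnLib.twistOver_add n (Spec c.R) a b)
  induction d with
  | zero =>
    rw [zpow_zero, Units.val_one]
    exact (cl_eq_one_iff.2 (PicPnLib.twistOver_zero n (Spec c.R))).symm
  | succ d ih => rw [zpow_add, zpow_one, Units.val_mul, ih, hv, hadd]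
  | pred d ih =>
    refine (Units.mul_left_inj v).1 ?_
    rw [← Units.val_mul, hv, hadd, ← zpow_add_one, sub_add_cancel, ih]

/-- The restriction of a twist to a chart. -/
theorem nonempty_pb_tw (c : Chart π O1 n) (d : ℤ) (F : P.Modules) :
    Nonempty (pb c.j (tw hL d F) ≅ KRR.twF n (Spec c.R) d (pb c.j F)) :=
  ⟨@asIso _ _ _ _ (KFlatLib.pullθ c.j (Otw hL d) F) (KFlatLib.isIso_pullθ _ _ _) ≪≫
    HilbPolyLib.congrLeft (nonempty_pb_Otw hL c d).some _⟩

end Twists

variable {T P : Scheme.{u}} {π : P ⟶ T} {O1 : P.Modules} {n : ℕ}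

/-- The charts cover the small affine opens. -/
def Covers (π : P ⟶ T) (O1 : P.Modules) (n : ℕ) : Prop :=
  ∀ x : T, ∃ U : T.Opens, x ∈ U ∧ ∀ W : T.Opens, IsAffineOpen W → W ≤ U → ∃ c : Chart π O1 n, c.i.opensRange = W

theorem Chart.image_eq (c : Chart π O1 n) (W : (Spec c.R).Opens) :
    c.j ''ᵁ (KRR.pr n (Spec c.R) ⁻¹ᵁ W) = π ⁻¹ᵁ (c.i ''ᵁ W) := by
  apply TopologicalSpace.Opens.ext
  ext x
  constructor
  · rintro ⟨y, hy, rfl⟩
    show (c.j ≫ π) y ∈ c.i ''ᵁ W
    rw [c.sq.w]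
    exact ⟨_, hy, rfl⟩
  · rintro ⟨w, hw, hwx⟩
    have hx : x ∈ Set.range c.j := by
      rw [AnLib.range_eq_preimage_of_isPullback c.sq.flip]
      exact ⟨w, hwx⟩
    obtain ⟨y, rfl⟩ := hx
    refine ⟨y, ?_, rfl⟩
    have h : c.i (KRR.pr n (Spec c.R) y) = c.i w := by
      rw [← Scheme.Hom.comp_apply, ← c.sq.w]; exact hwx.symm
    show KRR.pr n (Spec c.R) y ∈ W
    rw [c.i.isOpenEmbedding.injective h]
    exact hw

/-- Cohomology on an open is the cohomology groups of the sheaf. -/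
theorem hhon_iff_hu {X : Scheme.{u}} (M : X.Modules) (U : X.Opens) (q : ℕ) :
    Subsingleton (Coh.HHon X M U q) ↔ Subsingleton (QCohLib.HU ((QCohLib.toAbF X).obj M) q U) := by
  obtain ⟨e⟩ := QCohLib.nonempty_HU_restrict U.ι M q ⊤
  rw [Scheme.Opens.ι_image_top] at e
  constructor
  · intro h
    haveI := AmpleDevLib.hu_of_hh (M := M.restrict U.ι) h
    exact e.symm.injective.subsingleton
  · intro h
    exact AmpleDevLib.hh_of_hu (M := M.restrict U.ι) e.injective.subsingleton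

/-- Cohomology on the preimage in a chart. -/
theorem Chart.hhon_iff (c : Chart π O1 n) (M : P.Modules) (W : (Spec c.R).Opens) (q : ℕ) :
    Subsingleton (Coh.HHon (KRR.PY n (Spec c.R)) (pb c.j M) (KRR.pr n (Spec c.R) ⁻¹ᵁ W) q) ↔
      Subsingleton (Coh.HHon P M (π ⁻¹ᵁ (c.i ''ᵁ W)) q) := by
  obtain ⟨e⟩ := QCohLib.nonempty_HU_restrict c.j M q (KRR.pr n (Spec c.R) ⁻¹ᵁ W)
  rw [Chart.image_eq] at e
  rw [hhon_iff_hu, hhon_iff_hu]
  let a := (QCohLib.toAbF _).mapIso ((Scheme.Modules.restrictFunctorIsoPullback c.j).app M)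
  constructor
  · intro h
    haveI := h
    haveI := QCohLib.subsingleton_of_iso (n := q) (U := KRR.pr n (Spec c.R) ⁻¹ᵁ W) a.symm
    exact e.symm.injective.subsingleton
  · intro h
    haveI := h
    haveI : Subsingleton (QCohLib.HU ((QCohLib.toAbF _).obj (M.restrict c.j)) q (KRR.pr n (Spec c.R) ⁻¹ᵁ W)) :=
      e.injective.subsingleton
    exact QCohLib.subsingleton_of_iso a

variable [QuasiCompact π] [QuasiSeparated π] (hcov : Covers π O1 n)

/-- Sections of a zero module. -/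
theorem subsingleton_sections_of_isZero {X : Scheme.{u}} {M : X.Modules} (h : IsZero M) (U : X.Opens) :
    Subsingleton Γ(M, U) :=
  subsingleton_of_forall_eq 0 fun s => congr(Scheme.Modules.Hom.app $((IsZero.iff_id_eq_zero _).1 h) U s)

/-- Vanishing on the charts is vanishing on small affine opens. -/
theorem hhon_of_V (hL : PicF.IsInvertible O1) (c : Chart π O1 n) (F : P.Modules) [Coh.IsQCoh F] (q : ℕ) (d : ℤ)
    (h : V q d (pb c.j F)) (W : T.Opens) (hW : IsAffineOpen W) (hWc : W ≤ c.i.opensRange) :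
    Subsingleton (Coh.HHon P (tw hL d F) (π ⁻¹ᵁ W) q) := by
  haveI : IsProper (KRR.pr n (Spec c.R)) := ChowLib.isProper_toBase n _
  let W' := c.i ⁻¹ᵁ W
  have hW' : IsAffineOpen W' := hW.preimage_of_isOpenImmersion c.i hWc
  have e : c.i ''ᵁ W' = W := (Scheme.Hom.image_preimage_eq_opensRange_inf _ _).trans (inf_eq_right.2 hWc)
  haveI := isQCoh_tw hL d F
  haveI := KFlatLib.isQCoh_pullback c.j (tw hL d F)
  obtain ⟨t⟩ := nonempty_pb_tw hL c d F
  have h2 : IsZero ((Coh.RpushAb (KRR.pr n (Spec c.R)) q).obj (Coh.toAb (pb c.j (tw hL d F)))) :=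
    IsZero.of_iso h ((Coh.RpushAb (KRR.pr n (Spec c.R)) q).mapIso
      (X := Coh.toAb (pb c.j (tw hL d F))) (Y := Coh.toAb (KRR.twF n (Spec c.R) d (pb c.j F)))
      ((QCohLib.toAbF (KRR.PY n (Spec c.R))).mapIso t))
  obtain ⟨a⟩ := RpushLib.nonempty_toAb_rpush_iso (KRR.pr n (Spec c.R)) (pb c.j (tw hL d F)) q
  have h3 := RpushLib.isZero_of_isZero_toAb (IsZero.of_iso h2 a)
  have h4 : Subsingleton Γ((Coh.Rpush (KRR.pr n (Spec c.R)) q).obj (pb c.j (tw hL d F)), W') :=
    subsingleton_sections_of_isZero h3 W'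
  have h5 := @Function.Injective.subsingleton _ _ _
    (RpushLib.rpushSectionsEquiv (KRR.pr n (Spec c.R)) (pb c.j (tw hL d F)) q hW').symm.injective h4
  have h6 := (c.hhon_iff (tw hL d F) W' q).1 h5
  exact cast (congrArg (fun Z : T.Opens => Subsingleton (Coh.HHon P (tw hL d F) (π ⁻¹ᵁ Z) q)) e) h6

include hcov in
/-- The higher direct images vanish when they vanish on the charts. -/
theorem isZero_rpushAb_of_charts (hL : PicF.IsInvertible O1) (F : P.Modules) [Coh.IsQCoh F] (q : ℕ) (d : ℤ)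
    (h : ∀ c : Chart π O1 n, V q d (pb c.j F)) : IsZero ((Coh.RpushAb π q).obj (Coh.toAb (tw hL d F))) := by
  haveI := isQCoh_tw hL d F
  refine RpushLib.isZero_rpushAb π _ q fun y => ?_
  obtain ⟨U, hy, hU⟩ := hcov y
  obtain ⟨W₀, hW₀, hyW, hle⟩ := exists_isAffineOpen_mem_and_subset (X := T) (x := y) (U := U) hy
  obtain ⟨c, hc⟩ := hU W₀ hW₀ hle
  exact ⟨W₀, hyW, fun W hW hWle => hhon_of_V hL c F q d (h c) W hW (hc ▸ hWle)⟩

include hcov in
/-- Untwisted version. -/
theorem isZero_rpushAb_zero (hL : PicF.IsInvertible O1) (F : P.Modules) [Coh.IsQCoh F] (q : ℕ)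
    (h : ∀ c : Chart π O1 n, V q 0 (pb c.j F)) : IsZero ((Coh.RpushAb π q).obj (Coh.toAb F)) :=
  IsZero.of_iso (isZero_rpushAb_of_charts hcov hL F q 0 h)
    ((Coh.RpushAb π q).mapIso ((QCohLib.toAbF P).mapIso (nonempty_tw_zero hL F).some)).symm

/-- Vanishing on a covering family of charts is vanishing on every chart. -/
theorem V_of_cover (hL : PicF.IsInvertible O1) (c : Chart π O1 n) (F : P.Modules) [Coh.IsQCoh F] (q : ℕ) (d : ℤ)
    (h : ∀ x : T, ∃ c' : Chart π O1 n, x ∈ c'.i.opensRange ∧ V q d (pb c'.j F)) : V q d (pb c.j F) := by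
  haveI : IsProper (KRR.pr n (Spec c.R)) := ChowLib.isProper_toBase n _
  haveI := isQCoh_tw hL d F
  haveI := KFlatLib.isQCoh_pullback c.j (tw hL d F)
  obtain ⟨t⟩ := nonempty_pb_tw hL c d F
  refine IsZero.of_iso ?_ ((Coh.RpushAb (KRR.pr n (Spec c.R)) q).mapIso ((QCohLib.toAbF _).mapIso t)).symm
  refine RpushLib.isZero_rpushAb _ _ q fun y => ?_
  obtain ⟨c', hy, hV⟩ := h (c.i y)
  refine ⟨c.i ⁻¹ᵁ c'.i.opensRange, hy, fun W hW hWle => ?_⟩
  rw [Chart.hhon_iff]
  refine hhon_of_V hL c' F q d hV _ (hW.image_of_isOpenImmersion c.i) ?_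
  rintro _ ⟨w, hw, rfl⟩
  exact hWle hw

end ProjKLib

end
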