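import Groth.Agent.ProjKLib.Seq

/-!
# Direct images of the generators
-/

set_option autoImplicit false
set_option linter.style.haveILetI false
set_option linter.unusedSectionVars false
set_option backward.isDefEq.respectTransparency false
set_option backward.isDefEq.respectTransparency.types false
set_option maxHeartbeats 1000000

universe u

open CategoryTheory CategoryTheory.Limits AlgebraicGeometry TopologicalSpace
open KFlatLib (pb)
open KRRRegLib (V)

noncomputable section

namespace ProjKLib

open Groth.Agent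

variable {T P : Scheme.{u}} {π : P ⟶ T} {O1 : P.Modules} {n : ℕ}

/-- A module on the base vanishing on the charts vanishes. -/
theorem isZero_base_of_charts (hcov : Covers π O1 n) {M : T.Modules} (hM : Coh.IsCoh M)
    (h : ∀ c : Chart π O1 n, IsZero (pb c.i M)) : IsZero M := by
  haveI := hM.1
  have he : Epi (0 : M ⟶ M) := CohCmpLib.epi_of_epi_pullbacks hM.2 _ fun x => by
    obtain ⟨U, hx, hU⟩ := hcov x
    obtain ⟨W, hW, hxW, hle⟩ := exists_isAffineOpen_mem_and_subset (X := T) (x := x) (U := U) hx
    obtain ⟨c, hc⟩ := hU W hW hle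
    obtain ⟨z, hz⟩ : x ∈ Set.range c.i := by
      have h' : x ∈ c.i.opensRange := hc ▸ hxW
      exact h'
    exact ⟨_, c.i, z, hz, ⟨fun a b _ => (h c).eq_of_src a b⟩⟩
  exact IsZero.of_epi_zero M M

variable (π) in
/-- The unit of `π^* ⊣ π_*`. -/
abbrev eta (N : T.Modules) : N ⟶ (Scheme.Modules.pushforward π).obj (pb π N) :=
  (Scheme.Modules.pullbackPushforwardAdjunction π).unit.app N

/-- The unit restricted to a chart. -/
theorem Chart.pb_eta (c : Chart π O1 n) (N : T.Modules) :
    (Scheme.Modules.pullback c.i).map (eta π N) ≫ CohBC.bc0 π c.i (KRR.pr n (Spec c.R)) c.j c.sq.w (pb π N) =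
      eta (KRR.pr n (Spec c.R)) (pb c.i N) ≫
        (Scheme.Modules.pushforward (KRR.pr n (Spec c.R))).map ((CohCmpLib.sqIso c.sq.w).hom.app N) := by
  let p := KRR.pr n (Spec c.R)
  let s := CohCmpLib.sqIso c.sq.w
  let f := (Scheme.Modules.pullback c.i).map (eta π N)
  let b := CohBC.bc0 π c.i p c.j c.sq.w (pb π N)
  let adj := Scheme.Modules.pullbackPushforwardAdjunction p
  have key : (Scheme.Modules.pullback p).map (f ≫ b) ≫ adj.counit.app _ = s.hom.app N := by
    rw [Functor.map_comp, Category.assoc]
    refine (congrArg (_ ≫ ·) (CohCmpLib.bc0_counit c.sq.w (pb π N))).trans ?_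
    have h1 := s.hom.naturality (eta π N)
    refine (Category.assoc _ _ _).symm.trans ((congrArg (· ≫ _) h1).trans ((Category.assoc _ _ _).trans ?_))
    have h2 : (Scheme.Modules.pullback π ⋙ Scheme.Modules.pullback c.j).map (eta π N) ≫
        (Scheme.Modules.pullback c.j).map ((Scheme.Modules.pullbackPushforwardAdjunction π).counit.app (pb π N)) = 𝟙 _ := by
      refine ((Scheme.Modules.pullback c.j).map_comp _ _).symm.trans ?_
      refine (congrArg (Scheme.Modules.pullback c.j).map
        ((Scheme.Modules.pullbackPushforwardAdjunction π).left_triangle_components N)).trans ?_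
      exact (Scheme.Modules.pullback c.j).map_id _
    exact (congrArg (s.hom.app N ≫ ·) h2).trans (Category.comp_id _)
  refine (adj.homEquiv _ _).symm.injective ?_
  rw [Adjunction.homEquiv_counit, Adjunction.homEquiv_counit]
  refine key.trans ?_
  refine Eq.symm ?_
  rw [Functor.map_comp, Category.assoc]
  refine (congrArg (_ ≫ ·) (adj.counit.naturality _)).trans ?_
  exact (Category.assoc _ _ _).symm.trans
    ((congrArg (· ≫ _) (adj.left_triangle_components (pb c.i N))).trans (Category.id_comp _))

variable [IsProper π] [LocallyOfFinitePresentation π] (hcov : Covers π O1 n) (hL : PicF.IsInvertible O1)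

include hcov hL in
theorem QP_pull {N : T.Modules} (hN : FlatMod.IsFinLocFree N) : QP π O1 n (pb π N) :=
  (QP_gen hcov hL hN 0 (by omega)).of_iso (nonempty_tw_zero hL (pb π N)).some.symm

include hcov hL in
/-- A bundle of the base is the direct image of its pullback. -/
theorem nonempty_push_pull {N : T.Modules} (hN : FlatMod.IsFinLocFree N) :
    Nonempty (N ≅ (Scheme.Modules.pushforward π).obj (pb π N)) := by
  have hP := vb_push hcov hL (KFlatLib.isFinLocFree_pull π hN) (QP_pull hcov hL hN)
  have hq : ∀ c : Chart π O1 n, IsIso ((Scheme.Modules.pullback c.i).map (eta π N)) := fun c => by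
    haveI := SeesawLib.isIso_bc0_open c.sq (pb π N)
    haveI := (LocSuppLib.isCoh_of_isFinLocFree (KFlatLib.isFinLocFree_pull c.i hN)).1
    haveI := KRRRegLib.isIso_unit (n := n) (pb c.i N)
    haveI : IsIso ((Scheme.Modules.pullback c.i).map (eta π N) ≫
        CohBC.bc0 π c.i (KRR.pr n (Spec c.R)) c.j c.sq.w (pb π N)) := by
      rw [c.pb_eta N]
      exact IsIso.comp_isIso
    exact IsIso.of_isIso_comp_right _ (CohBC.bc0 π c.i (KRR.pr n (Spec c.R)) c.j c.sq.w (pb π N))
  haveI := (LocSuppLib.isCoh_of_isFinLocFree hN).1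
  haveI := (LocSuppLib.isCoh_of_isFinLocFree hP).1
  haveI hepi : Epi (eta π N) := CohCmpLib.epi_of_epi_pullbacks (LocSuppLib.isCoh_of_isFinLocFree hP).2 _ fun x => by
    obtain ⟨U, hx, hU⟩ := hcov x
    obtain ⟨W, hW, hxW, hle⟩ := exists_isAffineOpen_mem_and_subset (X := T) (x := x) (U := U) hx
    obtain ⟨c, hc⟩ := hU W hW hle
    obtain ⟨z, hz⟩ : x ∈ Set.range c.i := by
      have h' : x ∈ c.i.opensRange := hc ▸ hxW
      exact h'
    haveI := hq c
    exact ⟨_, c.i, z, hz, inferInstance⟩
  haveI : Mono (eta π N) := by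
    refine Preadditive.mono_of_isZero_kernel _ (isZero_base_of_charts hcov
      (LocSuppLib.isCoh_of_isFinLocFree (ResPropLib.isFinLocFree_kernel (eta π N) hN hP)) fun c => ?_)
    haveI := CohGenLib.preservesFiniteLimits_pullback_flat c.i
    haveI := hq c
    exact IsZero.of_iso (isZero_kernel_of_mono ((Scheme.Modules.pullback c.i).map (eta π N)))
      (PreservesKernel.iso (Scheme.Modules.pullback c.i) (eta π N))
  haveI : IsIso (eta π N) := isIso_of_mono_of_epi _
  exact ⟨asIso (eta π N)⟩

include hcov hL in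
/-- The generators of negative twist have no direct image. -/
theorem isZero_push_gen {N : T.Modules} (hN : FlatMod.IsFinLocFree N) (a : ℤ) (ha : -(n : ℤ) ≤ a) (ha' : a < 0) :
    IsZero ((Scheme.Modules.pushforward π).obj (tw hL a (pb π N))) := by
  have hvb : FlatMod.IsFinLocFree (tw hL a (pb π N)) :=
    vb_tens (vb_inv (Otw_inv hL a)) (KFlatLib.isFinLocFree_pull π hN)
  refine isZero_base_of_charts hcov (LocSuppLib.isCoh_of_isFinLocFree (vb_push hcov hL hvb (QP_gen hcov hL hN a ha)))
    fun c => ?_
  haveI := SeesawLib.isIso_bc0_open c.sq (tw hL a (pb π N))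
  refine IsZero.of_iso ?_ (asIso (CohBC.bc0 π c.i (KRR.pr n (Spec c.R)) c.j c.sq.w (tw hL a (pb π N))))
  exact KRRRegLib.isZero_push_of_V_zero (V_gen hcov hL hN c a 0 0 fun A _ k _ =>
    PnCohLib.subsingleton_HH_twist _ k (fun h => by omega) (fun h => by omega))

end ProjKLib

end
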