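import Groth.Agent.ProjKLib.Models
import Groth.Agent.ProjKLib.Special
import Groth.Agent.ProjKLib.CohK
import Groth.Agent.RegConLib.DetSeq
import Groth.Agent.LambdaSpL.PosStr
import Groth.Agent.LMLib.Dual
import Groth.Agent.CycTopLib.Rank
import Groth.Agent.S3788
import Groth.Prelude.Def_KDet

/-!
# Push-forward of powers of the tautological class of a projective bundle
-/

set_option autoImplicit false
set_option linter.style.haveILetI false
set_option linter.unusedSectionVars false
set_option backward.isDefEq.respectTransparency false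
set_option backward.isDefEq.respectTransparency.types false
set_option maxHeartbeats 1000000

universe u

open CategoryTheory CategoryTheory.Limits AlgebraicGeometry TopologicalSpace
open KFlatLib (pb)
open Groth.Agent.KHeartLib (clSub_add clSub_congr clSub_eq_zero)
open LambdaRing

noncomputable section

namespace ProjKLib

open Groth.Agent KRRRegLib

variable {Y X : Scheme.{u}} [IsNoetherian X] [IsNoetherian Y] {π : X ⟶ Y}
  {E : Y.Modules} {O1 : X.Modules} {q : pb π E ⟶ O1} {n : ℕ} {Om : X.Modules}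
  {KX : Type u} [CommRing KX] [LambdaOps KX] {PX : PosStructure KX} {φX : SGA6.Kvb X →+ KX}
  {KY : Type u} [CommRing KY] [LambdaOps KY] {PY : PosStructure KY} {φY : SGA6.Kvb Y →+ KY}

theorem isPre_of_model {Z : Scheme.{u}} {K : Type u} [CommRing K] [LambdaOps K] {P : PosStructure K}
    {φ : SGA6.Kvb Z →+ K} (h : KRR.IsModel Z K P φ) : IsPre Z φ := ⟨h.bijective, h.map_one, h.map_mul, h.map_lam⟩

section Pow

variable (hX : KRR.IsModel X KX PX φX) (hL : PicF.IsInvertible O1) (hOm : ClSub.IsInverseOf O1 Om)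

include hX hL hOm in
/-- Powers of the inverse of the tautological class. -/
theorem pow_inv_cl : ∀ j : ℕ, φX (KRR.cl X Om) ^ j = φX (KRR.cl X (Otw hL (-(j : ℤ))))
  | 0 => by
    rw [pow_zero, ← hX.map_one]
    exact congrArg φX (clSub_congr (KRR.vbP X) (eqToIso (congrArg _ (by simp)) ≪≫ (nonempty_Otw_zero hL).some).symm)
  | j + 1 => by
    obtain ⟨e⟩ : Nonempty (Om ≅ Otw hL (-1)) := nonempty_inv hL Om ⟨KFlatLib.tensSwap _ _ ≪≫ hOm.some⟩
    rw [pow_succ, pow_inv_cl j, show φX (KRR.cl X Om) = φX (KRR.cl X (Otw hL (-1))) from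
        congrArg φX (clSub_congr (KRR.vbP X) e),
      hX.map_mul _ _ (vb_inv (Otw_inv hL _)) (vb_inv (Otw_inv hL _))]
    refine congrArg φX (clSub_congr (KRR.vbP X) ?_)
    exact (nonempty_Otw_add hL (-(j : ℤ)) (-1)).some ≪≫ eqToIso (congrArg _ (by push_cast; ring))

include hX hOm in
theorem inv_mul_cl (hOmi : PicF.IsInvertible Om) (hL : PicF.IsInvertible O1) :
    φX (KRR.cl X O1) * φX (KRR.cl X Om) = 1 := by
  rw [hX.map_mul _ _ (vb_inv hL) (vb_inv hOmi), ← hX.map_one]
  exact congrArg φX (clSub_congr (KRR.vbP X) hOm.some)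

end Pow

variable (hP : KRR.IsProjBundle π E O1 q) (hE : FlatMod.IsFinLocFreeOfRank (n + 1) E)
  (hOm : ClSub.IsInverseOf O1 Om) (hX : KRR.IsModel X KX PX φX) (hY : KRR.IsModel Y KY PY φY)
  [HasInjectiveResolutions X.Modules] {g : KX →+ KY} (hg : KDet.IsPushF π (Coh.structureModule X) φX φY g)
  {p : KY →+* KX} (hp : KRR.IsPull π φY φX p.toAddMonoidHom)

include hg in
/-- The push-forward of an acyclic bundle. -/
theorem push_cl [IsProper π] [LocallyOfFinitePresentation π] (hcov : Covers π O1 n) (hL : PicF.IsInvertible O1) {F : X.Modules}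
    (hF : FlatMod.IsFinLocFree F) (hq : QP π O1 n F) :
    g (φX (KRR.cl X F)) = φY (KRR.cl Y ((Scheme.Modules.pushforward π).obj F)) := by
  haveI := (VBResLib.isCoh_of_vb hF).1
  have e : CohB1.tensorMod (Coh.structureModule X) F ≅ F := KFlatLib.tensUnitIso F
  have hz : ∀ k : ℕ, 0 < k → IsZero ((Coh.Rpush π k).obj F) := fun k hk => by
    obtain ⟨a⟩ := RpushLib.nonempty_toAb_rpush_iso π F k
    refine RpushLib.isZero_of_isZero_toAb (IsZero.of_iso ?_ a)
    exact isZero_rpushAb_zero hcov hL _ k fun c => hq c 0 k hk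
  refine (hg F hF (fun k hk => IsZero.of_iso (hz k hk) ((Coh.Rpush π k).mapIso e))
    (PerfLib.isFinLocFree_of_iso ((Scheme.Modules.pushforward π).mapIso e).symm (vb_push hcov hL hF hq))).trans ?_
  exact congrArg φY (clSub_congr (KRR.vbP Y) ((Scheme.Modules.pushforward π).mapIso e))

include hP hE hOm hX hY hg hp in
/-- The basic push-forwards. -/
theorem push_pow_mul (j : ℕ) (hj : j ≤ n) (a : KY) :
    g (φX (KRR.cl X Om) ^ j * p a) = if j = 0 then a else 0 := by
  obtain ⟨hprop, hlfp, hcov, -⟩ := bundle_data hP hE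
  haveI := hprop
  have hL := inv_O1 hP
  refine (isPre_of_model hY).induction (motive := fun a => g (φX (KRR.cl X Om) ^ j * p a) = if j = 0 then a else 0)
    (fun N hN => ?_) (by simp) (fun a b ha hb => ?_) (fun a ha => ?_) a
  · have hvb := vb_tens (vb_inv (Otw_inv hL (-(j : ℤ)))) (KFlatLib.isFinLocFree_pull π hN)
    have hq : QP π O1 n (tw hL (-(j : ℤ)) (pb π N)) := QP_gen hcov hL hN _ (by omega)
    have hpv := vb_push hcov hL hvb hq
    rw [show p (φY (KRR.cl Y N)) = _ from hp N hN, pow_inv_cl hX hL hOm j,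
      hX.map_mul _ _ (vb_inv (Otw_inv hL _)) (KFlatLib.isFinLocFree_pull π hN)]
    refine (congrArg g (rfl : φX (KRR.cl X (tw hL (-(j : ℤ)) (pb π N))) = _)).trans ((push_cl hg hcov hL hvb hq).trans ?_)
    rcases Nat.eq_zero_or_pos j with rfl | hpos
    · rw [if_pos rfl]
      refine congrArg φY (clSub_congr (KRR.vbP Y) ((Scheme.Modules.pushforward π).mapIso ?_ ≪≫
        (nonempty_push_pull hcov hL hN).some.symm))
      exact eqToIso (congrArg (fun d => tw hL d (pb π N)) (by simp)) ≪≫ (nonempty_tw_zero hL _).some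
    · rw [if_neg (by omega), ← φY.map_zero]
      exact congrArg φY (clSub_eq_zero (KRR.vbP Y) hpv (isZero_push_gen hcov hL hN _ (by omega) (by omega)))
  · rw [map_add, mul_add, map_add, ha, hb]; split <;> simp
  · rw [map_neg, mul_neg, map_neg, ha]; split <;> simp

include hP hE hOm hX hY hp in
/-- The tautological relation in powers of the inverse class. -/
theorem relation_inv [ConnectedSpace X] [ConnectedSpace Y] (hOmi : PicF.IsInvertible Om) :
    ∑ i ∈ Finset.range (n + 2), (-1 : KX) ^ i * p (LambdaOps.lam i (φY (KRR.cl Y E))) * φX (KRR.cl X Om) ^ i = 0 := by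
  have h := Groth.Agent.S3788.result Y X n E hE π O1 q hP KY PY φY hY KX PX φX hX p.toAddMonoidHom hp
  have h1 := inv_mul_cl hX hOm hOmi (inv_O1 hP)
  have h' := congrArg (fun z => z * φX (KRR.cl X Om) ^ (n + 1)) h
  simp only [zero_mul, Finset.sum_mul] at h'
  refine Eq.trans (Finset.sum_congr rfl fun i hi => ?_) h'
  rw [Finset.mem_range] at hi
  change _ = _ * p (LambdaOps.lam i (φY (KRR.cl Y E))) * _ * _
  conv_rhs => rw [show n + 1 = (n + 1 - i) + i by omega, pow_add, show n + 1 - i + i - i = n + 1 - i by omega]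
  rw [show ∀ a b c d : KX, a * b * c * (d * φX (KRR.cl X Om) ^ i) = a * b * φX (KRR.cl X Om) ^ i * (c * d) from
    fun a b c d => by ring, ← mul_pow, h1, one_pow, mul_one]

include hP hE hOm hX hY hg hp in
/-- The push-forward of the first power out of range. -/
theorem push_pow_top [ConnectedSpace X] [ConnectedSpace Y] (hOmi : PicF.IsInvertible Om) {D D' : Y.Modules}
    (hD : ExtPow.IsExtPow (n + 1) E D) (hDi : PicF.IsInvertible D) (hD'i : PicF.IsInvertible D')
    (hDD' : ClSub.IsInverseOf D D') :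
    g (φX (KRR.cl X Om) ^ (n + 1)) = (-1 : ℤ) ^ n • φY (KRR.cl Y D') := by
  have hd : LambdaOps.lam (n + 1) (φY (KRR.cl Y E)) * φY (KRR.cl Y D') = 1 := by
    rw [hY.map_lam (n + 1) E D (VBResLib.vb_of_rank hE) (vb_inv hDi) hD, hY.map_mul _ _ (vb_inv hDi) (vb_inv hD'i),
      ← hY.map_one]
    exact congrArg φY (clSub_congr (KRR.vbP Y) hDD'.some)
  have h := relation_inv hP hE hOm hX hY hp hOmi
  have h' := congrArg (fun z => g (z * p (φY (KRR.cl Y D')))) h
  simp only [zero_mul, map_zero, Finset.sum_mul, map_sum] at h'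
  have e : ∀ i : ℕ, g ((-1 : KX) ^ i * p (LambdaOps.lam i (φY (KRR.cl Y E))) * φX (KRR.cl X Om) ^ i *
      p (φY (KRR.cl Y D'))) =
      (-1 : ℤ) ^ i • g (φX (KRR.cl X Om) ^ i * p (LambdaOps.lam i (φY (KRR.cl Y E)) * φY (KRR.cl Y D'))) := fun i => by
    rw [← map_zsmul g, map_mul p, zsmul_eq_mul, Int.cast_pow, Int.cast_neg, Int.cast_one]
    exact congrArg g (by ring)
  simp only [e] at h'
  rw [Finset.sum_range_succ, Finset.sum_range_succ', hd, map_one, mul_one] at h'
  rw [Finset.sum_eq_zero (fun i hi => by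
      rw [push_pow_mul hP hE hOm hX hY hg hp (i + 1) (by rw [Finset.mem_range] at hi; omega), if_neg (by omega),
        smul_zero]), push_pow_mul hP hE hOm hX hY hg hp 0 (Nat.zero_le _), if_pos rfl, LambdaOps.lam_zero,
    one_mul, zero_add, pow_zero, one_smul] at h'
  rw [pow_succ, mul_neg_one, neg_zsmul, ← sub_eq_add_neg, sub_eq_zero] at h'
  rw [h', smul_smul, ← mul_pow, neg_one_mul, neg_neg, one_pow, one_smul]

include hP hE hOm hX hY hg hp in
/-- **Powers of `1 - [O(-1)]`.** -/
theorem push_delta [ConnectedSpace X] [ConnectedSpace Y] (hOmi : PicF.IsInvertible Om) {D D' : Y.Modules}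
    (hD : ExtPow.IsExtPow (n + 1) E D) (hDi : PicF.IsInvertible D) (hD'i : PicF.IsInvertible D')
    (hDD' : ClSub.IsInverseOf D D') :
    (∀ l : ℕ, l < n + 1 → g ((1 - φX (KRR.cl X Om)) ^ l) = 1) ∧
      g ((1 - φX (KRR.cl X Om)) ^ (n + 1)) = 1 - φY (KRR.cl Y D') := by
  have hterm : ∀ l i : ℕ, g ((-φX (KRR.cl X Om)) ^ i * (1 : KX) ^ (l - i) * (l.choose i : KX)) =
      ((-1 : ℤ) ^ i * (l.choose i : ℤ)) • g (φX (KRR.cl X Om) ^ i) := fun l i => by
    rw [← map_zsmul g, zsmul_eq_mul, Int.cast_mul, Int.cast_pow, Int.cast_neg, Int.cast_one, Int.cast_natCast,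
      one_pow, mul_one, neg_pow]
    exact congrArg g (by ring)
  have h0 : g (1 : KX) = 1 := by
    have := push_pow_mul hP hE hOm hX hY hg hp 0 (Nat.zero_le _) 1
    rwa [pow_zero, one_mul, map_one, if_pos rfl] at this
  have hmid : ∀ i, 1 ≤ i → i ≤ n → g (φX (KRR.cl X Om) ^ i) = 0 := fun i h₁ h₂ => by
    have := push_pow_mul hP hE hOm hX hY hg hp i h₂ 1
    rwa [map_one, mul_one, if_neg (by omega)] at this
  have key : ∀ l i : ℕ, i ≤ n → g ((-φX (KRR.cl X Om)) ^ (i) * (1 : KX) ^ (l - i) * (l.choose i : KX)) =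
      if i = 0 then 1 else 0 := fun l i hi => by
    rw [hterm]
    rcases Nat.eq_zero_or_pos i with rfl | h
    · simp [h0]
    · rw [hmid i h hi, smul_zero, if_neg (by omega)]
  refine ⟨fun l hl => ?_, ?_⟩
  · rw [sub_eq_neg_add, add_pow, map_sum, Finset.sum_congr rfl (fun i hi => key l i (by
      rw [Finset.mem_range] at hi; omega))]
    simp
  · rw [sub_eq_neg_add, add_pow, map_sum, Finset.sum_range_succ, Finset.sum_congr rfl (fun i hi => key (n + 1) i (by
      rw [Finset.mem_range] at hi; omega)), hterm, push_pow_top hP hE hOm hX hY hg hp hOmi hD hDi hD'i hDD',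
      smul_smul, Nat.choose_self, Nat.cast_one, mul_one, pow_succ, mul_comm _ (-1 : ℤ), mul_assoc, ← mul_pow]
    simp [sub_eq_add_neg]

include hP hE hOm hX hY hg hp in
/-- **The projection formula.** -/
theorem push_pull_mul [ConnectedSpace X] [ConnectedSpace Y] (hOmi : PicF.IsInvertible Om) (a : KY) (z : KX) :
    g (z * p a) = g z * a := by
  obtain ⟨c, hc⟩ := (bijective_model hE hP hY hX p.toAddMonoidHom hp).2 (z * φX (KRR.cl X O1) ^ n)
  have h1 := inv_mul_cl hX hOm hOmi (inv_O1 hP)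
  have hz : z = ∑ i : Fin (n + 1), φX (KRR.cl X Om) ^ (n - (i : ℕ)) * p (c i) := by
    have h' := congrArg (· * φX (KRR.cl X Om) ^ n) hc
    simp only [Finset.sum_mul, mul_assoc, ← mul_pow, h1, one_pow, mul_one] at h'
    refine h'.symm.trans (Finset.sum_congr rfl fun i _ => ?_)
    change p (c i) * _ = _
    rw [show φX (KRR.cl X Om) ^ n = φX (KRR.cl X Om) ^ ((i : ℕ) + (n - (i : ℕ))) from congrArg _ (by omega),
      pow_add, ← mul_assoc (φX (KRR.cl X O1) ^ (i : ℕ)), ← mul_pow, h1, one_pow, one_mul, mul_comm]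
  rw [hz]
  simp only [Finset.sum_mul, map_sum, mul_assoc, ← map_mul p]
  exact Finset.sum_congr rfl fun i _ => by
    rw [push_pow_mul hP hE hOm hX hY hg hp _ (by omega), push_pow_mul hP hE hOm hX hY hg hp _ (by omega)]
    split <;> simp

include hP hE hX hY hp in
/-- The class of the dual bundle minus `[O(-1)]` has no high exterior powers. -/
theorem lam_dual_kernel [ConnectedSpace X] [ConnectedSpace Y] (hOmi : PicF.IsInvertible Om)
    (hOm : ClSub.IsInverseOf O1 Om) (i : ℕ) (hi : n < i) :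
    LambdaOps.lam i (p (φY (KRR.cl Y (RefHull.dual E))) - φX (KRR.cl X Om)) = 0 := by
  haveI := hP.epi
  have hL := inv_O1 hP
  have hEv := VBResLib.vb_of_rank hE
  have hpE := KFlatLib.isFinLocFree_pull π hEv
  have hrK := rank_kernel q (SeesawLib.isFinLocFreeOfRank_pullback π hE) hP.invertible
  have hKv := VBResLib.vb_of_rank hrK
  let S : ShortComplex X.Modules := ShortComplex.mk (kernel.ι q) q (kernel.condition q)
  have hS : S.ShortExact := { exact := ShortComplex.exact_kernel q }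
  obtain ⟨w, hT⟩ := ChernOpLib.shortExact_du (S := S) hS hP.invertible hKv hpE (vb_inv hL)
  obtain ⟨hdi, hev⟩ := ChernOpLib.exists_du_inv hL
  haveI := hev
  obtain ⟨eO⟩ : Nonempty (ChernOpLib.du O1 ≅ Om) := CubeConsLib.cl_eq_iff.1 (by
    obtain ⟨d, hd⟩ := CubeConsLib.exists_inverse hL
    have a1 : CubeConsLib.cl O1 * CubeConsLib.cl (ChernOpLib.du O1) = 1 := by
      rw [← CubeConsLib.cl_tensor]
      exact CubeConsLib.cl_eq_one_iff.2 ⟨asIso (CohCmpLib.evMod O1 (Coh.structureModule X))⟩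
    have a2 : CubeConsLib.cl O1 * CubeConsLib.cl Om = 1 := by
      rw [← CubeConsLib.cl_tensor]
      exact CubeConsLib.cl_eq_one_iff.2 hOm
    calc CubeConsLib.cl (ChernOpLib.du O1) = CubeConsLib.cl O1 * CubeConsLib.cl Om * CubeConsLib.cl (ChernOpLib.du O1) := by
          rw [a2, one_mul]
      _ = CubeConsLib.cl O1 * CubeConsLib.cl (ChernOpLib.du O1) * CubeConsLib.cl Om := by
          rw [mul_assoc, mul_comm (CubeConsLib.cl Om), ← mul_assoc]
      _ = CubeConsLib.cl Om := by rw [a1, one_mul])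
  obtain ⟨eE⟩ : Nonempty (ChernOpLib.du (pb π E) ≅ pb π (RefHull.dual E)) := by
    have h1 := ChernOpLib.homEv_comp_iso (CohCmpLib.homEv_pullback π hEv (CohCmpLib.homEv_evMod (P := Coh.structureModule Y) hEv))
      (KFlatLib.pullUnitIso π)
    have h2 : IsIso (CohCmpLib.curryMod (CohCmpLib.pullEv π (CohCmpLib.evMod E (Coh.structureModule Y)) ≫
        (KFlatLib.pullUnitIso π).hom)) :=
      CohCmpLib.isIso_of_homEv _ (CohCmpLib.curryMod_comp _) h1 (CohCmpLib.homEv_evMod hpE)
    exact ⟨(@asIso _ _ _ _ _ h2).symm ≪≫ (Scheme.Modules.pullback π).mapIso (LMLib.homShIso E _).symm⟩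
  have hdK : FlatMod.IsFinLocFreeOfRank n (ChernOpLib.du (kernel q)) := CycTopLib.rank_du hrK
  have hdE : FlatMod.IsFinLocFree (RefHull.dual E) :=
    PerfLib.isFinLocFree_of_iso (LMLib.homShIso E _).symm (CohCmpLib.isFinLocFree_homMod hEv
      (CurveVBLib.isFinLocFree_of_rank (CohCmpLib.rank_one_structureModule Y)))
  have hsum : φX (KRR.cl X (pb π (RefHull.dual E))) = φX (KRR.cl X Om) + φX (KRR.cl X (ChernOpLib.du (kernel q))) := by
    rw [← map_add]
    refine congrArg φX ((clSub_congr (KRR.vbP X) eE.symm).trans ?_)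
    rw [clSub_add (KRR.vbP X) _ hT (vb_inv hdi) (PerfLib.isFinLocFree_of_iso eE.symm (KFlatLib.isFinLocFree_pull π hdE))
      (VBResLib.vb_of_rank hdK)]
    exact congrArg (· + _) (clSub_congr (KRR.vbP X) eO)
  rw [show p (φY (KRR.cl Y (RefHull.dual E))) = _ from hp _ hdE, hsum, add_sub_cancel_left]
  rcases Nat.eq_zero_or_pos n with rfl | hn
  · have hz : IsZero (ChernOpLib.du (kernel q)) := by
      refine (KFlatLib.isZero_iff_forall_stalk _).2 fun x => ?_
      obtain ⟨e⟩ := CurvLib.nonempty_stalk_pi_of_locFree hdK x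
      exact ModuleCat.isZero_iff_subsingleton.2 e.toEquiv.subsingleton
    rw [show KRR.cl X (ChernOpLib.du (kernel q)) = 0 from clSub_eq_zero (KRR.vbP X) (VBResLib.vb_of_rank hdK) hz,
      map_zero]
    exact LambdaSpLib.lam_zero_arg i (by omega)
  · exact PX.lam_eq_zero _ ((hX.mem_pos_iff _).2 ⟨n, _, hn, hdK, rfl⟩) i (by rw [hX.aug_cl n _ hdK]; omega)

include hP hE hOm hX hY hg hp in
/-- **The Segre relation.** -/
theorem push_segre [ConnectedSpace X] [ConnectedSpace Y] (hOmi : PicF.IsInvertible Om) (j : ℕ) :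
    ∑ k ∈ Finset.range (n + 2), gamma (n + 1 - k) (φY (KRR.cl Y (RefHull.dual E)) - ((n + 1 : ℕ) : KY)) *
      g ((1 - φX (KRR.cl X Om)) ^ (j + k)) = 0 := by
  have hlam : ∀ (m : ℕ) (y : KY), p (LambdaOps.lam m y) = LambdaOps.lam m (p y) := by
    obtain ⟨p', hp', hl⟩ := exists_preHom π (isPre_of_model hX) (isPre_of_model hY)
    have e : ∀ y, p y = p' y := fun y =>
      (isPre_of_model hY).induction (motive := fun y => p y = p' y)
        (fun F hF => (hp F hF).trans (hp' F hF).symm) (by simp) (fun a b ha hb => by rw [map_add, map_add, ha, hb])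
        (fun a ha => by rw [map_neg, map_neg, ha]) y
    intro m y
    rw [e, e, hl]
  have hgam : ∀ (m : ℕ) (y : KY), p (gamma m y) = gamma m (p y) := fun m y => by
    rcases Nat.eq_zero_or_pos m with rfl | hm
    · simp [gamma]
    · simp only [gamma, if_neg (show m ≠ 0 by omega), map_sum, map_mul, map_natCast]
      exact Finset.sum_congr rfl fun t _ => by split <;> simp [hlam]
  have h1 : ∀ k : ℕ, 2 ≤ k → LambdaOps.lam k (1 : KX) = 0 := fun k hk => LambdaSpLib.lam_one_arg PX k hk
  let c' := p (φY (KRR.cl Y (RefHull.dual E))) - φX (KRR.cl X Om)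
  let x := φX (KRR.cl X Om)
  have hx : ∀ t : ℕ, 1 < t → LambdaOps.lam t x = 0 := fun t ht =>
    PX.lam_eq_zero _ ((hX.mem_pos_iff _).2 ⟨1, Om, le_rfl, (CohCmpLib.invertible_iff_rank_one Om).1 hOmi, rfl⟩) t
      (by rw [hX.aug_cl 1 _ ((CohCmpLib.invertible_iff_rank_one Om).1 hOmi)]; omega)
  have hgx : ∀ t : ℕ, 1 < t → gamma t (x - 1) = 0 := fun t ht => by
    simpa using LambdaSpLib.gamma_sub_rank_eq_zero h1 (d := 1) hx ht
  have hA : gamma (n + 1) (c' - (n : KX)) = 0 :=
    LambdaSpLib.gamma_sub_rank_eq_zero h1 (lam_dual_kernel hP hE hX hY hp hOmi hOm) (Nat.lt_succ_self n)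
  have hstep : ∀ m : ℕ, gamma (m + 1) (c' - (n : KX) + (x - 1)) =
      gamma m (c' - (n : KX)) * (x - 1) + gamma (m + 1) (c' - (n : KX)) := fun m => by
    rw [LambdaSpLib.gamma_add, Finset.sum_range_succ, Finset.sum_range_succ, Finset.sum_eq_zero fun t ht => by
      rw [hgx _ (by rw [Finset.mem_range] at ht; omega), mul_zero]]
    rw [zero_add, show m + 1 - m = 1 by omega, Nat.sub_self, LambdaSpLib.gamma_one, LambdaSpLib.gamma_zero, mul_one]
  have key : ∀ m : ℕ, ∑ k ∈ Finset.range (m + 1), gamma (m - k) (c' - (n : KX) + (x - 1)) * (1 - x) ^ k =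
      gamma m (c' - (n : KX)) := by
    intro m
    induction m with
    | zero => simp [gamma]
    | succ m ih =>
      rw [Finset.sum_range_succ', pow_zero, mul_one, Nat.sub_zero, hstep]
      simp only [Nat.succ_sub_succ_eq_sub, pow_succ, ← mul_assoc, ← Finset.sum_mul, ih]
      ring
  have hsum : ∑ k ∈ Finset.range (n + 2),
      p (gamma (n + 1 - k) (φY (KRR.cl Y (RefHull.dual E)) - ((n + 1 : ℕ) : KY))) * (1 - x) ^ k = 0 := by
    rw [← hA, ← key (n + 1)]
    refine Finset.sum_congr rfl fun k _ => ?_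
    rw [hgam, map_sub, map_natCast]
    congr 2
    simp only [c', x]
    push_cast
    ring
  have h := congrArg (fun z => g (z * (1 - x) ^ j)) hsum
  simp only [zero_mul, map_zero, Finset.sum_mul, map_sum] at h
  refine Eq.trans (Finset.sum_congr rfl fun k _ => ?_) h
  rw [show ∀ a : KX, a * (1 - x) ^ k * (1 - x) ^ j = (1 - x) ^ (j + k) * a from fun a => by rw [pow_add]; ring,
    push_pull_mul hP hE hOm hX hY hg hp hOmi, mul_comm]

end ProjKLib

end
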