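import Groth.Agent.ProjKLib.K
import Groth.Agent.ResPropLib.Resolve
import Groth.Agent.CycTopLib.Rank
import Groth.Agent.NefCurveLib.RankAdd
import Groth.Agent.HopfIneqLib.Sections
import Groth.Agent.GrassLib.SchExtPow
import Groth.Agent.ExtPowLib.Pullback
import Groth.Agent.ExtPowLib.Sheaf
import Groth.Agent.EulerPnLib.NullExist

/-!
# Modules of rank at most one and completion to constant rank
-/

set_option autoImplicit false
set_option linter.style.haveILetI false
set_option linter.unusedSectionVars false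
set_option backward.isDefEq.respectTransparency false
set_option backward.isDefEq.respectTransparency.types false
set_option maxHeartbeats 1000000

universe u

open CategoryTheory CategoryTheory.Limits AlgebraicGeometry TopologicalSpace
open KFlatLib (pb)
open SeesawLib (RankSet rankSet_unique exists_mem_rankSet mem_rankSet_pullback_iff rankSet_of_iso rankSet_of_rank)

noncomputable section

namespace ProjKLib

open Groth.Agent

variable {X : Scheme.{u}}

/-- Ranks everywhere give a rank. -/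
theorem rank_of_rankSet {M : X.Modules} {n : ℕ} (h : ∀ x, x ∈ RankSet M n) : FlatMod.IsFinLocFreeOfRank n M :=
  CycTopLib.rank_of_frames fun x => h x

/-- The rank on the open set where it is constant. -/
theorem rank_pb_open {M : X.Modules} (hM : FlatMod.IsFinLocFree M) {n : ℕ} (U : X.Opens)
    (hU : ∀ x ∈ U, x ∈ RankSet M n) : FlatMod.IsFinLocFreeOfRank n (pb U.ι M) :=
  rank_of_rankSet fun z => (mem_rankSet_pullback_iff hM U.ι z n).2 (hU (U.ι z) z.2)

theorem rankSet_biprod {A B : X.Modules} (hA : FlatMod.IsFinLocFree A) (hB : FlatMod.IsFinLocFree B)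
    {x : X} {a b : ℕ} (ha : x ∈ RankSet A a) (hb : x ∈ RankSet B b) : x ∈ RankSet (A ⊞ B) (a + b) := by
  have hAB : FlatMod.IsFinLocFree (A ⊞ B) := PerfLib.isFinLocFree_biprod hA hB
  obtain ⟨c, hc⟩ := exists_mem_rankSet hAB x
  let U : X.Opens := ⟨RankSet A a ∩ RankSet B b ∩ RankSet (A ⊞ B) c,
    ((SeesawLib.isOpen_rankSet A a).inter (SeesawLib.isOpen_rankSet B b)).inter (SeesawLib.isOpen_rankSet _ c)⟩
  let F := Scheme.Modules.pullback U.ι
  haveI : F.IsLeftAdjoint := (Scheme.Modules.pullbackPushforwardAdjunction U.ι).isLeftAdjoint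
  haveI := preservesBinaryBiproducts_of_preservesBinaryCoproducts F
  let S := ShortComplex.mk (biprod.inl : pb U.ι A ⟶ pb U.ι A ⊞ pb U.ι B) biprod.snd (by simp)
  have hS : S.ShortExact := (ShortComplex.Splitting.ofHasBinaryBiproduct _ _).shortExact
  have h := NefCurveLib.rank_add (S := S) hS (rank_pb_open hA U fun z hz => hz.1.1)
    (EulerPnLib.rank_of_iso (rank_pb_open hAB U fun z hz => hz.2) (F.mapBiprod A B))
    (rank_pb_open hB U fun z hz => hz.1.2) ⟨x, ⟨ha, hb⟩, hc⟩
  exact h ▸ hc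

theorem rankSet_tensor {A B : X.Modules} (hA : FlatMod.IsFinLocFree A) (hB : FlatMod.IsFinLocFree B)
    {x : X} {a b : ℕ} (ha : x ∈ RankSet A a) (hb : x ∈ RankSet B b) :
    x ∈ RankSet (CohB1.tensorMod A B) (a * b) := by
  let U : X.Opens := ⟨RankSet A a ∩ RankSet B b, (SeesawLib.isOpen_rankSet A a).inter (SeesawLib.isOpen_rankSet B b)⟩
  have h := EulerPnLib.rank_of_iso
    (HopfIneqLib.locFree_tensor (rank_pb_open hA U fun z hz => hz.1) (rank_pb_open hB U fun z hz => hz.2))
    (@asIso _ _ _ _ (KFlatLib.pullθ U.ι A B) (KFlatLib.isIso_pullθ _ _ _)).symm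
  exact (mem_rankSet_pullback_iff (vb_tens hA hB) U.ι ⟨x, ha, hb⟩ _).1 (rankSet_of_rank h _)

theorem rankSet_extPow {A L : X.Modules} (hA : FlatMod.IsFinLocFree A) (hL : FlatMod.IsFinLocFree L) {i : ℕ}
    (hLx : ExtPow.IsExtPow i A L) {x : X} {a : ℕ} (ha : x ∈ RankSet A a) : x ∈ RankSet L (a.choose i) := by
  haveI : Coh.IsQCoh A := FinLFAnn.isQCoh_of_isFinLocFree hA
  let U : X.Opens := ⟨RankSet A a, SeesawLib.isOpen_rankSet A a⟩
  have h := GrassSch.rank_extPow (rank_pb_open hA U fun z hz => hz) (ExtPowLib.isExtPow_pullback U.ι hLx)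
  exact (mem_rankSet_pullback_iff hL U.ι ⟨x, ha⟩ _).1 (rankSet_of_rank h _)

/-- Bundles of rank at most one. -/
def Le1 (L : X.Modules) : Prop := FlatMod.IsFinLocFree L ∧ ∀ (x : X) (n : ℕ), x ∈ RankSet L n → n ≤ 1

theorem le1_of_rank {L : X.Modules} (h : FlatMod.IsFinLocFreeOfRank 1 L) : Le1 L :=
  ⟨SeesawLib.isFinLocFree_of_rank h, fun x _ hn => (rankSet_unique hn (rankSet_of_rank h x)).le⟩

theorem Le1.tensor {A B : X.Modules} (hA : Le1 A) (hB : Le1 B) : Le1 (CohB1.tensorMod A B) := by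
  refine ⟨vb_tens hA.1 hB.1, fun x n hn => ?_⟩
  obtain ⟨a, ha⟩ := exists_mem_rankSet hA.1 x
  obtain ⟨b, hb⟩ := exists_mem_rankSet hB.1 x
  rw [rankSet_unique hn (rankSet_tensor hA.1 hB.1 ha hb)]
  have h1 := hA.2 x a ha
  have h2 := hB.2 x b hb
  calc a * b ≤ 1 * 1 := Nat.mul_le_mul h1 h2
    _ = 1 := rfl

theorem Le1.pull {Y : Scheme.{u}} (f : Y ⟶ X) {A : X.Modules} (hA : Le1 A) : Le1 (pb f A) :=
  ⟨KFlatLib.isFinLocFree_pull f hA.1, fun y n hn => hA.2 (f y) n ((mem_rankSet_pullback_iff hA.1 f y n).1 hn)⟩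

/-- Higher exterior powers of a module of rank at most one vanish. -/
theorem Le1.isZero_extPow {A L : X.Modules} (hA : Le1 A) (hL : FlatMod.IsFinLocFree L) {i : ℕ} (hi : 2 ≤ i)
    (hLx : ExtPow.IsExtPow i A L) : IsZero L := by
  refine ProjBunLib.isZero_of_rank_zero (rank_of_rankSet fun x => ?_)
  obtain ⟨a, ha⟩ := exists_mem_rankSet hA.1 x
  have h := rankSet_extPow hA.1 hL hLx ha
  have h1 := hA.2 x a ha
  rwa [Nat.choose_eq_zero_of_lt (by omega)] at h

/-- The subgroup of combinations of classes of bundles of rank at most one. -/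
def Comb (X : Scheme.{u}) : AddSubgroup (SGA6.Kvb X) :=
  AddSubgroup.closure {z | ∃ L, Le1 L ∧ KRR.cl X L = z}

theorem cl_mem_comb {L : X.Modules} (h : Le1 L) : KRR.cl X L ∈ Comb X :=
  AddSubgroup.subset_closure ⟨L, h, rfl⟩

/-- The structure sheaf of a clopen piece. -/
def piece (W : X.Opens) : X.Modules :=
  (Scheme.Modules.pushforward W.ι).obj (Coh.structureModule (W : Scheme.{u}))

theorem piece_spec (W : X.Opens) (hW : IsClosed (W : Set X)) :
    FlatMod.IsFinLocFree (piece W) ∧ (∀ x ∈ W, x ∈ RankSet (piece W) 1) ∧ ∀ x, x ∉ W → x ∈ RankSet (piece W) 0 := by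
  let W' : X.Opens := ⟨(W : Set X)ᶜ, hW.isOpen_compl⟩
  let e₁ : (piece W).restrict W.ι ≅ Coh.structureModule (W : Scheme.{u}) :=
    asIso ((Scheme.Modules.restrictAdjunction W.ι).counit.app _)
  have e₂ : IsZero ((piece W).restrict W'.ι) := by
    rw [IsZero.iff_id_eq_zero]
    refine Scheme.Modules.hom_ext _ _ fun V => ?_
    ext s
    have hbot : W.ι ⁻¹ᵁ (W'.ι ''ᵁ V) = ⊥ := by
      refine eq_bot_iff.2 fun z hz => ?_
      obtain ⟨v, -, hv⟩ := hz
      exact absurd z.2 (hv ▸ v.2 : W.ι z ∈ W')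
    haveI : Subsingleton Γ((piece W).restrict W'.ι, V) :=
      MiscFlat6.subsingleton_bot (Coh.structureModule (W : Scheme.{u})) hbot
    exact Subsingleton.elim _ _
  have hvb : FlatMod.IsFinLocFree (piece W) := ResPropLib.isFinLocFree_of_local_res fun x => by
    by_cases hx : x ∈ W
    · exact ⟨_, W.ι, inferInstance, ⟨x, hx⟩, rfl, PerfLib.isFinLocFree_of_iso e₁.symm
        (CurveVBLib.isFinLocFree_of_rank (CohCmpLib.rank_one_structureModule _))⟩
    · exact ⟨_, W'.ι, inferInstance, ⟨x, hx⟩, rfl, vb_of_isZero' e₂⟩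
  refine ⟨hvb, fun x hx => ?_, fun x hx => ?_⟩
  · refine (mem_rankSet_pullback_iff hvb W.ι ⟨x, hx⟩ 1).1 (rankSet_of_iso
      (e₁.symm ≪≫ (Scheme.Modules.restrictFunctorIsoPullback W.ι).app _)
      (rankSet_of_rank (CohCmpLib.rank_one_structureModule _) _))
  · have hz : IsZero (pb W'.ι (piece W)) :=
      e₂.of_iso ((Scheme.Modules.restrictFunctorIsoPullback W'.ι).app _).symm
    obtain ⟨c, hc⟩ := exists_mem_rankSet (KFlatLib.isFinLocFree_pull W'.ι hvb) (⟨x, hx⟩ : W')
    have hzero : FlatMod.IsFinLocFreeOfRank 0 (pb W'.ι (piece W)) :=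
      EulerPnLib.rank_of_iso (EulerPnLib.rank_freeMod (X := (W' : Scheme.{u})) 0)
        (IsZero.iso ((IsZero.iff_id_eq_zero _).2 (Sigma.hom_ext _ _ fun j => j.elim0)) hz)
    exact (mem_rankSet_pullback_iff hvb W'.ι ⟨x, hx⟩ 0).1 (rankSet_of_rank hzero _)

theorem le1_piece (W : X.Opens) (hW : IsClosed (W : Set X)) : Le1 (piece W) := by
  obtain ⟨hvb, h1, h0⟩ := piece_spec W hW
  refine ⟨hvb, fun x n hn => ?_⟩
  by_cases hx : x ∈ W
  · exact (rankSet_unique hn (h1 x hx)).le
  · exact (rankSet_unique hn (h0 x hx)).le.trans zero_le_one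

/-- Ranks are bounded on a quasi-compact scheme. -/
theorem exists_rank_bound [CompactSpace X] {E : X.Modules} (hE : FlatMod.IsFinLocFree E) :
    ∃ N : ℕ, ∀ (x : X) (n : ℕ), x ∈ RankSet E n → n ≤ N := by
  obtain ⟨s, hs⟩ := isCompact_univ.elim_finite_subcover (fun n => RankSet E n)
    (fun n => SeesawLib.isOpen_rankSet E n) fun x _ => Set.mem_iUnion.2 (exists_mem_rankSet hE x)
  refine ⟨s.sum id, fun x n hn => ?_⟩
  obtain ⟨m, hm, hxm⟩ := Set.mem_iUnion₂.1 (hs (Set.mem_univ x))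
  exact (rankSet_unique hn hxm).le.trans (Finset.single_le_sum (f := id) (fun _ _ => Nat.zero_le _) hm)

/-- A bundle becomes one of constant rank after adding combinations of rank at most one. -/
theorem exists_constant_rank [CompactSpace X] {E : X.Modules} (hE : FlatMod.IsFinLocFree E) :
    ∃ (N : ℕ) (E' : X.Modules), FlatMod.IsFinLocFreeOfRank (N + 1) E' ∧
      KRR.cl X E' - KRR.cl X E ∈ Comb X := by
  obtain ⟨N, hN⟩ := exists_rank_bound hE
  suffices h : ∀ (k : ℕ) (G : X.Modules), FlatMod.IsFinLocFree G →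
      (∀ (x : X) (n : ℕ), x ∈ RankSet G n → n ≤ N + 1 ∧ N + 1 ≤ n + k) →
      ∃ E' : X.Modules, FlatMod.IsFinLocFreeOfRank (N + 1) E' ∧ KRR.cl X E' - KRR.cl X G ∈ Comb X by
    obtain ⟨E', h1, h2⟩ := h (N + 1) E hE fun x n hn => ⟨(hN x n hn).trans (Nat.le_succ N), Nat.le_add_left _ _⟩
    exact ⟨N, E', h1, h2⟩
  intro k
  induction k with
  | zero =>
    intro G hG h
    refine ⟨G, rank_of_rankSet fun x => ?_, by rw [sub_self]; exact zero_mem _⟩
    obtain ⟨n, hn⟩ := exists_mem_rankSet hG x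
    obtain ⟨h1, h2⟩ := h x n hn
    rwa [show N + 1 = n by omega]
  | succ k ih =>
    intro G hG h
    let W : X.Opens := ⟨⋃ n ∈ {n : ℕ | n < N + 1}, RankSet G n,
      isOpen_biUnion fun n _ => SeesawLib.isOpen_rankSet G n⟩
    have hW : IsClosed (W : Set X) := by
      rw [← isOpen_compl_iff]
      convert SeesawLib.isOpen_rankSet G (N + 1) using 1
      ext x
      simp only [W, Opens.coe_mk, Set.mem_compl_iff, Set.mem_iUnion, Set.mem_setOf_eq, not_exists]
      obtain ⟨n, hn⟩ := exists_mem_rankSet hG x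
      constructor
      · intro hx
        have h1 := (h x n hn).1
        rcases Nat.lt_or_ge n (N + 1) with h' | h'
        · exact absurd hn (hx n h')
        · rwa [show N + 1 = n by omega]
      · intro hx m hm hmx
        exact absurd (rankSet_unique hx hmx) (by omega)
    obtain ⟨hvb, h1, h0⟩ := piece_spec W hW
    obtain ⟨E', hE', hc⟩ := ih (G ⊞ piece W) (PerfLib.isFinLocFree_biprod hG hvb) fun x n hn => by
      obtain ⟨a, ha⟩ := exists_mem_rankSet hG x
      obtain ⟨h2, h3⟩ := h x a ha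
      by_cases hx : x ∈ W
      · have e := rankSet_unique hn (rankSet_biprod hG hvb ha (h1 x hx))
        obtain ⟨b, hb, hbx⟩ := Set.mem_iUnion₂.1 (show x ∈ (⋃ n ∈ {n : ℕ | n < N + 1}, RankSet G n) from hx)
        have := rankSet_unique ha hbx
        have hb' : b < N + 1 := hb
        omega
      · have e := rankSet_unique hn (rankSet_biprod hG hvb ha (h0 x hx))
        have : ¬ a < N + 1 := fun h' => hx (Set.mem_iUnion₂.2 ⟨a, h', ha⟩ : x ∈ W)
        omega
    refine ⟨E', hE', ?_⟩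
    have e : KRR.cl X (G ⊞ piece W) = KRR.cl X G + KRR.cl X (piece W) :=
      KHeartLib.clSub_add (KRR.vbP X) (ShortComplex.mk (biprod.inl : G ⟶ G ⊞ piece W) biprod.snd (by simp))
        (ShortComplex.Splitting.ofHasBinaryBiproduct _ _).shortExact hG (PerfLib.isFinLocFree_biprod hG hvb) hvb
    have := add_mem hc (cl_mem_comb (le1_piece W hW))
    rw [e] at this
    convert this using 1
    abel

end ProjKLib

end
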