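import Groth.Agent.ProjKLib.Counit
import Groth.Agent.KRRRegLib.PullLow
import Groth.Agent.ChernOpLib.Dual
import Groth.Agent.CycTopLib.Rank
import Groth.Agent.ProjFormLib.Proj

/-!
# Twists by bundles of the base and the sequence lowering regularity
-/

set_option autoImplicit false
set_option linter.style.haveILetI false
set_option linter.unusedSectionVars false
set_option backward.isDefEq.respectTransparency false
set_option backward.isDefEq.respectTransparency.types false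
set_option maxHeartbeats 1000000

universe u

open CategoryTheory CategoryTheory.Limits AlgebraicGeometry TopologicalSpace
open KFlatLib (pb tens)
open KRRRegLib (V)
open ProjFormLib (tF shortExact_tens)

noncomputable section

namespace ProjKLib

open Groth.Agent

variable {T P : Scheme.{u}} {π : P ⟶ T} {O1 : P.Modules} {n : ℕ}

/-- A chart over which a module of the base is free. -/
theorem exists_chart_free (hcov : Covers π O1 n) (D : T.Modules) {U : T.Opens} {m : ℕ}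
    (φ : D.restrict U.ι ≅ FlatMod.freeMod (U : Scheme.{u}) m) {x : T} (hxU : x ∈ U) :
    ∃ c : Chart π O1 n, x ∈ c.i.opensRange ∧ Nonempty (pb c.i D ≅ FlatMod.freeMod (Spec c.R) m) := by
  obtain ⟨U₁, hx₁, hU₁⟩ := hcov x
  obtain ⟨W, hW, hxW, hle⟩ := exists_isAffineOpen_mem_and_subset (X := T) (x := x) (U := U₁ ⊓ U) ⟨hx₁, hxU⟩
  obtain ⟨c, hc⟩ := hU₁ W hW fun z hz => (hle hz).1
  have hr : Set.range c.i ⊆ Set.range U.ι := by
    rw [← Scheme.Hom.coe_opensRange, ← Scheme.Hom.coe_opensRange, hc, Scheme.Opens.opensRange_ι]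
    exact fun z hz => (hle hz).2
  let l := IsOpenImmersion.lift U.ι c.i hr
  have hl : l ≫ U.ι = c.i := IsOpenImmersion.lift_fac _ _ _
  refine ⟨c, hc ▸ hxW, ⟨((Scheme.Modules.pullbackCongr hl).app D).symm ≪≫
    ((Scheme.Modules.pullbackComp l U.ι).app D).symm ≪≫ (Scheme.Modules.pullback l).mapIso
      (((Scheme.Modules.restrictFunctorIsoPullback U.ι).app D).symm ≪≫ φ) ≪≫ KFlatLib.pullFreeIso l m⟩⟩

/-- A pullback from the base on a chart. -/
theorem Chart.nonempty_pb_pull (c : Chart π O1 n) (D : T.Modules) :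
    Nonempty (pb c.j (pb π D) ≅ pb (KRR.pr n (Spec c.R)) (pb c.i D)) :=
  ⟨((CohCmpLib.sqIso c.sq.w).app D).symm⟩

/-- Tensoring with a free module preserves vanishing. -/
theorem V_tens_free {S : Scheme.{u}} (G : (KRR.PY n S).Modules) (i : ℕ) (d : ℤ) (h : V i d G) :
    ∀ m : ℕ, V i d ((tF G).obj (FlatMod.freeMod (KRR.PY n S) m))
  | 0 => by
    haveI : (tF G).Additive := inferInstanceAs ((DCoh.tensorBi (X := KRR.PY n S)).obj G).Additive
    exact V.of_isZero i d ((tF G).map_isZero ((IsZero.iff_id_eq_zero _).2 (Sigma.hom_ext _ _ fun j => j.elim0)))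
  | m + 1 => by
    haveI : (tF G).Additive := inferInstanceAs ((DCoh.tensorBi (X := KRR.PY n S)).obj G).Additive
    haveI := preservesBinaryBiproducts_of_preservesBiproducts (tF G)
    refine (V.biprod (A := (tF G).obj (Coh.structureModule _)) (h.of_iso ?_) (V_tens_free G i d h m)).of_iso
      ((tF G).mapIso (CurvLib.freeModSucc _ m) ≪≫ (tF G).mapBiprod _ _)
    exact KFlatLib.tensSwap (Coh.structureModule _) G ≪≫ KFlatLib.tensUnitIso G

/-- A free module of the base on a chart. -/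
theorem V_pb_tens (c : Chart π O1 n) (D : T.Modules) {m : ℕ} (φ : pb c.i D ≅ FlatMod.freeMod (Spec c.R) m)
    (F : P.Modules) (i : ℕ) (d : ℤ) (h : V i d (pb c.j F)) : V i d (pb c.j ((tF (pb π D)).obj F)) := by
  obtain ⟨e⟩ := c.nonempty_pb_pull D
  refine (V_tens_free (pb c.j F) i d h m).of_iso ?_
  exact @asIso _ _ _ _ (KFlatLib.pullθ c.j (pb π D) F) (KFlatLib.isIso_pullθ _ _ _) ≪≫
    KFlatLib.tensSwap _ _ ≪≫ (tF (pb c.j F)).mapIso (e ≪≫ (Scheme.Modules.pullback _).mapIso φ ≪≫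
      KFlatLib.pullFreeIso (KRR.pr n (Spec c.R)) m)

variable [QuasiCompact π] [QuasiSeparated π]

theorem isQCoh_tens_pull {D : T.Modules} (hD : FlatMod.IsFinLocFree D) {F : P.Modules}
    (hF : FlatMod.IsFinLocFree F) : Coh.IsQCoh ((tF (pb π D)).obj F) :=
  (LocSuppLib.isCoh_of_isFinLocFree (vb_tens (KFlatLib.isFinLocFree_pull π hD) hF)).1

theorem RG.tensor (hcov : Covers π O1 n) (hL : PicF.IsInvertible O1) {D : T.Modules}
    (hD : FlatMod.IsFinLocFree D) {F : P.Modules} (hF : FlatMod.IsFinLocFree F) {m : ℤ} (h : RG π O1 n m F) :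
    RG π O1 n m ((tF (pb π D)).obj F) := by
  haveI := isQCoh_tens_pull (π := π) hD hF
  refine fun c i hi => V_of_cover hL c _ i _ fun x => ?_
  obtain ⟨U, k, hxU, ⟨φ⟩⟩ := hD x
  obtain ⟨c', hxc, ⟨ψ⟩⟩ := exists_chart_free hcov D φ hxU
  exact ⟨c', hxc, V_pb_tens c' D ψ F i _ (h c' i hi)⟩

theorem QP.tensor (hcov : Covers π O1 n) (hL : PicF.IsInvertible O1) {D : T.Modules}
    (hD : FlatMod.IsFinLocFree D) {F : P.Modules} (hF : FlatMod.IsFinLocFree F) (h : QP π O1 n F) :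
    QP π O1 n ((tF (pb π D)).obj F) := by
  haveI := isQCoh_tens_pull (π := π) hD hF
  refine fun c d q hq => V_of_cover hL c _ q _ fun x => ?_
  obtain ⟨U, k, hxU, ⟨φ⟩⟩ := hD x
  obtain ⟨c', hxc, ⟨ψ⟩⟩ := exists_chart_free hcov D φ hxU
  exact ⟨c', hxc, V_pb_tens c' D ψ F q _ (h c' d q hq)⟩

theorem QP.tw (hL : PicF.IsInvertible O1) {F : P.Modules} (h : QP π O1 n F) (a : ℕ) :
    QP π O1 n (tw hL (a : ℤ) F) := fun c d q hq =>
  (V_pb_tw_iff hL c q (d : ℤ) (a : ℤ) F).2 ((h c (d + a) q hq).congr (by push_cast; ring))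

omit [QuasiCompact π] [QuasiSeparated π] in
/-- The dual of the invertible module is its inverse. -/
theorem nonempty_du_O1 (hL : PicF.IsInvertible O1) : Nonempty (ChernOpLib.du O1 ≅ Otw hL (-1)) := by
  obtain ⟨-, hiso⟩ := ChernOpLib.exists_du_inv hL
  refine CubeConsLib.cl_eq_iff.1 ?_
  have h : CubeConsLib.cl O1 * CubeConsLib.cl (ChernOpLib.du O1) = 1 := by
    rw [← CubeConsLib.cl_tensor]
    exact CubeConsLib.cl_eq_one_iff.2 ⟨@asIso _ _ _ _ _ hiso⟩
  rw [cl_Otw, zpow_neg, zpow_one]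
  exact (Units.inv_eq_of_mul_eq_one_right (u := clUnit hL) h).symm

/-- The endofunctor `O(1) ⊗ A ⊗ -`. -/
abbrev Phi (hL : PicF.IsInvertible O1) (A F : P.Modules) : P.Modules := tw hL 1 ((tF A).obj F)

/-- The data of the sequence lowering regularity. -/
structure Lower (π : P ⟶ T) (O1 : P.Modules) (n : ℕ) (hL : PicF.IsInvertible O1) where
  A : P.Modules
  B : P.Modules
  vbA : FlatMod.IsFinLocFree A
  vbB : FlatMod.IsFinLocFree B
  seq : ∀ F : P.Modules, FlatMod.IsFinLocFree F → ∃ S : ShortComplex P.Modules, S.ShortExact ∧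
    Nonempty (S.X₁ ≅ F) ∧ Nonempty (S.X₂ ≅ Phi hL A F) ∧ Nonempty (S.X₃ ≅ Phi hL B F)
  reg : ∀ (m : ℤ) (F : P.Modules), FlatMod.IsFinLocFree F → RG π O1 n (m + 1) F →
    RG π O1 n m (Phi hL A F) ∧ RG π O1 n m (Phi hL B F)
  acyc : ∀ F : P.Modules, FlatMod.IsFinLocFree F → QP π O1 n F →
    QP π O1 n (Phi hL A F) ∧ QP π O1 n (Phi hL B F)

omit [QuasiCompact π] [QuasiSeparated π] in
/-- Tensoring a sequence starting at `O(-1)`. -/
theorem exists_seq_of (hL : PicF.IsInvertible O1) {S₀ : ShortComplex P.Modules} (h0 : S₀.ShortExact) {A : P.Modules}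
    (e₁ : S₀.X₁ ≅ Otw hL (-1)) (e₂ : S₀.X₂ ≅ A) (F : P.Modules) (hF : FlatMod.IsFinLocFree F) :
    ∃ S : ShortComplex P.Modules, S.ShortExact ∧ Nonempty (S.X₁ ≅ F) ∧ Nonempty (S.X₂ ≅ Phi hL A F) ∧
      Nonempty (S.X₃ ≅ Phi hL S₀.X₃ F) := by
  have h := shortExact_tens (vb_inv (Otw_inv hL 1)) (shortExact_tens hF h0)
  obtain ⟨t⟩ := nonempty_tw_tw hL 1 (-1) F
  obtain ⟨z⟩ := nonempty_tw_zero hL F
  let a₁ : (tF F).obj S₀.X₁ ≅ tw hL (-1) F := (tF F).mapIso e₁ ≪≫ KFlatLib.tensSwap (Otw hL (-1)) F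
  let a₂ : (tF F).obj S₀.X₂ ≅ (tF A).obj F := (tF F).mapIso e₂ ≪≫ KFlatLib.tensSwap A F
  let a₃ : (tF F).obj S₀.X₃ ≅ (tF S₀.X₃).obj F := KFlatLib.tensSwap S₀.X₃ F
  let b₁ := (tF (Otw hL 1)).mapIso a₁
  let b₂ := (tF (Otw hL 1)).mapIso a₂
  let b₃ := (tF (Otw hL 1)).mapIso a₃
  have z₁ : tw hL 1 (tw hL (-1) F) ≅ F :=
    t ≪≫ eqToIso (congrArg (fun d => tw hL d F) (show (1 : ℤ) + (-1) = 0 by norm_num)) ≪≫ z
  exact ⟨_, h, ⟨b₁ ≪≫ z₁⟩, ⟨b₂⟩, ⟨b₃⟩⟩

theorem exists_lower (hcov : Covers π O1 n) (hL : PicF.IsInvertible O1) {E : T.Modules}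
    (hE : FlatMod.IsFinLocFree E) (q : pb π E ⟶ O1) [Epi q] : Nonempty (Lower π O1 n hL) := by
  have hE' := KFlatLib.isFinLocFree_pull π hE
  have hO : FlatMod.IsFinLocFree O1 := vb_inv hL
  have hK : FlatMod.IsFinLocFree (kernel q) := ResPropLib.isFinLocFree_kernel q hE' hO
  have hS : (ShortComplex.mk (kernel.ι q) q (kernel.condition q)).ShortExact :=
    ShortComplex.ShortExact.mk (ShortComplex.exact_kernel q)
  obtain ⟨w, hd⟩ := ChernOpLib.shortExact_du hS (r := 1) ((CohCmpLib.invertible_iff_rank_one O1).1 hL) hK hE' hO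
  let D : T.Modules := ChernOpLib.du E
  have hD : FlatMod.IsFinLocFree D :=
    CohCmpLib.isFinLocFree_homMod hE (CurveVBLib.isFinLocFree_of_rank (CohCmpLib.rank_one_structureModule T))
  have hev := ChernOpLib.homEv_comp_iso
    (CohCmpLib.homEv_pullback π hE (CohCmpLib.homEv_evMod (P := Coh.structureModule T) hE)) (KFlatLib.pullUnitIso π)
  haveI : IsIso (CohCmpLib.curryMod (CohCmpLib.pullEv π (CohCmpLib.evMod E (Coh.structureModule T)) ≫
      (KFlatLib.pullUnitIso π).hom)) :=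
    CohCmpLib.isIso_of_homEv _ (CohCmpLib.curryMod_comp _) hev (CohCmpLib.homEv_evMod hE')
  let eD : ChernOpLib.du (pb π E) ≅ pb π D :=
    (asIso (CohCmpLib.curryMod (CohCmpLib.pullEv π (CohCmpLib.evMod E (Coh.structureModule T)) ≫
      (KFlatLib.pullUnitIso π).hom))).symm
  obtain ⟨e₁⟩ := nonempty_du_O1 hL
  let B := ChernOpLib.du (kernel q)
  have hB : FlatMod.IsFinLocFree B :=
    CohCmpLib.isFinLocFree_homMod hK (CurveVBLib.isFinLocFree_of_rank (CohCmpLib.rank_one_structureModule P))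
  have hseq : ∀ F : P.Modules, FlatMod.IsFinLocFree F → ∃ S : ShortComplex P.Modules, S.ShortExact ∧
      Nonempty (S.X₁ ≅ F) ∧ Nonempty (S.X₂ ≅ Phi hL (pb π D) F) ∧ Nonempty (S.X₃ ≅ Phi hL B F) :=
    fun F hF => exists_seq_of hL hd e₁ eD F hF
  refine ⟨⟨pb π D, B, KFlatLib.isFinLocFree_pull π hD, hB, hseq, fun m F hF h => ?_, fun F hF h => ?_⟩⟩
  · have h2 : RG π O1 n m (Phi hL (pb π D) F) := (RG_tw_iff hL m 1 _).2 (h.tensor hcov hL hD hF)
    obtain ⟨S, hS', ⟨a₁⟩, ⟨a₂⟩, ⟨a₃⟩⟩ := hseq F hF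
    refine ⟨h2, fun c i hi => ?_⟩
    refine (V_X₃ c hS' i (m - i) ?_ ?_).of_iso ((Scheme.Modules.pullback c.j).mapIso a₃.symm)
    · exact ((h c (i + 1) (by omega)).congr (by push_cast; ring)).of_iso ((Scheme.Modules.pullback c.j).mapIso a₁)
    · exact (h2 c i hi).of_iso ((Scheme.Modules.pullback c.j).mapIso a₂)
  · have h2 : QP π O1 n (Phi hL (pb π D) F) := (QP.tensor hcov hL hD hF h).tw hL 1
    obtain ⟨S, hS', ⟨a₁⟩, ⟨a₂⟩, ⟨a₃⟩⟩ := hseq F hF
    refine ⟨h2, fun c d q hq => ?_⟩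
    refine (V_X₃ c hS' q d ?_ ?_).of_iso ((Scheme.Modules.pullback c.j).mapIso a₃.symm)
    · exact (h c d (q + 1) (by omega)).of_iso ((Scheme.Modules.pullback c.j).mapIso a₁)
    · exact (h2 c d q hq).of_iso ((Scheme.Modules.pullback c.j).mapIso a₂)

/-- The twists of pullbacks of bundles of the base on a free chart. -/
theorem V_pb_gen (hL : PicF.IsInvertible O1) (c : Chart π O1 n) (N : T.Modules) {m : ℕ}
    (φ : pb c.i N ≅ FlatMod.freeMod (Spec c.R) m) (a : ℤ) (i : ℕ) (d : ℤ)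
    (h : ∀ (A : Type u) [CommRing A] (k : ℕ), i ≤ k →
      Subsingleton (Coh.HH (CohB1.ProjSpace n A) (Twist.twistProjSpace n A (d + a)) k)) :
    V i d (pb c.j (tw hL a (pb π N))) := by
  obtain ⟨e⟩ := c.nonempty_pb_pull N
  haveI : Coh.IsQCoh (FlatMod.freeMod (Spec c.R) m) :=
    (LocSuppLib.isCoh_of_isFinLocFree (vb_free _ m)).1
  exact (V_pb_tw_iff hL c i d a _).2
    ((KRRRegLib.V_pullback (FlatMod.freeMod (Spec c.R) m) i (d + a) h).of_iso
      (e ≪≫ (Scheme.Modules.pullback _).mapIso φ))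

theorem isQCoh_gen (hL : PicF.IsInvertible O1) {N : T.Modules} (hN : FlatMod.IsFinLocFree N) (a : ℤ) :
    Coh.IsQCoh (tw hL a (pb π N)) :=
  (LocSuppLib.isCoh_of_isFinLocFree (vb_tens (vb_inv (Otw_inv hL a)) (KFlatLib.isFinLocFree_pull π hN))).1

/-- Vanishing for twists of pullbacks of bundles. -/
theorem V_gen (hcov : Covers π O1 n) (hL : PicF.IsInvertible O1) {N : T.Modules} (hN : FlatMod.IsFinLocFree N)
    (c : Chart π O1 n) (a : ℤ) (i : ℕ) (d : ℤ)
    (h : ∀ (A : Type u) [CommRing A] (k : ℕ), i ≤ k →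
      Subsingleton (Coh.HH (CohB1.ProjSpace n A) (Twist.twistProjSpace n A (d + a)) k)) :
    V i d (pb c.j (tw hL a (pb π N))) := by
  haveI := isQCoh_gen (π := π) hL hN a
  refine V_of_cover hL c _ i d fun x => ?_
  obtain ⟨U, k, hxU, ⟨φ⟩⟩ := hN x
  obtain ⟨c', hxc, ⟨ψ⟩⟩ := exists_chart_free hcov N φ hxU
  exact ⟨c', hxc, V_pb_gen hL c' N ψ a i d h⟩

/-- The generators are acyclic. -/
theorem QP_gen (hcov : Covers π O1 n) (hL : PicF.IsInvertible O1) {N : T.Modules} (hN : FlatMod.IsFinLocFree N)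
    (a : ℤ) (ha : -(n : ℤ) ≤ a) : QP π O1 n (tw hL a (pb π N)) := fun c d q hq =>
  V_gen hcov hL hN c a q d fun A _ k hk =>
    PnCohLib.subsingleton_HH_twist _ k (fun h => by omega) (fun h => by omega)

end ProjKLib

end
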