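import Groth.Agent.ProjKLib.Main
import Groth.Agent.VBResLib.KFunct

/-!
# The trivial bundle, and equal classes have equal direct images
-/

set_option autoImplicit false
set_option linter.style.haveILetI false
set_option linter.unusedSectionVars false
set_option backward.isDefEq.respectTransparency false
set_option backward.isDefEq.respectTransparency.types false
set_option maxHeartbeats 1000000

universe u

open CategoryTheory CategoryTheory.Limits AlgebraicGeometry TopologicalSpace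
open KFlatLib (pb)

noncomputable section

namespace ProjKLib

open Groth.Agent

/-- Projective space over any base is a projective bundle, with `O(1)` the twisting module. -/
theorem exists_bundle_PY (n : ℕ) (S : Scheme.{u}) :
    ∃ (E : S.Modules) (q : pb (KRR.pr n S) E ⟶ Twist.twistOver n S 1),
      FlatMod.IsFinLocFreeOfRank (n + 1) E ∧ KRR.IsProjBundle (KRR.pr n S) E (Twist.twistOver n S 1) q := by
  let p := KRR.pr n S
  haveI : IsProper p := ChowLib.isProper_toBase n S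
  obtain ⟨hE, hP⟩ := ProjRecLib.isProjBundle_push (f := p) (PicPnLib.twistOver_inv n S 1) (n := n) fun b => by
    obtain ⟨V, hV, hbV, -⟩ := exists_isAffineOpen_mem_and_subset (show b ∈ (⊤ : S.Opens) from trivial)
    obtain ⟨j, hj, hd⟩ := PicPnLib.exists_square (n := n) (R := (Γ(S, V) : Type u)) hV.fromSpec
    let e : pullback p hV.fromSpec ≅ CohB1.ProjSpace n Γ(S, V) := hj.isoPullback.symm
    have he : e.hom ≫ CohB1.ProjSpace.toSpec n Γ(S, V) = pullback.snd p hV.fromSpec := hj.isoPullback_inv_snd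
    refine ⟨Γ(S, V), inferInstance, hV.fromSpec, inferInstance, (Set.ext_iff.1 hV.range_fromSpec b).2 hbV, e, he,
      ⟨(Scheme.Modules.pullback e.hom).mapIso (hd 1).some.symm ≪≫
        (Scheme.Modules.pullbackComp e.hom j).app (Twist.twistOver n S 1) ≪≫
        (Scheme.Modules.pullbackCongr hj.isoPullback_inv_fst).app (Twist.twistOver n S 1)⟩⟩
  exact ⟨_, _, hE, hP⟩

/-- The twisting modules of projective space are the powers of `O(1)`. -/
theorem nonempty_Otw_twistOver (n : ℕ) (S : Scheme.{u}) (hL : PicF.IsInvertible (Twist.twistOver n S 1)) (i : ℕ) :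
    Nonempty (Twist.twistOver n S (i : ℤ) ≅ Otw hL (i : ℤ)) := by
  obtain ⟨a⟩ := KRRRegLib.nonempty_pow_O1 n S i
  obtain ⟨b⟩ := nonempty_tensorPow hL (Twist.twistOver n S 1) 1 (nonempty_Otw_one hL).some.symm i
  exact ⟨a.symm ≪≫ b ≪≫ eqToIso (congrArg _ (one_mul _))⟩

/-- Equal classes have direct images of equal class after a large twist. -/
theorem exists_push_eq {T P : Scheme.{u}} [CompactSpace T] {π : P ⟶ T} {E : T.Modules} {O1 : P.Modules}
    {q : pb π E ⟶ O1} {n : ℕ} (hP : KRR.IsProjBundle π E O1 q) (hE : FlatMod.IsFinLocFreeOfRank (n + 1) E)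
    (F G : P.Modules) (hF : FlatMod.IsFinLocFree F) (hG : FlatMod.IsFinLocFree G)
    (h : KRR.cl P F = KRR.cl P G) :
    ∃ n₀ : ℕ, ∀ m : ℕ, n₀ ≤ m →
      FlatMod.IsFinLocFree ((Scheme.Modules.pushforward π).obj (tw (inv_O1 hP) (m : ℤ) F)) ∧
      FlatMod.IsFinLocFree ((Scheme.Modules.pushforward π).obj (tw (inv_O1 hP) (m : ℤ) G)) ∧
      pcl π (tw (inv_O1 hP) (m : ℤ) F) = pcl π (tw (inv_O1 hP) (m : ℤ) G) := by
  obtain ⟨_, _, hcov, ⟨L₀⟩⟩ := bundle_data hP hE
  let hL := inv_O1 hP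
  obtain ⟨χ, hχ⟩ := exists_chi hcov hL L₀
  obtain ⟨a, ha⟩ := exists_RG hcov hL hF
  obtain ⟨b, hb⟩ := exists_RG hcov hL hG
  refine ⟨a + b, fun m hm => ?_⟩
  have qF : QP π O1 n (tw hL (m : ℤ) F) := ((RG_tw_iff hL 0 _ F).2 (ha.mono (by omega))).qp
  have qG : QP π O1 n (tw hL (m : ℤ) G) := ((RG_tw_iff hL 0 _ G).2 (hb.mono (by omega))).qp
  have vF := vb_tens (vb_inv (Otw_inv hL (m : ℤ))) hF
  have vG := vb_tens (vb_inv (Otw_inv hL (m : ℤ))) hG
  refine ⟨vb_push hcov hL vF qF, vb_push hcov hL vG qG, ?_⟩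
  rw [← hχ _ vF qF, ← hχ _ vG qG, ← twK_cl hL _ hF, ← twK_cl hL _ hG, h]

/-- The twisted direct images of bundles with equal classes, on projective space. -/
theorem exists_push_eq_PY (S : Scheme.{u}) [CompactSpace S] (r : ℕ)
    (F G : (KRR.PY r S).Modules) (hF : FlatMod.IsFinLocFree F) (hG : FlatMod.IsFinLocFree G)
    (h : KRR.cl (KRR.PY r S) F = KRR.cl (KRR.PY r S) G) :
    ∃ n₀ : ℕ, ∀ n : ℕ, n₀ ≤ n →
      FlatMod.IsFinLocFree ((Scheme.Modules.pushforward (KRR.pr r S)).obj (KRR.twF r S (n : ℤ) F)) ∧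
      FlatMod.IsFinLocFree ((Scheme.Modules.pushforward (KRR.pr r S)).obj (KRR.twF r S (n : ℤ) G)) ∧
      KRR.cl S ((Scheme.Modules.pushforward (KRR.pr r S)).obj (KRR.twF r S (n : ℤ) F)) =
        KRR.cl S ((Scheme.Modules.pushforward (KRR.pr r S)).obj (KRR.twF r S (n : ℤ) G)) := by
  obtain ⟨E, q, hE, hP⟩ := exists_bundle_PY r S
  obtain ⟨n₀, hn⟩ := exists_push_eq hP hE F G hF hG h
  refine ⟨n₀, fun n hn' => ?_⟩
  obtain ⟨hA, hB, he⟩ := hn n hn'
  obtain ⟨t⟩ := nonempty_Otw_twistOver r S (inv_O1 hP) n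
  have a : ∀ M, (Scheme.Modules.pushforward (KRR.pr r S)).obj (tw (inv_O1 hP) (n : ℤ) M) ≅
      (Scheme.Modules.pushforward (KRR.pr r S)).obj (KRR.twF r S (n : ℤ) M) := fun M =>
    (Scheme.Modules.pushforward (KRR.pr r S)).mapIso (HilbPolyLib.congrLeft t.symm M)
  exact ⟨PerfLib.isFinLocFree_of_iso (a F) hA, PerfLib.isFinLocFree_of_iso (a G) hB,
    (KHeartLib.clSub_congr (KRR.vbP S) (a F)).symm.trans (he.trans (KHeartLib.clSub_congr (KRR.vbP S) (a G)))⟩

/-- `K₀` of projective space with the basis of nonnegative twists. -/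
theorem bijective_basis_PY (S : Scheme.{u}) [CompactSpace S] (r : ℕ)
    (G : Fin (r + 1) → (SGA6.Kvb S →+ SGA6.Kvb (KRR.PY r S)))
    (hG : ∀ (i : Fin (r + 1)) (N : S.Modules), FlatMod.IsFinLocFree N →
      G i (KRR.cl S N) = KRR.cl (KRR.PY r S) (KRR.twF r S ((i : ℕ) : ℤ) (pb (KRR.pr r S) N))) :
    Function.Bijective (fun a : Fin (r + 1) → SGA6.Kvb S => ∑ i : Fin (r + 1), G i (a i)) := by
  obtain ⟨E, q, hE, hP⟩ := exists_bundle_PY r S
  have h := bijective_shift hP hE (r : ℤ) (fun i => G i.rev) fun i N hN => by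
    rw [hG i.rev N hN]
    obtain ⟨t⟩ := nonempty_Otw_twistOver r S (inv_O1 hP) (i.rev : ℕ)
    refine KHeartLib.clSub_congr (KRR.vbP _) (HilbPolyLib.congrLeft (t ≪≫ eqToIso (congrArg _ ?_)) _)
    rw [Fin.val_rev]
    omega
  let e : (Fin (r + 1) → SGA6.Kvb S) ≃ (Fin (r + 1) → SGA6.Kvb S) := Equiv.arrowCongr Fin.revPerm (Equiv.refl _)
  have h' := h.comp e.bijective
  convert h' using 1
  funext a
  refine (Equiv.sum_comp Fin.revPerm (fun i => G i (a i))).symm.trans (Finset.sum_congr rfl fun i _ => ?_)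
  simp [e, Function.comp]

end ProjKLib

end
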