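import Groth.Agent.ProjKLib.Main

/-!
# Higher direct images of the powers of the tautological module
-/

set_option autoImplicit false
set_option linter.style.haveILetI false
set_option linter.unusedSectionVars false
set_option backward.isDefEq.respectTransparency false
set_option backward.isDefEq.respectTransparency.types false
set_option maxHeartbeats 1000000

universe u

open CategoryTheory CategoryTheory.Limits AlgebraicGeometry TopologicalSpace
open KFlatLib (pb)
open KRRRegLib (V)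

noncomputable section

namespace ProjKLib

open Groth.Agent

/-- The twists of the structure sheaf, degree by degree. -/
theorem V_twist {n : ℕ} {T : Scheme.{u}} (i : ℕ) (d : ℤ) (h₀ : ¬ (i = 0 ∧ 0 ≤ d))
    (hn : ¬ (i = n ∧ d ≤ -((n : ℤ) + 1))) : V i d (Coh.structureModule (KRR.PY n T)) := by
  let f := KRR.pr n T
  haveI : IsProper f := ChowLib.isProper_toBase n T
  let O' := Twist.twistOver n T d
  let M := KRR.twF n T d (Coh.structureModule (KRR.PY n T))
  have eM : M ≅ O' := KFlatLib.tensSwap (Coh.structureModule _) O' ≪≫ KFlatLib.tensUnitIso O'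
  haveI : Coh.IsQCoh M :=
    @QCohLib.isQCoh_of_iso _ _ _ eM.symm (LocSuppLib.isCoh_of_isFinLocFree (vb_inv (PicPnLib.twistOver_inv n T d))).1
  refine RpushLib.isZero_rpushAb f M i fun y => ⟨⊤, trivial, fun W hW _ => ?_⟩
  obtain ⟨j, hj, hd⟩ := PicPnLib.exists_square n Γ(T, W) hW.fromSpec
  haveI : IsOpenImmersion j := MorphismProperty.of_isPullback hj.flip (inferInstance : IsOpenImmersion hW.fromSpec)
  obtain ⟨e⟩ := hd d
  have hr : j ''ᵁ ⊤ = f ⁻¹ᵁ W := by
    rw [Scheme.Hom.image_top_eq_opensRange]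
    apply TopologicalSpace.Opens.ext
    rw [Scheme.Hom.coe_opensRange, AnLib.range_eq_preimage_of_isPullback hj.flip, hW.range_fromSpec]
    rfl
  obtain ⟨e₁⟩ := QCohLib.nonempty_HU_restrict j M i ⊤
  obtain ⟨e₂⟩ := QCohLib.nonempty_HU_restrict (f ⁻¹ᵁ W).ι M i ⊤
  haveI : Subsingleton (QCohLib.HU ((QCohLib.toAbF _).obj M) i (j ''ᵁ ⊤)) := by
    let a : M.restrict j ≅ Twist.twistProjSpace n Γ(T, W) d :=
      (Scheme.Modules.restrictFunctorIsoPullback j).app M ≪≫ (Scheme.Modules.pullback j).mapIso eM ≪≫ e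
    have h1 : Subsingleton (Coh.HH _ (M.restrict j) i) :=
      SerreVanLib.subsingleton_HH_of_iso a i (PnCohLib.subsingleton_HH_twist d i h₀ hn)
    haveI := AmpleDevLib.hu_of_hh h1
    exact e₁.symm.injective.subsingleton
  refine AmpleDevLib.hh_of_hu ?_
  haveI : Subsingleton (QCohLib.HU ((QCohLib.toAbF _).obj M) i ((f ⁻¹ᵁ W).ι ''ᵁ ⊤)) := by
    rw [Scheme.Opens.ι_image_top, ← hr]; assumption
  exact e₂.injective.subsingleton

variable {T P : Scheme.{u}} {π : P ⟶ T} {O1 : P.Modules} {n : ℕ}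

/-- Higher direct images of the powers of `O(1)`. -/
theorem isZero_rpush_Otw [QuasiCompact π] [QuasiSeparated π] (hcov : Covers π O1 n) (hL : PicF.IsInvertible O1)
    (i : ℕ) (d : ℤ) (h₀ : ¬ (i = 0 ∧ 0 ≤ d)) (hn : ¬ (i = n ∧ d ≤ -((n : ℤ) + 1))) :
    IsZero ((Coh.RpushAb π i).obj (Coh.toAb (Otw hL d))) := by
  haveI : Coh.IsQCoh (Coh.structureModule P) := QCohLib.isQCoh_unit
  have h := isZero_rpushAb_of_charts hcov hL (Coh.structureModule P) i d fun c =>
    (V_twist (T := Spec c.R) i d h₀ hn).of_iso (KFlatLib.pullUnitIso c.j)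
  exact IsZero.of_iso h ((Coh.RpushAb π i).mapIso ((QCohLib.toAbF P).mapIso
    (KFlatLib.tensSwap (Coh.structureModule P) (Otw hL d) ≪≫ KFlatLib.tensUnitIso _))).symm

/-- Vanishing of higher direct images of the powers of the tautological module. -/
theorem isZero_rpush_pow {E : T.Modules} {q : pb π E ⟶ O1} (hP : KRR.IsProjBundle π E O1 q)
    (hE : FlatMod.IsFinLocFreeOfRank (n + 1) E) (L : P.Modules) (hL : ClSub.IsInverseOf L O1) :
    (∀ (m i : ℕ), i ≠ 0 → IsZero ((Coh.RpushAb π i).obj (Coh.toAb (CohB1.tensorPow O1 m)))) ∧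
    (∀ (m i : ℕ), 1 ≤ m → ¬ (i = n ∧ n + 1 ≤ m) →
      IsZero ((Coh.RpushAb π i).obj (Coh.toAb (CohB1.tensorPow L m)))) := by
  haveI := ProjBunLib.isProper hP hE
  have hcov : Covers π O1 n := exists_chart hP hE
  let h1 := inv_O1 hP
  refine ⟨fun m i hi => ?_, fun m i hm hi => ?_⟩
  · obtain ⟨t⟩ := nonempty_tensorPow h1 O1 1 (nonempty_Otw_one h1).some.symm m
    exact IsZero.of_iso (isZero_rpush_Otw hcov h1 i (1 * (m : ℤ)) (fun h => hi h.1) (fun h => by omega))
      ((Coh.RpushAb π i).mapIso ((QCohLib.toAbF P).mapIso t))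
  · obtain ⟨e⟩ := nonempty_inv h1 L hL
    obtain ⟨t⟩ := nonempty_tensorPow h1 L (-1) e m
    exact IsZero.of_iso (isZero_rpush_Otw hcov h1 i (-1 * (m : ℤ)) (fun h => by omega)
      (fun h => hi ⟨h.1, by omega⟩))
      ((Coh.RpushAb π i).mapIso ((QCohLib.toAbF P).mapIso t))

end ProjKLib

end
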